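import Cfsg.Agent.Lib.Perm.PermModule

/-!
A module criterion for triple transitivity.
-/

set_option autoImplicit false

namespace Cfsg.Agent.Perm

open MulAction Finset
open scoped Pointwise

variable {G : Type*} [Group G] {Ω : Type*} [MulAction G Ω]

/-- Transitivity on ordered triples from a two-point-stabiliser condition. -/
theorem three_transitive_of_stabilizer [IsMultiplyPretransitive G Ω 2]
    (h : ∀ a b c d : Ω, a ≠ b → c ≠ a → c ≠ b → d ≠ a → d ≠ b →
      ∃ g : G, g • a = a ∧ g • b = b ∧ g • c = d) :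
    IsMultiplyPretransitive G Ω 3 := by
  rw [MulAction.isMultiplyPretransitive_iff]
  intro x y
  have h01 : (0 : Fin 3) ≠ 1 := by decide
  have h02 : (0 : Fin 3) ≠ 2 := by decide
  have h12 : (1 : Fin 3) ≠ 2 := by decide
  have h2 : IsMultiplyPretransitive G Ω 2 := inferInstance
  rw [is_two_pretransitive_iff] at h2
  obtain ⟨g₁, e0, e1⟩ := h2 (x.injective.ne h01) (y.injective.ne h01)
  obtain ⟨g₂, f0, f1, f2⟩ := h (y 0) (y 1) (g₁ • x 2) (y 2) (y.injective.ne h01)
    (fun e => x.injective.ne h02 ((MulAction.injective g₁) (e0.trans e.symm)))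
    (fun e => x.injective.ne h12 ((MulAction.injective g₁) (e1.trans e.symm)))
    (y.injective.ne h02.symm) (y.injective.ne h12.symm)
  refine ⟨g₂ * g₁, ?_⟩
  ext i
  rw [Function.Embedding.smul_apply, mul_smul]
  fin_cases i
  · show g₂ • g₁ • x 0 = y 0; rw [e0, f0]
  · show g₂ • g₁ • x 1 = y 1; rw [e1, f1]
  · exact f2

theorem three_transitive_of_hom_eq_zero [Finite G] {K : Type*} [Field K] {p : ℕ} [Fact p.Prime]
    [CharP K p] [Fintype Ω] [DecidableEq Ω] [FaithfulSMul G Ω]
    (h2 : IsMultiplyPretransitive G Ω 2) (_hp : p ∣ Fintype.card Ω)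
    (heven : ∀ a : Ω, Even (Nat.card (stabilizer G a)))
    (h : ∀ f : Representation.IntertwiningMap (Cfsg.permSumZero K G Ω).toRepresentation
        (Cfsg.permRep K G (Set.powersetCard Ω 2)),
      (∀ v : (Cfsg.permSumZero K G Ω).toSubmodule,
        (v : Ω → K) ∈ (Cfsg.permConstants K G Ω).toSubmodule → f v = 0) → f = 0) :
    IsMultiplyPretransitive G Ω 3 := by
  haveI := h2
  have h2' : ∀ {a b c d : Ω}, a ≠ b → c ≠ d → ∃ g : G, g • a = c ∧ g • b = d :=
    fun {a b c d} => is_two_pretransitive_iff.mp h2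
  -- the set stabiliser of a pair is transitive outside the pair
  have key : ∀ a b c d : Ω, a ≠ b → c ≠ a → c ≠ b → d ≠ a → d ≠ b →
      ∃ g : G, ((g • a = a ∧ g • b = b) ∨ (g • a = b ∧ g • b = a)) ∧ g • c = d := by
    intro a b c d hab hca hcb hda hdb
    by_contra hno
    classical
    let P₀ : Set.powersetCard Ω 2 := ⟨{a, b}, Finset.card_pair hab⟩
    let inP : Set.powersetCard Ω 2 → Ω → K := fun P x => if x ∈ (P : Finset Ω) then 1 else 0
    let inO : Set.powersetCard Ω 2 → Ω → K := fun P x =>
      if ∃ g : G, g • P₀ = P ∧ g • c = x then 1 else 0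
    have hinP : ∀ (g : G) P x, inP (g • P) (g • x) = inP P x := fun g P x => by
      simp only [inP, Set.powersetCard.coe_smul, Finset.smul_mem_smul_finset_iff]
    have hinO : ∀ (g : G) P x, inO (g • P) (g • x) = inO P x := fun g P x => by
      have : (∃ k : G, k • P₀ = g • P ∧ k • c = g • x) ↔ ∃ k : G, k • P₀ = P ∧ k • c = x := by
        constructor
        · rintro ⟨k, h1, h2⟩
          exact ⟨g⁻¹ * k, by rw [mul_smul, h1, inv_smul_smul], by rw [mul_smul, h2, inv_smul_smul]⟩
        · rintro ⟨k, h1, h2⟩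
          exact ⟨g * k, by rw [mul_smul, h1], by rw [mul_smul, h2]⟩
      simp only [inO, this]
    have hpairs : ∀ P : Set.powersetCard Ω 2, ∃ g : G, g • P₀ = P := by
      intro P
      obtain ⟨u, v, huv, hP⟩ := Finset.card_eq_two.mp P.2
      obtain ⟨g, e1, e2⟩ := h2' hab huv
      refine ⟨g, Subtype.ext ?_⟩
      rw [Set.powersetCard.coe_smul, hP]
      simp [P₀, Finset.smul_finset_insert, e1, e2]
    let s : K := ∑ x, inO P₀ x
    let φ : Set.powersetCard Ω 2 → Ω → K :=
      if (2 : K) = 0 then inP else fun P x => s * inP P x - 2 * inO P x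
    have hφ : ∀ (g : G) P x, φ (g • P) (g • x) = φ P x := by
      intro g P x
      simp only [φ]
      split_ifs
      · exact hinP g P x
      · simp only [hinP, hinO]
    have hsumP₀ : ∑ x, inP P₀ x = 2 := by
      simp only [inP, P₀, Finset.sum_boole, Finset.filter_univ_mem, Finset.card_pair hab]
      norm_num
    have hsum : ∀ P, ∑ x, φ P x = 0 := by
      intro P
      obtain ⟨g, rfl⟩ := hpairs P
      rw [← sum_inv_smul g⁻¹ (fun x => φ (g • P₀) x)]
      simp only [inv_inv, hφ]
      simp only [φ]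
      split_ifs with h20
      · rw [hsumP₀, h20]
      · rw [Finset.sum_sub_distrib, ← Finset.mul_sum, ← Finset.mul_sum, hsumP₀]
        show s * 2 - 2 * s = 0
        ring
    let L := (kerMap φ).comp (Cfsg.permSumZero K G Ω).toSubmodule.subtype
    let f : Representation.IntertwiningMap (Cfsg.permSumZero K G Ω).toRepresentation
        (Cfsg.permRep K G (Set.powersetCard Ω 2)) :=
      L.intertwiningMap_of_isIntertwiningMap _ _ (fun g v => kerMap_comm hφ g v.1)
    have hf : f = 0 := h f fun v hv => by
      obtain ⟨e, he⟩ := (mem_permConstants_iff v.1).mp hv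
      show kerMap φ (v.1) = 0
      funext P
      rw [kerMap_apply, he, ← Finset.sum_mul, hsum, zero_mul]; rfl
    have hconst : ∀ x y, φ P₀ x = φ P₀ y := by
      intro x y
      have hv : Pi.single x 1 - Pi.single y 1 ∈ (Cfsg.permSumZero K G Ω).toSubmodule := by
        rw [mem_permSumZero_iff]; simp
      have : f ⟨_, hv⟩ = 0 := by rw [hf]; rfl
      have := congrFun (show kerMap φ (Pi.single x 1 - Pi.single y 1) = 0 from this) P₀
      rw [map_sub, Pi.sub_apply, kerMap_single, kerMap_single] at this
      exact sub_eq_zero.mp this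
    have hPc : inP P₀ c = 0 := by simp [inP, P₀, hca, hcb]
    have hPd : inP P₀ d = 0 := by simp [inP, P₀, hda, hdb]
    by_cases h20 : (2 : K) = 0
    · have := hconst a c
      simp only [φ, if_pos h20, hPc] at this
      simp [inP, P₀] at this
    · have hOc : inO P₀ c = 1 := if_pos ⟨1, one_smul _ _, one_smul _ _⟩
      have hOd : inO P₀ d = 0 := by
        refine if_neg fun ⟨g, hg, hgc⟩ => hno ⟨g, ?_, hgc⟩
        have e : g • ({a, b} : Finset Ω) = {a, b} := by
          have := congrArg (fun P : Set.powersetCard Ω 2 => (P : Finset Ω)) hg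
          simpa [P₀] using this
        have ha : g • a ∈ ({a, b} : Finset Ω) := e ▸ Finset.smul_mem_smul_finset (by simp)
        have hb : g • b ∈ ({a, b} : Finset Ω) := e ▸ Finset.smul_mem_smul_finset (by simp)
        have hne : g • a ≠ g • b := fun q => hab (MulAction.injective g q)
        simp only [Finset.mem_insert, Finset.mem_singleton] at ha hb
        rcases ha with ha | ha <;> rcases hb with hb | hb
        · exact absurd (ha.trans hb.symm) hne
        · exact Or.inl ⟨ha, hb⟩
        · exact Or.inr ⟨ha, hb⟩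
        · exact absurd (ha.trans hb.symm) hne
      have := hconst c d
      simp only [φ, if_neg h20, hPc, hPd, hOc, hOd] at this
      simp [h20] at this
  apply three_transitive_of_stabilizer
  intro a b c d hab hca hcb hda hdb
  obtain ⟨g, hg | hg, hgc⟩ := key a b c d hab hca hcb hda hdb
  · exact ⟨g, hg.1, hg.2, hgc⟩
  -- a transposition on some triple
  haveI : Fact (Nat.Prime 2) := ⟨Nat.prime_two⟩
  obtain ⟨t, ht⟩ := exists_prime_orderOf_dvd_card' 2 (even_iff_two_dvd.mp (heven d))
  have ht2 : (t : G) * t = 1 := by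
    have := pow_orderOf_eq_one t
    rw [ht, pow_two] at this
    exact congrArg Subtype.val this
  have ht1 : (t : G) ≠ 1 := fun e => by
    rw [OneMemClass.coe_eq_one] at e
    simp [e] at ht
  obtain ⟨u, hu⟩ : ∃ u : Ω, (t : G) • u ≠ u := by
    by_contra hall
    push Not at hall
    exact ht1 (FaithfulSMul.eq_of_smul_eq_smul (α := Ω) (by simpa using hall))
  have htd : (t : G) • d = d := t.2
  have hud : u ≠ d := fun e => hu (by rw [e, htd])
  have htud : (t : G) • u ≠ d := fun e => hud (MulAction.injective (t : G) (e.trans htd.symm))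
  obtain ⟨g₁, e1, e2⟩ := h2' (Ne.symm hu) hab
  obtain ⟨g₂, hg₂, e3⟩ := key a b (g₁ • d) d hab
    (fun e => hud.symm (MulAction.injective g₁ (e.trans e1.symm)))
    (fun e => htud.symm (MulAction.injective g₁ (e.trans e2.symm))) hda hdb
  let k := g₂ * g₁
  have hkd : k • d = d := by rw [mul_smul, e3]
  have hconj : ∀ x : Ω, (k * t * k⁻¹) • (k • x) = k • ((t : G) • x) := fun x => by
    rw [mul_smul, mul_smul, inv_smul_smul]
  have hswap : (k * t * k⁻¹) • a = b ∧ (k * t * k⁻¹) • b = a := by
    rcases hg₂ with ⟨ha, hb⟩ | ⟨ha, hb⟩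
    · have ka : k • u = a := by rw [mul_smul, e1, ha]
      have kb : k • ((t : G) • u) = b := by rw [mul_smul, e2, hb]
      constructor
      · conv_lhs => rw [← ka]
        rw [hconj, kb]
      · conv_lhs => rw [← kb]
        rw [hconj, ← mul_smul (t : G), ht2, one_smul, ka]
    · have kb : k • u = b := by rw [mul_smul, e1, ha]
      have ka : k • ((t : G) • u) = a := by rw [mul_smul, e2, hb]
      constructor
      · conv_lhs => rw [← ka]
        rw [hconj, ← mul_smul (t : G), ht2, one_smul, kb]
      · conv_lhs => rw [← kb]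
        rw [hconj, ka]
  refine ⟨(k * t * k⁻¹) * g, by rw [mul_smul, hg.1, hswap.2], by rw [mul_smul, hg.2, hswap.1], ?_⟩
  rw [mul_smul, hgc]
  exact ((congrArg ((k * t * k⁻¹) • ·) hkd).symm.trans (hconj d)).trans (by rw [htd, hkd])

end Cfsg.Agent.Perm
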