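import Cfsg.Agent.Lib.Perm.PrimeDegree
import Cfsg.Agent.Lib.Perm.ThreeTransitive
import Cfsg.Agent.FGS80.Burnside

/-!
Neumann's results on transitive groups of prime degree: the heart of the permutation module,
triple transitivity, subgroups of index `p`.
-/

set_option autoImplicit false

namespace Cfsg.Agent.Perm.PrimeDeg

open MulAction Polynomial
open scoped Pointwise

variable {p : ℕ} [hp : Fact p.Prime] {α : Type*} [Fintype α] [DecidableEq α]
  {G : Subgroup (Equiv.Perm α)}

theorem not_sq_dvd_card (hα : Fintype.card α = p) : ¬ p ^ 2 ∣ Nat.card G := by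
  intro h
  have h2 : Nat.card G ∣ p.factorial := by
    have := Subgroup.card_subgroup_dvd_card G
    rw [Nat.card_perm, Nat.card_eq_fintype_card (α := α), hα] at this
    exact this
  have := h.trans h2
  rw [← Nat.mul_factorial_pred hp.out.ne_zero, pow_two] at this
  have := (hp.out.dvd_factorial).mp (Nat.dvd_of_mul_dvd_mul_left hp.out.pos this)
  have := hp.out.pos
  omega

variable [IsPretransitive G α]

theorem prime_dvd_card (hα : Fintype.card α = p) : p ∣ Nat.card G := by
  haveI : Nonempty α := Fintype.card_pos_iff.mp (hα ▸ hp.out.pos)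
  have := card_dvd_card (G := G) (X := α)
  rwa [Nat.card_eq_fintype_card, hα] at this

theorem card_sylow (hα : Fintype.card α = p) (P : Sylow p G) :
    Nat.card (P : Subgroup G) = p := by
  obtain ⟨n, hn⟩ := IsPGroup.iff_card.mp P.2
  have h1 : p ∣ Nat.card (P : Subgroup G) := P.dvd_card_of_dvd_card (prime_dvd_card hα)
  have h2 : Nat.card (P : Subgroup G) ∣ Nat.card G := Subgroup.card_subgroup_dvd_card _
  rw [hn] at h1 h2 ⊢
  rcases n with _ | _ | n
  · simp [hp.out.ne_one] at h1
  · simp
  · exact absurd ((pow_dvd_pow p (by omega)).trans h2) (not_sq_dvd_card hα)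

theorem exists_coord_of_sylow (hα : Fintype.card α = p) (P : Sylow p G) :
    ∃ (τ : G) (e : ZMod p ≃ α), (∀ i, τ • e i = e (i + 1)) ∧ orderOf τ = p ∧
      (P : Subgroup G) = Subgroup.zpowers τ := by
  obtain ⟨t, ht⟩ := exists_prime_orderOf_dvd_card' p
    (show p ∣ Nat.card (P : Subgroup G) by rw [card_sylow hα P])
  have hτ : orderOf (t : G) = p := by rw [Subgroup.orderOf_coe, ht]
  obtain ⟨e, he⟩ := exists_coord (Nat.card_eq_fintype_card.trans hα)
    (τ := ((t : G) : Equiv.Perm α)) (by rw [Subgroup.orderOf_coe, hτ])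
  refine ⟨t, e, he, hτ, (Subgroup.eq_of_le_of_card_ge (Subgroup.zpowers_le.mpr t.2) ?_).symm⟩
  rw [card_sylow hα P, Nat.card_zpowers, hτ]

omit [Fintype α] [DecidableEq α] [IsPretransitive G α] in
theorem conjPerm_symm_apply (e : ZMod p ≃ α) (g : G) (i : ZMod p) :
    e.symm (g • e i) = conjPerm e g i := rfl

variable {K : Type*} [Field K] [CharP K p]

/-- The heart of the permutation module of a non-affine group of prime degree is irreducible. -/
theorem heart_irreducible (hG : ¬ Group.IsSolvable G) {τ : G} {e : ZMod p ≃ α}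
    (he : ∀ i, τ • e i = e (i + 1)) (W : Subrepresentation (Cfsg.permRep K G α))
    (h₁ : (Cfsg.permConstants K G α).toSubmodule ≤ W.toSubmodule)
    (h₂ : W.toSubmodule ≤ (Cfsg.permSumZero K G α).toSubmodule) :
    W = Cfsg.permConstants K G α ∨ W = Cfsg.permSumZero K G α := by
  let L : (ZMod p → K) ≃ₗ[K] (α → K) := LinearEquiv.funCongrLeft K K e.symm
  have hL : ∀ f x, L f x = f (e.symm x) := fun f x => rfl
  let U : Submodule K (ZMod p → K) := W.toSubmodule.comap L.toLinearMap
  have hU : ∀ g : G, ∀ f ∈ U, f ∘ conjPerm e g ∈ U := by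
    intro g f hf
    show L (f ∘ conjPerm e g) ∈ W.toSubmodule
    have := W.apply_mem_toSubmodule g⁻¹ (show L f ∈ W.toSubmodule from hf)
    convert this using 1
    funext x
    obtain ⟨i, rfl⟩ := e.surjective x
    rw [permRep_apply, inv_inv, hL, hL, Equiv.symm_apply_apply, Function.comp_apply,
      conjPerm_symm_apply]
  have hshift : ∀ f ∈ U, (fun j => f (j - 1)) ∈ U := by
    intro f hf
    have := hU τ⁻¹ f hf
    convert this using 1
    funext j
    show f (j - 1) = f (conjPerm e τ⁻¹ j)
    congr 1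
    apply e.injective
    rw [← apply_coord, eq_inv_smul_iff, he, sub_add_cancel]
  obtain ⟨r, hrp, hr⟩ := exists_eq_polySpace U hshift
  have hconst : (fun _ : ZMod p => (1 : K)) ∈ U :=
    h₁ ((mem_permConstants_iff _).mpr ⟨1, rfl⟩)
  have hr1 : 1 ≤ r := by
    by_contra h0
    rw [hr, show r = 0 by omega, polySpace_zero, Submodule.mem_bot] at hconst
    exact one_ne_zero (congrFun hconst 0)
  have hsum : ∀ f : ZMod p → K, ∑ x, L f x = ∑ j, f j := fun f =>
    Fintype.sum_equiv e.symm _ _ (fun x => hL f x)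
  have hUle : U ≤ polySpace p K (p - 1) := by
    intro f hf
    rw [polySpace_sub_one_eq, LinearMap.mem_ker, LinearMap.sum_apply]
    simp only [LinearMap.proj_apply]
    rw [← hsum]
    exact h₂ hf
  have hr2 : r ≤ p - 1 := by
    have := Submodule.finrank_mono hUle
    rwa [hr, finrank_polySpace hrp, finrank_polySpace (Nat.sub_le p 1)] at this
  have hsurj : ∀ w : α → K, ∃ f, L f = w := fun w => ⟨L.symm w, L.apply_symm_apply w⟩
  rcases Nat.eq_or_lt_of_le hr1 with hre | hlt
  · left
    apply Subrepresentation.toSubmodule_injective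
    refine le_antisymm (fun w hw => ?_) h₁
    obtain ⟨f, rfl⟩ := hsurj w
    have hf : f ∈ polySpace p K 1 := hre ▸ hr ▸ (show f ∈ U from hw)
    obtain ⟨c, rfl⟩ := mem_polySpace_one.mp hf
    exact (mem_permConstants_iff _).mpr ⟨c, rfl⟩
  rcases Nat.eq_or_lt_of_le hr2 with hre | hlt2
  · right
    apply Subrepresentation.toSubmodule_injective
    refine le_antisymm h₂ (fun w hw => ?_)
    obtain ⟨f, rfl⟩ := hsurj w
    show f ∈ U
    rw [hr, hre, polySpace_sub_one_eq, LinearMap.mem_ker, LinearMap.sum_apply]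
    simp only [LinearMap.proj_apply]
    rw [← hsum]
    exact hw
  exfalso
  apply hG
  refine isSolvable_of_affine e fun g => ?_
  rw [hr] at hU
  by_cases hsmall : 2 * r ≤ p + 1
  · exact affine_of_polySpace_invariant (conjPerm e g) (s := r) (by omega) hsmall (hU g)
  · refine affine_of_polySpace_invariant (K := K) (conjPerm e g) (s := p - r) (by omega) (by omega)
      fun u hu => mem_polySpace_of_orthogonal (by omega) fun w hw => ?_
    rw [← orthogonal_of_mem hrp hu (hU g⁻¹ w hw)]
    refine Fintype.sum_equiv (conjPerm e g) _ _ fun j => ?_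
    show u (conjPerm e g j) * w j = u (conjPerm e g j) * w (conjPerm e g⁻¹ (conjPerm e g j))
    rw [← conjPerm_mul, inv_mul_cancel, conjPerm_one]

/-- If a Sylow normaliser has even order there is a reflection in suitable coordinates. -/
theorem exists_reflection (hα : Fintype.card α = p) (hp2 : p ≠ 2) (P : Sylow p G)
    (heven : Even (Nat.card (Subgroup.normalizer ((P : Subgroup G) : Set G)))) :
    ∃ (τ : G) (e : ZMod p ≃ α) (t : G) (b : ZMod p),
      (∀ i, τ • e i = e (i + 1)) ∧ t ≠ 1 ∧ ∀ i, t • e i = e (b - i) := by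
  obtain ⟨τ, e, he, hτ, hP⟩ := exists_coord_of_sylow hα P
  haveI : Fact (Nat.Prime 2) := ⟨Nat.prime_two⟩
  obtain ⟨t, ht⟩ := exists_prime_orderOf_dvd_card' 2 (even_iff_two_dvd.mp heven)
  have ht2 : (t : G) * t = 1 := by
    have := pow_orderOf_eq_one t
    rw [ht, pow_two] at this
    exact congrArg Subtype.val this
  have ht1 : (t : G) ≠ 1 := fun e' => by
    rw [OneMemClass.coe_eq_one] at e'; simp [e'] at ht
  have hconj : (t : G) * τ * (t : G)⁻¹ ∈ Subgroup.zpowers τ :=
    hP ▸ (Subgroup.mem_normalizer_iff.mp t.2 τ).mp (hP.symm ▸ Subgroup.mem_zpowers τ)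
  obtain ⟨j, hj⟩ := (isOfFinOrder_of_finite τ).mem_powers_iff_mem_zpowers.mpr hconj
  have haff := conjPerm_add_one_of_normalizes he hj.symm
  set b := conjPerm e (t : G) 0
  have hinv : ∀ x, b + (j : ZMod p) * (b + (j : ZMod p) * x) = x := fun x => by
    rw [← haff, ← haff, ← conjPerm_mul, ht2, conjPerm_one]
  have hj2 : ((j : ZMod p) - 1) * ((j : ZMod p) + 1) = 0 := by
    have h0 := hinv 0
    have h1 := hinv 1
    linear_combination h1 - h0
  have hjm : (j : ZMod p) = -1 := by
    rcases mul_eq_zero.mp hj2 with h | h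
    · exfalso
      rw [sub_eq_zero] at h
      have h0 := hinv 0
      rw [h] at h0
      have : (2 : ZMod p) * b = 0 := by linear_combination h0
      have hb : b = 0 := by
        rcases mul_eq_zero.mp this with h2 | h2
        · exfalso
          rw [show (2 : ZMod p) = ((2 : ℕ) : ZMod p) from Nat.cast_two.symm,
            ZMod.natCast_eq_zero_iff] at h2
          exact hp2 ((Nat.prime_dvd_prime_iff_eq hp.out Nat.prime_two).mp h2)
        · exact h2
      exact ht1 (conjPerm_injective e (Equiv.ext fun x => by rw [haff, hb, h, conjPerm_one]; ring))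
    · exact eq_neg_of_add_eq_zero_left h
  refine ⟨τ, e, t, b, he, ht1, fun i => ?_⟩
  rw [apply_coord, haff, hjm]
  congr 1; ring

theorem affine_perm_two : ∀ (π : Equiv.Perm (ZMod 2)) (x : ZMod 2),
    π x = π 0 + (π 1 - π 0) * x := by decide

theorem affine_perm_three : ∀ (π : Equiv.Perm (ZMod 3)) (x : ZMod 3),
    π x = π 0 + (π 1 - π 0) * x := by decide

omit [IsPretransitive G α] in
theorem five_le_of_not_isSolvable (hα : Fintype.card α = p) (hG : ¬ Group.IsSolvable G)
    [IsPretransitive G α] : 5 ≤ p := by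
  by_contra h
  have hp' : p = 2 ∨ p = 3 := by
    have := hp.out.two_le
    have h4 : p ≠ 4 := fun e => absurd (e ▸ hp.out : Nat.Prime 4) (by decide)
    omega
  obtain ⟨τ, e, he, hτ, hP⟩ := exists_coord_of_sylow hα (default : Sylow p G)
  apply hG
  refine isSolvable_of_affine e fun g => ?_
  rcases hp' with rfl | rfl
  · exact affine_perm_two _
  · exact affine_perm_three _

omit [IsPretransitive G α] in
theorem hom_pairs_eq_zero {H : Type*} [Group H] [MulAction H α] (hα : Fintype.card α = p)
    (hp5 : 5 ≤ p) {τ t : H} {e : ZMod p ≃ α} {b : ZMod p} (he : ∀ i, τ • e i = e (i + 1))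
    (ht : ∀ i, t • e i = e (b - i))
    (hirr : ∀ W : Subrepresentation (Cfsg.permRep (ZMod p) H α),
      (Cfsg.permConstants (ZMod p) H α).toSubmodule ≤ W.toSubmodule →
      W.toSubmodule ≤ (Cfsg.permSumZero (ZMod p) H α).toSubmodule →
      W = Cfsg.permConstants (ZMod p) H α ∨ W = Cfsg.permSumZero (ZMod p) H α)
    (f : Representation.IntertwiningMap (Cfsg.permSumZero (ZMod p) H α).toRepresentation
        (Cfsg.permRep (ZMod p) H (Set.powersetCard α 2)))
    (hf : ∀ v : (Cfsg.permSumZero (ZMod p) H α).toSubmodule,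
      (v : α → ZMod p) ∈ (Cfsg.permConstants (ZMod p) H α).toSubmodule → f v = 0) : f = 0 := by
  have hb2 : (2 : ZMod p) ≠ 0 := by
    rw [show (2 : ZMod p) = ((2 : ℕ) : ZMod p) from Nat.cast_two.symm, Ne,
      ZMod.natCast_eq_zero_iff]
    exact fun hd => absurd (Nat.le_of_dvd (by omega) hd) (by omega)
  let u : α → ZMod p := fun x => e.symm x
  have hu : u ∈ (Cfsg.permSumZero (ZMod p) H α).toSubmodule := by
    rw [mem_permSumZero_iff]
    show ∑ x, e.symm x = 0
    rw [Equiv.sum_comp e.symm (fun j => j)]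
    have := FiniteField.sum_pow_lt_card_sub_one (ZMod p) 1 (by rw [ZMod.card]; omega)
    simpa using this
  have hsym : ∀ (g : H) i j, g • e i = e j → e.symm (g⁻¹ • e j) = i := fun g i j h => by
    rw [← h, inv_smul_smul, Equiv.symm_apply_apply]
  let one' : (Cfsg.permSumZero (ZMod p) H α).toSubmodule :=
    ⟨fun _ => 1, by rw [mem_permSumZero_iff]; simp [hα]⟩
  have hf1 : f one' = 0 := hf one' ((mem_permConstants_iff _).mpr ⟨1, rfl⟩)
  have hτu : f ((Cfsg.permSumZero (ZMod p) H α).toRepresentation τ ⟨u, hu⟩) = f ⟨u, hu⟩ := by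
    have e1 : (Cfsg.permSumZero (ZMod p) H α).toRepresentation τ ⟨u, hu⟩ = ⟨u, hu⟩ - one' := by
      apply Subtype.ext
      funext x
      obtain ⟨i, rfl⟩ := e.surjective x
      show e.symm (τ⁻¹ • e i) = e.symm (e i) - 1
      rw [hsym τ (i - 1) i (by rw [he, sub_add_cancel]), Equiv.symm_apply_apply]
    rw [e1, map_sub, hf1, sub_zero]
  have htu : f ((Cfsg.permSumZero (ZMod p) H α).toRepresentation t ⟨u, hu⟩) = - f ⟨u, hu⟩ := by
    have e1 : (Cfsg.permSumZero (ZMod p) H α).toRepresentation t ⟨u, hu⟩ = b • one' - ⟨u, hu⟩ := by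
      apply Subtype.ext
      funext x
      obtain ⟨i, rfl⟩ := e.surjective x
      show e.symm (t⁻¹ • e i) = b * 1 - e.symm (e i)
      rw [hsym t (b - i) i (by rw [ht, sub_sub_cancel]), Equiv.symm_apply_apply, mul_one]
    rw [e1, map_sub, map_smul, hf1, smul_zero, zero_sub]
  rw [f.isIntertwining] at hτu htu
  have hzero : f ⟨u, hu⟩ = 0 := by
    funext Q
    have hinvτ : ∀ (n : ℕ) R, f ⟨u, hu⟩ (τ ^ n • R) = f ⟨u, hu⟩ R := by
      intro n
      induction n with
      | zero => simp
      | succ n ih =>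
        intro R
        rw [pow_succ', mul_smul, ← ih R]
        conv_lhs => rw [← hτu]
        rw [permRep_apply, inv_smul_smul]
    obtain ⟨x, y, hxy, hQ⟩ := Finset.card_eq_two.mp Q.2
    obtain ⟨i, rfl⟩ := e.surjective x
    obtain ⟨j, rfl⟩ := e.surjective y
    set k : ZMod p := (b - i - j) * 2⁻¹
    have hpow : ∀ (n : ℕ) i, τ ^ n • e i = e (i + n) := by
      intro n
      induction n with
      | zero => intro i; simp
      | succ n ih => intro i; rw [pow_succ', mul_smul, ih, he]; congr 1; push_cast; ring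
    let R := τ ^ k.val • Q
    have hR : (R : Finset α) = {e (i + k), e (j + k)} := by
      show ((τ ^ k.val • Q : Set.powersetCard α 2) : Finset α) = _
      rw [Set.powersetCard.coe_smul, hQ]
      simp [Finset.smul_finset_insert, hpow]
    have htR : t⁻¹ • R = R := by
      rw [inv_smul_eq_iff]
      apply Subtype.ext
      rw [Set.powersetCard.coe_smul (g := t) (s := R), hR, Finset.smul_finset_insert, Finset.smul_finset_singleton,
        ht, ht, Finset.pair_comm]
      congr 2 <;> first | rfl | (congr 1; simp only [k]; field_simp; ring)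
    have h0 := congrFun htu R
    rw [permRep_apply, htR, Pi.neg_apply, eq_neg_iff_add_eq_zero, ← two_mul, mul_eq_zero] at h0
    have := h0.resolve_left hb2
    rwa [hinvτ] at this
  let Kf : Subrepresentation (Cfsg.permRep (ZMod p) H α) :=
    { toSubmodule := (LinearMap.ker f.toLinearMap).map
        (Cfsg.permSumZero (ZMod p) H α).toSubmodule.subtype
      apply_mem_toSubmodule := by
        rintro g _ ⟨v, hv, rfl⟩
        refine ⟨(Cfsg.permSumZero (ZMod p) H α).toRepresentation g v, ?_, rfl⟩
        show f _ = 0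
        rw [f.isIntertwining, show f v = 0 from hv, map_zero] }
  rcases hirr Kf
    (by
      intro w hw
      obtain ⟨c, rfl⟩ := (mem_permConstants_iff w).mp hw
      exact ⟨⟨fun _ => c, by rw [mem_permSumZero_iff]; simp [hα]⟩,
        hf _ ((mem_permConstants_iff _).mpr ⟨c, rfl⟩), rfl⟩)
    (by rintro _ ⟨v, _, rfl⟩; exact v.2) with h | h
  · exfalso
    have hmem : u ∈ Kf.toSubmodule := ⟨⟨u, hu⟩, hzero, rfl⟩
    rw [h, mem_permConstants_iff] at hmem
    obtain ⟨c, hc⟩ := hmem
    have h0 := congrFun hc (e 0)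
    have h1 := congrFun hc (e 1)
    simp only [u, Equiv.symm_apply_apply] at h0 h1
    exact zero_ne_one (h0.trans h1.symm)
  · apply Representation.IntertwiningMap.ext
    apply LinearMap.ext
    intro v
    have : (v : α → ZMod p) ∈ Kf.toSubmodule := by rw [h]; exact v.2
    obtain ⟨w, hw, hwv⟩ := this
    rw [← Subtype.ext hwv]
    exact hw

theorem three_transitive (hα : Fintype.card α = p) (hG : ¬ Group.IsSolvable G) (P : Sylow p G)
    (heven : Even (Nat.card (Subgroup.normalizer ((P : Subgroup G) : Set G)))) :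
    IsMultiplyPretransitive G α 3 := by
  have hp5 := five_le_of_not_isSolvable hα hG
  obtain ⟨τ, e, t, b, he, ht1, ht⟩ := exists_reflection hα (by omega) P heven
  have h2 : IsMultiplyPretransitive G α 2 :=
    (Cfsg.Agent.FGS80.Burnside.isSolvable_or_two_transitive (G := G) hα).resolve_left hG
  have hb2 : (2 : ZMod p) ≠ 0 := by
    rw [show (2 : ZMod p) = ((2 : ℕ) : ZMod p) from Nat.cast_two.symm, Ne,
      ZMod.natCast_eq_zero_iff]
    exact fun hd => absurd (Nat.le_of_dvd (by omega) hd) (by omega)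
  refine three_transitive_of_hom_eq_zero (K := ZMod p) (p := p) h2 hα.symm.dvd ?_ ?_
  · intro a
    obtain ⟨g, hg⟩ := exists_smul_eq G (e (b * 2⁻¹)) a
    have hfix : t • e (b * 2⁻¹) = e (b * 2⁻¹) := by
      rw [ht]; congr 1; field_simp; ring
    have hmem : g * t * g⁻¹ ∈ stabilizer G a := by
      rw [mem_stabilizer_iff, ← hg, mul_smul, mul_smul, inv_smul_smul, hfix]
    have htt : t * t = 1 := by
      apply conjPerm_injective e
      ext1 i
      apply e.injective
      rw [← apply_coord, ← apply_coord, mul_smul, ht, ht, one_smul, sub_sub_cancel]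
    have ho : orderOf (⟨_, hmem⟩ : stabilizer G a) = 2 := by
      rw [← Subgroup.orderOf_coe, orderOf_conj]
      exact orderOf_eq_prime (by rw [pow_two, htt]) ht1
    exact even_iff_two_dvd.mpr (ho ▸ orderOf_dvd_natCard _)
  exact hom_pairs_eq_zero hα hp5 he ht (fun W => heart_irreducible hG he W)

end Cfsg.Agent.Perm.PrimeDeg
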