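import Cfsg.Agent.Lib.Perm.PrimeDegreeIndex

/-!
Orders of transitive groups of prime degree: Sylow normalisers and their counting.
-/

set_option autoImplicit false

namespace Cfsg.Agent.Perm.PrimeDeg

open MulAction
open scoped Pointwise

variable {p : ℕ} [hp : Fact p.Prime] {α : Type*} [Fintype α] [DecidableEq α]
  {G : Subgroup (Equiv.Perm α)} [IsPretransitive G α]

theorem centralizer_sylow_eq (hα : Fintype.card α = p) (P : Sylow p G) :
    Subgroup.centralizer ((P : Subgroup G) : Set G) = (P : Subgroup G) := by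
  obtain ⟨τ, e, he, hτ, hP⟩ := exists_coord_of_sylow hα P
  have hpow : ∀ (n : ℕ) i, τ ^ n • e i = e (i + n) := by
    intro n
    induction n with
    | zero => intro i; simp
    | succ n ih => intro i; rw [pow_succ', mul_smul, ih, he]; congr 1; push_cast; ring
  haveI : NeZero p := ⟨hp.out.ne_zero⟩
  haveI : IsPretransitive (P : Subgroup G) α := ⟨fun x y => by
    obtain ⟨i, rfl⟩ := e.surjective x
    obtain ⟨j, rfl⟩ := e.surjective y
    refine ⟨⟨τ ^ (j - i).val, hP.symm ▸ pow_mem (Subgroup.mem_zpowers τ) _⟩, ?_⟩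
    show τ ^ (j - i).val • e i = e j
    rw [hpow, ZMod.natCast_zmod_val, add_sub_cancel]⟩
  apply le_antisymm
  · intro c hc
    obtain ⟨n, hn, e'⟩ := subgroup_exists_smul_eq (N := (P : Subgroup G)) (e 0) (c • e 0)
    have : n⁻¹ * c = 1 := eq_one_of_commute (M := (P : Subgroup G)) (fun m hm => by
      have h1 : Commute m c := Subgroup.mem_centralizer_iff.mp hc m hm
      have h2 : Commute m n := by
        rw [hP] at hm hn
        obtain ⟨a, rfl⟩ := Subgroup.mem_zpowers_iff.mp hm
        obtain ⟨b, rfl⟩ := Subgroup.mem_zpowers_iff.mp hn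
        exact Commute.zpow_zpow_self τ a b
      exact ((h2.inv_right.mul_right h1).eq).symm) (x := e 0)
      (by rw [mul_smul, inv_smul_eq_iff]; exact e'.symm)
    rw [inv_mul_eq_one] at this
    exact this ▸ hn
  · intro c hc
    rw [Subgroup.mem_centralizer_iff]
    intro m hm
    rw [SetLike.mem_coe, hP] at hm
    rw [hP] at hc
    obtain ⟨a, rfl⟩ := Subgroup.mem_zpowers_iff.mp hm
    obtain ⟨b, rfl⟩ := Subgroup.mem_zpowers_iff.mp hc
    exact (Commute.zpow_zpow_self τ a b).eq

theorem card_normalizer_dvd (hα : Fintype.card α = p) (P : Sylow p G) :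
    Nat.card (Subgroup.normalizer ((P : Subgroup G) : Set G)) ∣ p * (p - 1) := by
  set N := Subgroup.normalizer ((P : Subgroup G) : Set G)
  haveI : IsCyclic (P : Subgroup G) := isCyclic_of_prime_card (card_sylow hα P)
  let f := Subgroup.normalizerMonoidHom (P : Subgroup G)
  have h1 : Nat.card N = Nat.card f.ker * Nat.card f.range := by
    rw [← Subgroup.index_ker f, mul_comm]
    exact (Subgroup.index_mul_card f.ker).symm
  rw [h1]
  refine mul_dvd_mul ?_ ?_
  · rw [Subgroup.normalizerMonoidHom_ker, centralizer_sylow_eq hα P]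
    exact ((Nat.card_congr (Subgroup.subgroupOfEquivOfLe Subgroup.le_normalizer).toEquiv).trans
      (card_sylow hα P)).dvd
  · refine (Subgroup.card_subgroup_dvd_card _).trans ?_
    rw [IsCyclic.card_mulAut, card_sylow hα P, Nat.totient_prime hp.out]

/-- Sylow's count, split off the normaliser. -/
theorem exists_card_eq_mul (P : Sylow p G) :
    ∃ n : ℕ, Nat.card G = n * Nat.card (Subgroup.normalizer ((P : Subgroup G) : Set G)) ∧
      n % p = 1 := by
  refine ⟨Nat.card (Sylow p G), ?_, ?_⟩
  · rw [P.card_eq_index_normalizer]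
    exact (Subgroup.index_mul_card _).symm
  · exact Nat.mod_eq_of_modEq (card_sylow_modEq_one p G) hp.out.one_lt

theorem normal_sylow_of_isSolvable (hα : Fintype.card α = p) (hG : Group.IsSolvable G)
    (P : Sylow p G) : (P : Subgroup G).Normal := by
  classical
  obtain ⟨τ, e, he, hτ, hP⟩ := exists_coord_of_sylow hα P
  have hcardα : Nat.card α = p := Nat.card_eq_fintype_card.trans hα
  haveI : Nontrivial G := ⟨τ, 1, fun h => by
    rw [h, orderOf_one] at hτ; exact hp.out.one_lt.ne hτ⟩
  haveI : IsPreprimitive G α := IsPreprimitive.of_prime_card (hcardα.symm ▸ hp.out)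
  obtain ⟨n, hn⟩ := (isSolvable_def G).mp hG
  have hex : ∃ n, derivedSeries G n = ⊥ := ⟨n, hn⟩
  set m := Nat.find hex
  have hm : derivedSeries G m = ⊥ := Nat.find_spec hex
  have hm0 : m ≠ 0 := fun h0 => by
    rw [h0, derivedSeries_zero] at hm
    exact top_ne_bot hm
  obtain ⟨q, hq⟩ := Nat.exists_eq_succ_of_ne_zero hm0
  let A := derivedSeries G q
  have hA : A ≠ ⊥ := Nat.find_min hex (show q < m by omega)
  have hAab : IsMulCommutative A := by
    refine ⟨⟨fun x y => Subtype.ext ?_⟩⟩
    have h0 : ⁅A, A⁆ = ⊥ := by rw [← hm, hq]; rfl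
    have hxy : (x : G) * y * (x : G)⁻¹ * (y : G)⁻¹ ∈ ⁅A, A⁆ :=
      Subgroup.commutator_mem_commutator x.2 y.2
    rw [h0, Subgroup.mem_bot, mul_inv_eq_one, mul_inv_eq_iff_eq_mul] at hxy
    exact hxy
  haveI : IsPretransitive A α := isPretransitive_of_normal_ne_bot A hA
  have hcard : Nat.card A = p := by
    rw [card_eq_of_regular (stabilizer_eq_bot_of_isMulCommutative hAab (e 0)), hcardα]
  let S : Sylow p G := Sylow.ofCard A (by
    rw [hcard]
    have h1 : (Nat.card G).factorization p = 1 := by
      refine le_antisymm ?_ ?_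
      · by_contra h
        exact not_sq_dvd_card (G := G) hα
          ((Nat.Prime.pow_dvd_iff_le_factorization hp.out Nat.card_pos.ne').mpr (by omega))
      · exact (Nat.Prime.dvd_iff_one_le_factorization hp.out Nat.card_pos.ne').mp
          (prime_dvd_card hα)
    rw [h1, pow_one])
  haveI : (S : Subgroup G).Normal := derivedSeries_normal G q
  haveI := Sylow.unique_of_normal S inferInstance
  rw [Subsingleton.elim P S]
  infer_instance

omit [IsPretransitive G α] in
theorem isSolvable_of_normal_sylow [IsPretransitive G α] (hα : Fintype.card α = p) (P : Sylow p G)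
    (hP : (P : Subgroup G).Normal) : Group.IsSolvable G := by
  obtain ⟨τ, e, he, hτ, hPz⟩ := exists_coord_of_sylow hα P
  refine isSolvable_of_affine e fun g => ?_
  have hmem : g * τ * g⁻¹ ∈ Subgroup.zpowers τ :=
    hPz ▸ hP.conj_mem τ (hPz.symm ▸ Subgroup.mem_zpowers τ) g
  obtain ⟨j, hj⟩ := (isOfFinOrder_of_finite τ).mem_powers_iff_mem_zpowers.mpr hmem
  intro x
  have h := conjPerm_add_one_of_normalizes he hj.symm
  rw [h x, h 1, mul_one, add_sub_cancel_left]

theorem card_normalizer_ne_prime (hα : Fintype.card α = p) (hG : ¬ Group.IsSolvable G)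
    (P : Sylow p G) : Nat.card (Subgroup.normalizer ((P : Subgroup G) : Set G)) ≠ p := by
  intro h
  have hle : Subgroup.normalizer ((P : Subgroup G) : Set G) ≤
      Subgroup.centralizer ((P : Subgroup G) : Set G) := by
    rw [centralizer_sylow_eq hα P]
    exact (Subgroup.eq_of_le_of_card_ge Subgroup.le_normalizer
      (h.trans (card_sylow hα P).symm).le).ge
  set K := (MonoidHom.transferSylow P hle).ker
  have hc := MonoidHom.ker_transferSylow_isComplement' P hle
  have hKp : ¬ p ∣ Nat.card K := fun hd => by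
    apply not_sq_dvd_card (G := G) hα
    rw [← hc.card_mul, card_sylow hα P, pow_two]
    exact mul_dvd_mul_right hd p
  haveI : IsPreprimitive G α :=
    IsPreprimitive.of_prime_card (Nat.card_eq_fintype_card.trans hα |>.symm ▸ hp.out)
  by_cases hK : K = ⊥
  · apply hG
    refine isSolvable_of_normal_sylow hα P ?_
    have : (P : Subgroup G) = ⊤ := by
      have := hc.sup_eq_top
      rwa [show (MonoidHom.transferSylow P hle).ker = ⊥ from hK, bot_sup_eq] at this
    rw [this]
    infer_instance
  · haveI := isPretransitive_of_normal_ne_bot (X := α) K hK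
    haveI : Nonempty α := Fintype.card_pos_iff.mp (hα ▸ hp.out.pos)
    apply hKp
    have := card_dvd_card (G := K) (X := α)
    rwa [Nat.card_eq_fintype_card, hα] at this

end Cfsg.Agent.Perm.PrimeDeg
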