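import Cfsg.Agent.Lib.Perm.Basic

/-!
Transitive minimal normal subgroups of permutation groups.
-/

set_option autoImplicit false

namespace Cfsg.Agent.Perm

open MulAction

variable {α : Type*} {G : Subgroup (Equiv.Perm α)}

theorem isPretransitive_map_subtype (M : Subgroup G) [IsPretransitive M α] :
    IsPretransitive (M.map G.subtype : Subgroup (Equiv.Perm α)) α := by
  refine ⟨fun x y => ?_⟩
  obtain ⟨m, hm⟩ := exists_smul_eq M x y
  exact ⟨⟨((m : G) : Equiv.Perm α), Subgroup.mem_map.mpr ⟨m, m.2, rfl⟩⟩, hm⟩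

theorem commute_of_normal_disjoint {H : Type*} [Group H] {M N : Subgroup H} [M.Normal] [N.Normal]
    (h : M ⊓ N = ⊥) : ∀ m ∈ M, ∀ n ∈ N, m * n = n * m := fun m hm n hn =>
  Subgroup.commute_of_normal_of_disjoint M N inferInstance inferInstance (disjoint_iff.mpr h)
    m n hm hn

/-- If two transitive subgroups commute then each is the full centraliser of the other. -/
theorem centralizer_eq_of_commute {M N : Subgroup G} [IsPretransitive M α] [IsPretransitive N α]
    (hc : ∀ m ∈ M, ∀ n ∈ N, m * n = n * m) :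
    Subgroup.centralizer ((M.map G.subtype : Subgroup (Equiv.Perm α)) : Set (Equiv.Perm α))
      = N.map G.subtype := by
  rcases isEmpty_or_nonempty α with hα | ⟨⟨a⟩⟩
  · exact Subsingleton.elim _ _
  haveI := isPretransitive_map_subtype M
  apply le_antisymm
  · intro c hcc
    obtain ⟨n, hn⟩ := exists_smul_eq N a (c a)
    have e : ((n : G) : Equiv.Perm α)⁻¹ * c = 1 := by
      refine eq_one_of_commute (G := Equiv.Perm α) (M := M.map G.subtype) (fun m hm => ?_)
        (x := a) ?_
      · obtain ⟨m, hm', rfl⟩ := Subgroup.mem_map.mp hm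
        have h1 : G.subtype m * c = c * G.subtype m :=
          Subgroup.mem_centralizer_iff.mp hcc _ (Subgroup.mem_map.mpr ⟨m, hm', rfl⟩)
        have h2 : (m : Equiv.Perm α) * ((n : G) : Equiv.Perm α) = ((n : G) : Equiv.Perm α) * m :=
          congrArg Subtype.val (hc m hm' n n.2)
        have h3 := (show Commute (m : Equiv.Perm α) ((n : G) : Equiv.Perm α) from h2).inv_right.eq
        simp only [Subgroup.coe_subtype] at h1 ⊢
        rw [mul_assoc, ← h1, ← mul_assoc, ← h3, mul_assoc]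
      · rw [mul_smul, inv_smul_eq_iff]
        exact hn.symm
    rw [inv_mul_eq_one] at e
    exact e ▸ Subgroup.mem_map.mpr ⟨n, n.2, rfl⟩
  · rintro _ ⟨n, hn, rfl⟩
    rw [Subgroup.mem_centralizer_iff]
    rintro _ ⟨m, hm, rfl⟩
    exact congrArg Subtype.val (hc m hm n hn)

theorem centralizer_eq_self_of_abelian {M : Subgroup G} [IsPretransitive M α]
    (hab : IsMulCommutative M) :
    Subgroup.centralizer ((M.map G.subtype : Subgroup (Equiv.Perm α)) : Set (Equiv.Perm α))
      = M.map G.subtype :=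
  centralizer_eq_of_commute fun m hm n hn =>
    congrArg Subtype.val (hab.is_comm.comm (⟨m, hm⟩ : M) ⟨n, hn⟩)

theorem map_subtype_inj {M N : Subgroup G} : M.map G.subtype = N.map G.subtype ↔ M = N :=
  (Subgroup.map_injective G.subtype_injective).eq_iff

theorem le_centralizer_map_of_commute {M N : Subgroup G} (hc : ∀ m ∈ M, ∀ n ∈ N, m * n = n * m) :
    N.map G.subtype ≤
      Subgroup.centralizer ((M.map G.subtype : Subgroup (Equiv.Perm α)) : Set (Equiv.Perm α)) := by
  rintro _ ⟨n, hn, rfl⟩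
  rw [Subgroup.mem_centralizer_iff]
  rintro _ ⟨m, hm, rfl⟩
  exact congrArg Subtype.val (hc m hm n hn)

/-- A normal abelian subgroup that is minimal normal has prime exponent. -/
theorem exists_prime_exponent {H : Type*} [Group H] (M : Subgroup H) [Finite M] [M.Normal]
    (hM : M ≠ ⊥) (hmin : ∀ L : Subgroup H, L.Normal → L ≤ M → L = ⊥ ∨ L = M)
    (hab : IsMulCommutative M) : ∃ p : ℕ, p.Prime ∧ ∀ m ∈ M, m ^ p = 1 := by
  have hne : Nat.card M ≠ 1 := fun e => hM (Subgroup.card_eq_one.mp e)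
  obtain ⟨p, hp, hdvd⟩ := Nat.exists_prime_and_dvd hne
  haveI : Fact p.Prime := ⟨hp⟩
  obtain ⟨m₀, hm₀⟩ := exists_prime_orderOf_dvd_card' p hdvd
  let L : Subgroup H :=
    { carrier := {m | m ∈ M ∧ m ^ p = 1}
      one_mem' := ⟨one_mem M, one_pow p⟩
      mul_mem' := fun {a b} ha hb => ⟨mul_mem ha.1 hb.1, by
        have hcomm : Commute a b :=
          congrArg Subtype.val (hab.is_comm.comm (⟨a, ha.1⟩ : M) ⟨b, hb.1⟩)
        rw [hcomm.mul_pow, ha.2, hb.2, one_mul]⟩
      inv_mem' := fun {a} ha => ⟨inv_mem ha.1, by rw [inv_pow, ha.2, inv_one]⟩ }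
  have hLn : L.Normal := ⟨fun a ha g => ⟨Subgroup.Normal.conj_mem inferInstance a ha.1 g, by
    rw [conj_pow, ha.2, mul_one, mul_inv_cancel]⟩⟩
  refine ⟨p, hp, ?_⟩
  rcases hmin L hLn (fun a ha => ha.1) with e | e
  · exfalso
    have hmem : (m₀ : H) ∈ L := ⟨m₀.2, by
      rw [← hm₀]; exact_mod_cast congrArg Subtype.val (pow_orderOf_eq_one m₀)⟩
    rw [e, Subgroup.mem_bot, OneMemClass.coe_eq_one] at hmem
    rw [hmem, orderOf_one] at hm₀
    exact hp.ne_one hm₀.symm
  · exact fun m hm => (e.symm ▸ hm : m ∈ L).2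

end Cfsg.Agent.Perm
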