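import Mathlib.GroupTheory.PGroup
import Mathlib.GroupTheory.SpecificGroups.Cyclic
import Mathlib.GroupTheory.SpecificGroups.Quaternion
import Mathlib.GroupTheory.Nilpotent
import Mathlib.GroupTheory.Sylow
import Mathlib.GroupTheory.Subgroup.Center
import Mathlib.Data.Nat.Choose.Basic
import Mathlib.Data.Nat.Choose.Dvd
import Mathlib.Algebra.BigOperators.Group.Finset.Defs
import Mathlib.Tactic.Group

/-!
# Nilpotent groups of class two with all abelian subgroups cyclic

If moreover every proper characteristic subgroup is central, the group is quaternion of order 8.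
-/

set_option autoImplicit false
set_option linter.style.haveILetI false

namespace Cfsg.Agent.Perm.ClassTwo

variable {P : Type*} [Group P]

/-- The commutator `x y x⁻¹ y⁻¹`. -/
def cm (x y : P) : P := x * y * x⁻¹ * y⁻¹

theorem mul_eq_cm (x y : P) : x * y = cm x y * (y * x) := by unfold cm; group

theorem cm_eq_one_iff {x y : P} : cm x y = 1 ↔ x * y = y * x := by
  constructor
  · intro h; rw [mul_eq_cm x y, h, one_mul]
  · intro h; rw [cm, h]; group

theorem cm_inv (x y : P) : (cm x y)⁻¹ = cm y x := by unfold cm; group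

theorem map_cm {Q : Type*} [Group Q] (φ : P →* Q) (x y : P) : φ (cm x y) = cm (φ x) (φ y) := by
  simp [cm]

variable (hclass : ∀ x y z : P, cm x y * z = z * cm x y)

include hclass

theorem cm_mul_left (x x' y : P) : cm (x * x') y = cm x y * cm x' y := by
  have e : cm (x * x') y = x * cm x' y * (y * x⁻¹ * y⁻¹) := by unfold cm; group
  rw [e, ← hclass x' y x, mul_assoc, hclass x y (cm x' y)]
  unfold cm; group

theorem cm_mul_right (x y y' : P) : cm x (y * y') = cm x y * cm x y' := by
  rw [← cm_inv (y * y') x, cm_mul_left hclass, mul_inv_rev, cm_inv, cm_inv, hclass x y' _]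

theorem cm_pow_left (x y : P) : ∀ n : ℕ, cm (x ^ n) y = cm x y ^ n := by
  intro n
  induction n with
  | zero => simp [cm]
  | succ n ih => rw [pow_succ, cm_mul_left hclass, ih, pow_succ]

theorem pow_mul_pow (x y : P) : ∀ n : ℕ, y ^ n * x = cm y x ^ n * (x * y ^ n) := by
  intro n
  rw [mul_eq_cm (y ^ n) x, cm_pow_left hclass]

theorem mul_pow_eq (x y : P) : ∀ n : ℕ, (x * y) ^ n = cm y x ^ n.choose 2 * (x ^ n * y ^ n) := by
  intro n
  induction n with
  | zero => simp
  | succ n ih =>
    have hc : Commute (cm y x ^ n) (x ^ n) := (show Commute (cm y x) (x ^ n) from hclass y x _).pow_left _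
    have key : x ^ n * (y ^ n * (x * y)) = cm y x ^ n * (x ^ (n + 1) * y ^ (n + 1)) := by
      calc x ^ n * (y ^ n * (x * y)) = x ^ n * ((y ^ n * x) * y) := by group
        _ = x ^ n * (cm y x ^ n * (x * y ^ n) * y) := by rw [pow_mul_pow hclass x y n]
        _ = (x ^ n * cm y x ^ n) * (x * (y ^ n * y)) := by group
        _ = (cm y x ^ n * x ^ n) * (x * (y ^ n * y)) := by rw [hc.eq]
        _ = _ := by rw [pow_succ x, pow_succ y]; simp only [mul_assoc]
    rw [pow_succ, ih, Nat.choose_succ_succ, Nat.choose_one_right, add_comm n (n.choose 2),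
      pow_add, mul_assoc, mul_assoc, key, mul_assoc]

omit hclass

/-- A homomorphism out of `Q₈` from the defining relations. -/
theorem exists_quaternion_hom {M : Type*} [Group M] (I J : M) (h1 : I * I = J * J)
    (h2 : J * J * (J * J) = 1) (h3 : I * J * I = J) :
    ∃ φ : QuaternionGroup 2 →* M, φ (QuaternionGroup.a 1) = I ∧ φ (QuaternionGroup.xa 0) = J := by
  have h4 : I ^ 4 = 1 := by
    rw [show I ^ 4 = (I * I) * (I * I) by simp [pow_succ, mul_assoc], h1, h2]
  have hpow : ∀ i j : ZMod (2 * 2), I ^ (i + j).val = I ^ i.val * I ^ j.val := by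
    intro i j
    rw [← pow_add, ZMod.val_add]
    exact (pow_eq_pow_mod _ h4).symm
  have hneg : ∀ i : ZMod (2 * 2), I ^ (-i).val = (I ^ i.val)⁻¹ := fun i =>
    eq_inv_of_mul_eq_one_left (by rw [← hpow, neg_add_cancel, ZMod.val_zero, pow_zero])
  have hc : J⁻¹ * I * J = I⁻¹ := by
    have : I * J = J * I⁻¹ := by
      calc I * J = (I * J * I) * I⁻¹ := by group
        _ = J * I⁻¹ := by rw [h3]
    rw [mul_assoc, this, inv_mul_cancel_left]
  have hflip : ∀ n : ℕ, I ^ n * J = J * (I ^ n)⁻¹ := by
    intro n
    have h5 := conj_pow (a := J⁻¹) (b := I) (i := n)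
    rw [inv_inv, hc, inv_pow] at h5
    rw [h5]; group
  let f : QuaternionGroup 2 → M := fun g => match g with
    | .a i => I ^ i.val
    | .xa i => J * I ^ i.val
  refine ⟨MonoidHom.mk' f ?_, pow_one I, by show J * I ^ 0 = J; rw [pow_zero, mul_one]⟩
  rintro (i | i) (j | j)
  · exact hpow i j
  · show J * I ^ (j - i).val = I ^ i.val * (J * I ^ j.val)
    rw [sub_eq_add_neg, add_comm, hpow, hneg, ← mul_assoc, ← mul_assoc, hflip]
  · show J * I ^ (i + j).val = J * I ^ i.val * I ^ j.val
    rw [hpow, mul_assoc]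
  · show I ^ ((2 : ℕ) + j - i : ZMod (2 * 2)).val = J * I ^ i.val * (J * I ^ j.val)
    rw [show J * I ^ i.val * (J * I ^ j.val) = J * (I ^ i.val * J) * I ^ j.val by group, hflip,
      ← mul_assoc J J, ← h1, ← hneg, mul_assoc (I * I), ← hpow]
    rw [show (2 : ℕ) + j - i = ((2 : ℕ) : ZMod (2 * 2)) + (-i + j) by ring, hpow]
    congr 1
    exact pow_two I

/-- Two commuting elements of order dividing a prime generate a cyclic group of that order. -/
theorem mem_zpowers_of_commute [Finite P]
    (hab : ∀ B : Subgroup P, IsMulCommutative B → IsCyclic B) {q : ℕ} (hq : q.Prime) {x y : P}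
    (hx : orderOf x = q) (hy : y ^ q = 1) (hc : Commute x y) : y ∈ Subgroup.zpowers x := by
  classical
  set B : Subgroup P := Subgroup.closure {x, y} with hB
  haveI hBc : IsMulCommutative B := Subgroup.isMulCommutative_closure <| by
    rintro a (rfl | rfl) b (rfl | rfl)
    · rfl
    · exact hc.eq
    · exact hc.eq.symm
    · rfl
  haveI := hab B hBc
  haveI := Fintype.ofFinite B
  let x' : B := ⟨x, Subgroup.subset_closure (by simp)⟩
  let y' : B := ⟨y, Subgroup.subset_closure (by simp)⟩
  have hsub : Subgroup.zpowers x' = ⊤ ⊓ Subgroup.zpowers x' := (top_inf_eq _).symm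
  have hox : orderOf x' = q := by rw [← hx]; exact (Subgroup.orderOf_coe x').symm
  let S : Finset B := Finset.univ.filter (· ^ q = 1)
  let Z : Finset B := Finset.univ.filter (· ∈ Subgroup.zpowers x')
  have hZS : Z ⊆ S := by
    intro a ha
    obtain ⟨k, rfl⟩ := (Finset.mem_filter.1 ha).2
    refine Finset.mem_filter.2 ⟨Finset.mem_univ _, ?_⟩
    rw [← zpow_natCast, ← zpow_mul, mul_comm, zpow_mul, zpow_natCast, ← hox, pow_orderOf_eq_one,
      one_zpow]
  have hS : S.card ≤ Z.card := by
    refine le_of_le_of_eq (IsCyclic.card_pow_eq_one_le hq.pos) ?_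
    rw [← hox, ← Nat.card_zpowers, Nat.card_eq_fintype_card, Fintype.card_subtype]
  have hyS : y' ∈ Z := by
    rw [Finset.eq_of_subset_of_card_le hZS hS]
    exact Finset.mem_filter.2 ⟨Finset.mem_univ _, Subtype.ext hy⟩
  obtain ⟨k, hk⟩ := (Finset.mem_filter.1 hyS).2
  exact ⟨k, congrArg Subtype.val hk⟩

section main

variable [Finite P] {q : ℕ} [hq : Fact q.Prime]

include hclass

/-- The exponent of the commutator subgroup is `q`. -/
theorem cm_pow_eq_one (hP : IsPGroup q P)
    (hchar : ∀ M : Subgroup P, M.Characteristic → M ≠ ⊤ → M ≤ Subgroup.center P) :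
    ∀ x y : P, cm x y ^ q = 1 := by
  obtain ⟨n, hn⟩ := IsPGroup.iff_card.1 hP
  have hex : ∃ m, ∀ x y : P, cm x y ^ q ^ m = 1 :=
    ⟨n, fun x y => by rw [← hn]; exact pow_card_eq_one'⟩
  classical
  have hspec := Nat.find_spec hex
  rcases Nat.lt_or_ge (Nat.find hex) 2 with hlt | hge
  · intro x y
    obtain hm | hm : Nat.find hex = 0 ∨ Nat.find hex = 1 := by omega
    · have := hspec x y
      rw [hm, pow_zero, pow_one] at this
      rw [this, one_pow]
    · have := hspec x y
      rwa [hm, pow_one] at this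
  · exfalso
    obtain ⟨m, hm⟩ : ∃ m, Nat.find hex = m + 1 := ⟨Nat.find hex - 1, by omega⟩
    have hmin : ¬ ∀ x y : P, cm x y ^ q ^ m = 1 := Nat.find_min hex (by omega)
    let M : Subgroup P :=
      { carrier := {x | ∀ y, cm x y ^ q ^ m = 1}
        one_mem' := fun y => by simp [cm]
        mul_mem' := fun {a b} ha hb y => by
          rw [cm_mul_left hclass,
            (show Commute (cm a y) (cm b y) from hclass a y _).mul_pow, ha, hb, one_mul]
        inv_mem' := fun {a} ha y => by
          have h1 : cm a⁻¹ y * cm a y = 1 := by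
            rw [← cm_mul_left hclass, inv_mul_cancel]; simp [cm]
          rw [eq_inv_of_mul_eq_one_left h1, inv_pow, ha, inv_one] }
    have hMc : M.Characteristic := by
      refine Subgroup.characteristic_iff_le_comap.2 fun φ x hx y => ?_
      have h2 : cm (φ x) y = φ (cm x (φ.symm y)) := by
        rw [show φ (cm x (φ.symm y)) = cm (φ x) (φ (φ.symm y)) from map_cm φ.toMonoidHom _ _,
          MulEquiv.apply_symm_apply]
      show cm (φ x) y ^ q ^ m = 1
      rw [h2, ← map_pow, hx (φ.symm y), map_one]
    have hMtop : M ≠ ⊤ := fun h => hmin fun x y => (h ▸ Subgroup.mem_top x : x ∈ M) y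
    have hpowM : ∀ x : P, x ^ q ∈ Subgroup.center P := fun x => by
      refine hchar M hMc hMtop fun y => ?_
      rw [cm_pow_left hclass, ← pow_mul, ← pow_succ', ← hm]
      exact hspec x y
    have h1 : ∀ x y : P, cm x y ^ q ^ 1 = 1 := fun x y => by
      rw [pow_one, ← cm_pow_left hclass, cm_eq_one_iff]
      exact (Subgroup.mem_center_iff.1 (hpowM x) y).symm
    exact Nat.find_min hex (by omega : 1 < Nat.find hex) h1

/-- A `q`-group of class two with cyclic abelian subgroups and central proper characteristic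
subgroups is abelian or quaternion of order eight. -/
theorem nonempty_mulEquiv_quaternion (hP : IsPGroup q P) {a b : P} (hne : a * b ≠ b * a)
    (hab : ∀ B : Subgroup P, IsMulCommutative B → IsCyclic B)
    (hchar : ∀ M : Subgroup P, M.Characteristic → M ≠ ⊤ → M ≤ Subgroup.center P) :
    Nonempty (P ≃* QuaternionGroup 2) := by
  classical
  have hexp := cm_pow_eq_one hclass hP hchar
  have hpowc : ∀ x : P, x ^ q ∈ Subgroup.center P := fun x => Subgroup.mem_center_iff.2 fun y =>
    ((cm_eq_one_iff (x := x ^ q)).1 (by rw [cm_pow_left hclass, hexp])).symm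
  set z := cm a b with hz
  have hz1 : z ≠ 1 := fun h => hne (cm_eq_one_iff.1 h)
  have hzo : orderOf z = q := orderOf_eq_prime (hexp a b) hz1
  have hzc : z ∈ Subgroup.center P := Subgroup.mem_center_iff.2 fun g => (hclass a b g).symm
  have huniq : ∀ x : P, x ^ q = 1 → x ∈ Subgroup.zpowers z := fun x hx =>
    mem_zpowers_of_commute hab hq.out hzo hx (hclass a b x)
  have hzle : Subgroup.zpowers z ≤ Subgroup.center P := Subgroup.zpowers_le.2 hzc
  have hcc : IsCyclic (Subgroup.center P) := hab _ inferInstance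
  have hq2 : q = 2 := by
    by_contra hq2
    have hdvd : q ∣ q.choose 2 :=
      hq.out.dvd_choose_self (by norm_num) (lt_of_le_of_ne hq.out.two_le (Ne.symm hq2))
    let f : P →* Subgroup.center P := MonoidHom.mk' (fun x => ⟨x ^ q, hpowc x⟩) fun x y => by
      apply Subtype.ext
      show (x * y) ^ q = x ^ q * y ^ q
      obtain ⟨k, hk⟩ := hdvd
      rw [mul_pow_eq hclass, hk, pow_mul, hexp, one_pow, one_mul]
    haveI : IsCyclic f.range := inferInstance
    refine hne ?_
    refine (MonoidHom.isMulCommutative_of_isCyclic_of_ker_le_center f.rangeRestrict ?_).is_comm.comm a b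
    intro x hx
    rw [MonoidHom.ker_rangeRestrict, MonoidHom.mem_ker] at hx
    exact hzle (huniq x (congrArg Subtype.val hx))
  subst hq2
  have hz2 : z * z = 1 := by rw [← pow_two]; exact hexp a b
  obtain ⟨⟨ζ, hζc⟩, hζ⟩ := hcc.exists_generator
  have hgen : ∀ w ∈ Subgroup.center P, ∃ n : ℤ, ζ ^ n = w := fun w hw => by
    obtain ⟨n, hn⟩ := hζ ⟨w, hw⟩
    exact ⟨n, congrArg Subtype.val hn⟩
  have hoddsq : ∀ x : P, x ∉ Subgroup.center P → ∀ n : ℤ, ζ ^ n = x * x → ¬ (2 : ℤ) ∣ n := by
    intro x hx n hn ⟨m, hm⟩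
    apply hx
    have hmc : ζ ^ m ∈ Subgroup.center P := zpow_mem hζc m
    have hsq : (x * (ζ ^ m)⁻¹) ^ 2 = 1 := by
      rw [(show Commute x (ζ ^ m)⁻¹ from (Subgroup.mem_center_iff.1 (inv_mem hmc) x)).mul_pow,
        pow_two, ← hn, hm, inv_pow, ← zpow_natCast, ← zpow_mul, mul_comm]
      norm_num [mul_comm]
    simpa using mul_mem (hzle (huniq _ hsq)) hmc
  have hanC : a ∉ Subgroup.center P := fun h => hne (Subgroup.mem_center_iff.1 h b).symm
  have hbnC : b ∉ Subgroup.center P := fun h => hne (Subgroup.mem_center_iff.1 h a)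
  have hζ2 : ∀ w ∈ Subgroup.center P, w = 1 ∨ w = z := by
    have hζ2 : ζ ^ 2 = 1 := by
      by_contra hζ2
      have habnC : a * b ∉ Subgroup.center P := fun h => by
        have h2 := Subgroup.mem_center_iff.1 h a
        rw [mul_assoc a b a] at h2
        exact hne (mul_left_cancel h2)
      obtain ⟨i, hi⟩ := hgen (a * a) (by rw [← pow_two]; exact hpowc a)
      obtain ⟨j, hj⟩ := hgen (b * b) (by rw [← pow_two]; exact hpowc b)
      obtain ⟨s, hs⟩ := hgen z hzc
      have hs2 : (2 : ℤ) ∣ s := by
        have h1 : ζ ^ (2 * s) = 1 := by rw [two_mul, zpow_add, hs, hz2]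
        have h2 := orderOf_dvd_iff_zpow_eq_one.2 h1
        obtain ⟨r, hr⟩ := IsPGroup.iff_orderOf.1 hP ζ
        rw [hr] at h2
        rcases r with _ | _ | r
        · exact absurd (orderOf_eq_one_iff.1 (by simpa using hr)) (fun h => hζ2 (by simp [h]))
        · exact absurd (orderOf_dvd_iff_pow_eq_one.1 (by rw [hr]; simp)) hζ2
        · obtain ⟨k, hk⟩ := h2
          refine ⟨(2 : ℤ) ^ r * k, ?_⟩
          push_cast at hk
          have : (2 : ℤ) * s = 2 * (2 * ((2 : ℤ) ^ r * k)) := by rw [hk]; ring
          omega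
      refine hoddsq (a * b) habnC (-s + (i + j)) ?_ ?_
      · rw [zpow_add, zpow_add, zpow_neg, hs, hi, hj, ← pow_two (a * b),
          mul_pow_eq hclass a b 2, Nat.choose_self, pow_one, ← cm_inv a b, pow_two, pow_two]
      · have h1 := hoddsq a hanC i hi
        have h2 := hoddsq b hbnC j hj
        omega
    intro w hw
    have : w ∈ Subgroup.zpowers z := huniq w <| by
      obtain ⟨n, rfl⟩ := hgen w hw
      rw [← zpow_natCast, ← zpow_mul, mul_comm, zpow_mul, zpow_natCast, hζ2, one_zpow]
    obtain ⟨n, rfl⟩ := this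
    rcases Int.even_or_odd' n with ⟨k, rfl | rfl⟩
    · left; show z ^ (2 * k) = 1; rw [zpow_mul, zpow_ofNat, pow_two, hz2, one_zpow]
    · right; show z ^ (2 * k + 1) = z; rw [zpow_add, zpow_mul, zpow_ofNat, pow_two, hz2, one_zpow, one_mul, zpow_one]
  have hsq : ∀ x : P, x ∉ Subgroup.center P → x * x = z := by
    intro x hx
    refine (hζ2 _ (by rw [← pow_two]; exact hpowc x)).resolve_left fun h => hx ?_
    exact hzle (huniq x (by rw [pow_two, h]))
  have hcm : ∀ x y : P, cm x y = 1 ∨ cm x y = z := fun x y =>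
    hζ2 _ (Subgroup.mem_center_iff.2 fun g => (hclass x y g).symm)
  have haa := hsq a hanC
  have hbb := hsq b hbnC
  have haba : a * b * a = b := by
    calc a * b * a = cm a b * (b * a) * a := by rw [← mul_eq_cm]
      _ = z * (b * (a * a)) := by rw [← hz]; group
      _ = z * (z * b) := by rw [haa, hclass a b b]
      _ = b := by rw [← mul_assoc, hz2, one_mul]
  obtain ⟨φ, hφa, hφb⟩ :=
    exists_quaternion_hom a b (haa.trans hbb.symm) (by rw [hbb, hz2]) haba
  have hinj : Function.Injective φ := by
    rw [injective_iff_map_eq_one]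
    intro g hg
    have key : ∀ g : QuaternionGroup 2, g = 1 ∨ g = QuaternionGroup.a 1 * QuaternionGroup.a 1 ∨
        g * g = QuaternionGroup.a 1 * QuaternionGroup.a 1 := by decide
    rcases key g with h1 | h1 | h1
    · exact h1
    · rw [h1, map_mul, hφa, haa] at hg
      exact absurd hg hz1
    · have := congrArg φ h1
      rw [map_mul, map_mul, hg, hφa, haa, one_mul] at this
      exact absurd this.symm hz1
  have hR : ∀ y : P, y ∈ φ.range := by
    have hza : z ∈ φ.range := ⟨_, by rw [map_mul φ (QuaternionGroup.a 1), hφa, haa]⟩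
    have hR1 : ∀ y : P, cm y a = 1 → cm y b = 1 → y ∈ φ.range := by
      intro y hya hyb
      by_cases hy : y ∈ Subgroup.center P
      · rcases hζ2 y hy with rfl | rfl
        · exact one_mem _
        · exact hza
      · exfalso
        have hc : Commute y a := cm_eq_one_iff.1 hya
        have h1 : (y * a) ^ 2 = 1 := by
          rw [hc.mul_pow, pow_two, pow_two, hsq y hy, haa, hz2]
        have hmem := Subgroup.mem_center_iff.1 (hzle (huniq _ h1)) b
        apply hne
        have hyb' := cm_eq_one_iff.1 hyb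
        rw [← mul_assoc, ← hyb', mul_assoc y b a, mul_assoc y a b] at hmem
        exact (mul_left_cancel hmem).symm
    have hba : cm b a = z := by rw [← cm_inv a b, ← hz]; exact inv_eq_of_mul_eq_one_right hz2
    have haa' : cm a a = 1 := cm_eq_one_iff.2 rfl
    have hbb' : cm b b = 1 := cm_eq_one_iff.2 rfl
    intro y
    rcases hcm y a with h1 | h1 <;> rcases hcm y b with h2 | h2
    · exact hR1 y h1 h2
    · have := hR1 (y * a) (by rw [cm_mul_left hclass, h1, haa', one_mul])
        (by rw [cm_mul_left hclass, h2, ← hz, hz2])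
      simpa using mul_mem this (inv_mem ⟨_, hφa⟩)
    · have := hR1 (y * b) (by rw [cm_mul_left hclass, h1, hba, hz2])
        (by rw [cm_mul_left hclass, h2, hbb', one_mul])
      simpa using mul_mem this (inv_mem ⟨_, hφb⟩)
    · have := hR1 (y * (a * b))
        (by rw [cm_mul_left hclass, cm_mul_left hclass, h1, hba, haa', one_mul, hz2])
        (by rw [cm_mul_left hclass, cm_mul_left hclass, h2, hbb', mul_one, ← hz, hz2])
      simpa [mul_assoc] using mul_mem this (inv_mem (mul_mem ⟨_, hφa⟩ ⟨_, hφb⟩))
  exact ⟨(MulEquiv.ofBijective φ ⟨hinj, fun y => hR y⟩).symm⟩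

end main

include hclass in
/-- A nilpotent group of class two with cyclic abelian subgroups and central proper characteristic
subgroups is abelian or quaternion of order eight. -/
theorem nonempty_mulEquiv_quaternion' [Finite P] {a b : P} (hne : a * b ≠ b * a)
    (hab : ∀ B : Subgroup P, IsMulCommutative B → IsCyclic B)
    (hchar : ∀ M : Subgroup P, M.Characteristic → M ≠ ⊤ → M ≤ Subgroup.center P) :
    Nonempty (P ≃* QuaternionGroup 2) := by
  classical
  have hnil : Group.IsNilpotent P := by
    haveI : IsMulCommutative (P ⧸ Subgroup.center P) := ⟨⟨fun u v => by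
      induction u using QuotientGroup.induction_on with
      | H x =>
        induction v using QuotientGroup.induction_on with
        | H y =>
          rw [← QuotientGroup.mk_mul, ← QuotientGroup.mk_mul, QuotientGroup.eq,
            Subgroup.mem_center_iff]
          intro g
          have e : (x * y)⁻¹ * (y * x) = cm y⁻¹ x⁻¹ := by unfold cm; group
          rw [e]
          exact (hclass _ _ g).symm⟩⟩
    letI : CommGroup (P ⧸ Subgroup.center P) := IsMulCommutative.instCommGroup
    exact Subgroup.isNilpotent_of_ker_le_center (QuotientGroup.mk' (Subgroup.center P))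
      (by rw [QuotientGroup.ker_mk'])
  by_cases hex : ∃ (q : ℕ) (_ : q.Prime) (S : Sylow q P), ¬ (S : Subgroup P) ≤ Subgroup.center P
  · obtain ⟨q, hq, S, hS⟩ := hex
    haveI := Fact.mk hq
    have hn : (S : Subgroup P).Normal := inferInstance
    have hc : (S : Subgroup P).Characteristic := Sylow.characteristic_of_normal S hn
    have htop : (S : Subgroup P) = ⊤ := by
      by_contra h
      exact hS (hchar _ hc h)
    have hP : IsPGroup q P := by
      have := S.isPGroup'
      rw [htop] at this
      exact this.of_equiv Subgroup.topEquiv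
    exact nonempty_mulEquiv_quaternion hclass hP hne hab hchar
  · push Not at hex
    exfalso
    have hle : ∀ q : ℕ, q.Prime → ∀ S : Sylow q P, (S : Subgroup P) ≤ Subgroup.center P := hex
    have htop : Subgroup.center P = ⊤ := by
      apply Subgroup.eq_top_of_card_eq
      apply Nat.dvd_antisymm (Subgroup.card_subgroup_dvd_card _)
      refine Nat.dvd_iff_prime_pow_dvd_dvd _ _ |>.2 fun r k hr hrk => ?_
      haveI := Fact.mk hr
      obtain ⟨S⟩ := (inferInstance : Nonempty (Sylow r P))
      refine dvd_trans ?_ (Subgroup.card_dvd_of_le (hle r hr S))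
      rw [S.card_eq_multiplicity]
      exact pow_dvd_pow r ((hr.pow_dvd_iff_le_factorization Nat.card_pos.ne').1 hrk)
    exact hne (Subgroup.mem_center_iff.1 (htop ▸ Subgroup.mem_top b) a)

end Cfsg.Agent.Perm.ClassTwo
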