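import Mathlib

/-!
Basic lemmas on permutation groups and group actions: transitive normal subgroups,
regular normal subgroups, semiregularity of centralisers, criteria for 2-transitivity.
-/

set_option autoImplicit false

namespace Cfsg.Agent.Perm

open MulAction

variable {G : Type*} [Group G] {X : Type*} [MulAction G X]

/-- Orbit-stabiliser in `Nat.card` form. -/
theorem card_orbit_mul_card_stabilizer (x : X) :
    Nat.card (orbit G x) * Nat.card (stabilizer G x) = Nat.card G := by
  rw [← Nat.card_congr (orbitEquivQuotientStabilizer G x).symm]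
  exact (Subgroup.card_eq_card_quotient_mul_card_subgroup (stabilizer G x)).symm

theorem card_eq_mul_card_stabilizer [IsPretransitive G X] (x : X) :
    Nat.card G = Nat.card X * Nat.card (stabilizer G x) := by
  rw [← card_orbit_mul_card_stabilizer x]
  congr 1
  rw [orbit_eq_univ G x, Nat.card_coe_set_eq, Set.ncard_univ]

theorem card_dvd_card [IsPretransitive G X] [Nonempty X] : Nat.card X ∣ Nat.card G := by
  obtain ⟨x⟩ := (inferInstance : Nonempty X)
  exact ⟨_, card_eq_mul_card_stabilizer x⟩

/-- In a regular action the group and the set are in bijection through any base point. -/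
theorem bijective_smul_of_regular [IsPretransitive G X] {x : X}
    (h : stabilizer G x = ⊥) : Function.Bijective (fun g : G => g • x) := by
  refine ⟨fun g₁ g₂ e => ?_, fun y => exists_smul_eq G x y⟩
  have : g₂⁻¹ * g₁ ∈ stabilizer G x := by
    rw [mem_stabilizer_iff, mul_smul]
    rw [show g₁ • x = g₂ • x from e, inv_smul_smul]
  rw [h, Subgroup.mem_bot, inv_mul_eq_one] at this
  exact this.symm

theorem card_eq_of_regular [IsPretransitive G X] {x : X} (h : stabilizer G x = ⊥) :
    Nat.card G = Nat.card X :=
  Nat.card_congr (Equiv.ofBijective _ (bijective_smul_of_regular h))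

theorem mem_stabilizer_subgroup_iff {N : Subgroup G} {x : X} {n : N} :
    n ∈ stabilizer N x ↔ (n : G) • x = x := Iff.rfl

theorem stabilizer_subgroup_eq_bot_iff {N : Subgroup G} {x : X} :
    stabilizer N x = ⊥ ↔ ∀ n ∈ N, n • x = x → n = 1 := by
  rw [Subgroup.eq_bot_iff_forall]
  exact ⟨fun h n hn e => congrArg Subtype.val (h ⟨n, hn⟩ e),
    fun h n e => Subtype.ext (h n n.2 e)⟩

/-- If a subgroup fixing no point is transitive: orbit form. -/
theorem subgroup_exists_smul_eq {N : Subgroup G} [IsPretransitive N X] (x y : X) :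
    ∃ n ∈ N, n • x = y := by
  obtain ⟨n, hn⟩ := exists_smul_eq N x y
  exact ⟨n, n.2, hn⟩

/-- A regular subgroup moves a point to a given one by a unique element. -/
theorem regular_unique {N : Subgroup G} {x : X} (h : stabilizer N x = ⊥) {m n : G}
    (hm : m ∈ N) (hn : n ∈ N) (e : m • x = n • x) : m = n := by
  have := (stabilizer_subgroup_eq_bot_iff.mp h) (n⁻¹ * m) (mul_mem (inv_mem hn) hm)
    (by rw [mul_smul, e, inv_smul_smul])
  rw [inv_mul_eq_one] at this
  exact this.symm

/-- A transitive subgroup together with a point stabiliser is everything. -/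
theorem exists_mul_stabilizer {N : Subgroup G} [IsPretransitive N X] (x : X) (g : G) :
    ∃ n ∈ N, ∃ h ∈ stabilizer G x, g = n * h := by
  obtain ⟨n, hn, e⟩ := subgroup_exists_smul_eq (N := N) x (g • x)
  exact ⟨n, hn, n⁻¹ * g, by rw [mem_stabilizer_iff, mul_smul, ← e, inv_smul_smul], by group⟩

/-- A nontrivially acting normal subgroup of a primitive group is transitive. -/
theorem isPretransitive_of_normal [IsPreprimitive G X] (N : Subgroup G) [N.Normal]
    (h : ∃ n ∈ N, ∃ x : X, n • x ≠ x) : IsPretransitive N X := by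
  apply IsQuasiPreprimitive.isPretransitive_of_normal (G := G)
  obtain ⟨n, hn, x, hx⟩ := h
  intro e
  have : x ∈ fixedPoints N X := e ▸ Set.mem_univ x
  exact hx (this ⟨n, hn⟩)

theorem exists_moved_of_ne_bot [FaithfulSMul G X] {N : Subgroup G} (hN : N ≠ ⊥) :
    ∃ n ∈ N, ∃ x : X, n • x ≠ x := by
  by_contra h
  push Not at h
  apply hN
  rw [Subgroup.eq_bot_iff_forall]
  intro n hn
  exact FaithfulSMul.eq_of_smul_eq_smul (α := X) (by simpa using h n hn)

theorem isPretransitive_of_normal_ne_bot [IsPreprimitive G X] [FaithfulSMul G X]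
    (N : Subgroup G) [N.Normal] (hN : N ≠ ⊥) : IsPretransitive N X :=
  isPretransitive_of_normal N (exists_moved_of_ne_bot hN)

/-- An element commuting with a transitive subgroup and fixing a point fixes every point. -/
theorem fixes_all_of_commute {M : Subgroup G} [IsPretransitive M X] {c : G}
    (hc : ∀ m ∈ M, c * m = m * c) {x : X} (hx : c • x = x) (y : X) : c • y = y := by
  obtain ⟨m, hm, rfl⟩ := subgroup_exists_smul_eq (N := M) x y
  rw [← mul_smul, hc m hm, mul_smul, hx]

theorem eq_one_of_commute [FaithfulSMul G X] {M : Subgroup G} [IsPretransitive M X] {c : G}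
    (hc : ∀ m ∈ M, c * m = m * c) {x : X} (hx : c • x = x) : c = 1 :=
  FaithfulSMul.eq_of_smul_eq_smul (α := X)
    (fun y => by rw [fixes_all_of_commute hc hx y, one_smul])

/-- A subgroup centralised by a transitive subgroup is semiregular. -/
theorem stabilizer_eq_bot_of_commute [FaithfulSMul G X] {M N : Subgroup G}
    [IsPretransitive M X] (hc : ∀ m ∈ M, ∀ n ∈ N, n * m = m * n) (x : X) :
    stabilizer N x = ⊥ :=
  stabilizer_subgroup_eq_bot_iff.mpr
    (fun n hn e => eq_one_of_commute (fun m hm => hc m hm n hn) e)

/-- A transitive abelian subgroup of a faithful action is regular. -/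
theorem stabilizer_eq_bot_of_isMulCommutative [FaithfulSMul G X] {M : Subgroup G}
    [IsPretransitive M X] (hab : IsMulCommutative M) (x : X) : stabilizer M x = ⊥ :=
  stabilizer_eq_bot_of_commute (M := M) (fun m hm n hn =>
    congrArg Subtype.val (hab.is_comm.comm (⟨n, hn⟩ : M) ⟨m, hm⟩)) x

/-- For a regular normal subgroup, the point stabiliser acts on the subgroup by conjugation
as it acts on the points. -/
theorem conj_smul_base {x : X} {h : G} (hh : h ∈ stabilizer G x) (n : G) :
    (h * n * h⁻¹) • x = h • (n • x) := by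
  have : h⁻¹ • x = x := mem_stabilizer_iff.mp (inv_mem hh)
  rw [mul_smul, this, mul_smul]

theorem orderOf_conj (g n : G) : orderOf (g * n * g⁻¹) = orderOf n := by
  have := orderOf_injective (MulAut.conj g).toMonoidHom (MulAut.conj g).injective n
  simpa using this

/-- 2-transitivity in terms of the stabilisers. -/
theorem isMultiplyPretransitive_two_iff_stabilizer [IsPretransitive G X] (x : X) :
    IsMultiplyPretransitive G X 2 ↔
      ∀ y z : X, y ≠ x → z ≠ x → ∃ h ∈ stabilizer G x, h • y = z := by
  rw [is_two_pretransitive_iff]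
  constructor
  · intro h y z hy hz
    obtain ⟨g, h1, h2⟩ := h (Ne.symm hy) (Ne.symm hz)
    exact ⟨g, h1, h2⟩
  · intro h a b c d hab hcd
    obtain ⟨g₁, hg₁⟩ := exists_smul_eq G a x
    obtain ⟨g₂, hg₂⟩ := exists_smul_eq G c x
    obtain ⟨k, hk, hk'⟩ := h (g₁ • b) (g₂ • d)
      (fun e => hab ((MulAction.injective g₁) (e.trans hg₁.symm)).symm)
      (fun e => hcd ((MulAction.injective g₂) (e.trans hg₂.symm)).symm)
    refine ⟨g₂⁻¹ * k * g₁, ?_, ?_⟩
    · rw [mul_smul, mul_smul, hg₁, mem_stabilizer_iff.mp hk, ← hg₂, inv_smul_smul]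
    · rw [mul_smul, mul_smul, hk', inv_smul_smul]

/-- The stabiliser of a point of a 2-transitive action is transitive on the other points. -/
theorem exists_mem_stabilizer_smul_eq [IsMultiplyPretransitive G X 2] {x y z : X}
    (hy : y ≠ x) (hz : z ≠ x) : ∃ h ∈ stabilizer G x, h • y = z := by
  have := isPretransitive_of_is_two_pretransitive (G := G) (α := X)
  exact (isMultiplyPretransitive_two_iff_stabilizer x).mp inferInstance y z hy hz

theorem card_stabilizer_two [IsMultiplyPretransitive G X 2] [Finite X] {x y : X} (hy : y ≠ x) :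
    Nat.card (stabilizer G x) =
      (Nat.card X - 1) * Nat.card (stabilizer (stabilizer G x) y) := by
  rw [← card_orbit_mul_card_stabilizer (G := stabilizer G x) y]
  congr 1
  have : orbit (stabilizer G x) y = ({x}ᶜ : Set X) := by
    ext z
    constructor
    · rintro ⟨h, rfl⟩ e
      apply hy
      exact MulAction.injective (h : G) ((show (h : G) • y = x from e).trans h.2.symm)
    · intro hz
      obtain ⟨h, hh, e⟩ := exists_mem_stabilizer_smul_eq (G := G) hy hz
      exact ⟨⟨h, hh⟩, e⟩
  rw [this, Nat.card_coe_set_eq, Set.ncard_compl, Set.ncard_singleton]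

end Cfsg.Agent.Perm
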