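import Cfsg.Agent.Lib.Perm.Basic

/-!
Finite sharply 2-transitive groups: the translations form a regular normal elementary abelian
subgroup (elementary counting argument).
-/

set_option autoImplicit false

namespace Cfsg.Agent.Perm.SharplyTwo

open MulAction Function.Embedding

variable {G : Type*} [Group G] {X : Type*} [MulAction G X] [Finite X]
  [IsMultiplyPretransitive G X 2]

theorem eq_one_of_two_fixed (hsharp : ∀ x : Fin 2 ↪ X, stabilizer G x = ⊥) {g : G} {a b : X}
    (hab : a ≠ b) (ha : g • a = a) (hb : g • b = b) : g = 1 := by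
  have hmem : g ∈ stabilizer G (embFinTwo hab) := by
    rw [mem_stabilizer_iff]
    ext i
    fin_cases i
    · exact (congrArg (g • ·) (embFinTwo_apply_zero hab)).trans (ha.trans (embFinTwo_apply_zero hab).symm)
    · exact (congrArg (g • ·) (embFinTwo_apply_one hab)).trans (hb.trans (embFinTwo_apply_one hab).symm)
  rw [hsharp] at hmem
  exact hmem

/-- The order of a sharply 2-transitive group. -/
theorem card_eq (hsharp : ∀ x : Fin 2 ↪ X, stabilizer G x = ⊥) (h2 : 2 ≤ Nat.card X) :
    Nat.card G = Nat.card X * (Nat.card X - 1) := by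
  haveI := isPretransitive_of_is_two_pretransitive (G := G) (α := X)
  obtain ⟨x⟩ : Nonempty X := (Nat.card_pos_iff.mp (by omega)).1
  haveI : Nontrivial X := Finite.one_lt_card_iff_nontrivial.mp (by omega)
  obtain ⟨y, hy⟩ := exists_ne x
  rw [card_eq_mul_card_stabilizer x, card_stabilizer_two hy]
  have : stabilizer (stabilizer G x) y = ⊥ := by
    rw [Subgroup.eq_bot_iff_forall]
    intro g hg
    exact Subtype.ext (eq_one_of_two_fixed hsharp (Ne.symm hy) g.2 hg)
  rw [this, Subgroup.card_bot, mul_one]

theorem card_derangements (hsharp : ∀ x : Fin 2 ↪ X, stabilizer G x = ⊥) (h2 : 2 ≤ Nat.card X) :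
    Nat.card {g : G // ∀ x : X, g • x ≠ x} = Nat.card X - 1 := by
  classical
  haveI := isPretransitive_of_is_two_pretransitive (G := G) (α := X)
  have hG := card_eq hsharp h2
  haveI : Finite G := Nat.finite_of_card_ne_zero (by
    rw [hG]; exact Nat.mul_ne_zero (by omega) (by omega))
  haveI := Fintype.ofFinite G
  haveI := Fintype.ofFinite X
  have hone : ∀ g : G, (Finset.univ.filter fun x : X => g • x = x).card =
      if g = 1 then Fintype.card X else if (∀ x : X, g • x ≠ x) then 0 else 1 := by
    intro g
    split_ifs with h1 h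
    · simp [h1]
    · simp [h]
    · push Not at h
      obtain ⟨x, hx⟩ := h
      rw [Finset.card_eq_one]
      refine ⟨x, Finset.eq_singleton_iff_unique_mem.mpr ⟨by simpa using hx, fun y hy => ?_⟩⟩
      by_contra hne
      exact h1 (eq_one_of_two_fixed hsharp hne (by simpa using hy) hx)
  have hsum : ∑ g : G, (Finset.univ.filter fun x : X => g • x = x).card = Fintype.card G := by
    simp only [Finset.card_filter]
    rw [Finset.sum_comm]
    simp only [← Finset.card_filter]
    have : ∀ x : X, (Finset.univ.filter fun g : G => g • x = x).card = Nat.card (stabilizer G x) :=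
      fun x => by
        rw [Nat.card_eq_fintype_card, ← Fintype.card_subtype]
        exact Fintype.card_congr (Equiv.subtypeEquivRight fun g => Iff.rfl)
    simp only [this]
    have hc : ∀ x : X, Nat.card (stabilizer G x) = Fintype.card X - 1 := fun x => by
      have h1 := card_eq_mul_card_stabilizer (G := G) x
      rw [hG] at h1
      rw [← Nat.card_eq_fintype_card]
      exact (Nat.eq_of_mul_eq_mul_left (by omega) h1).symm
    simp only [hc, Finset.sum_const, Finset.card_univ, smul_eq_mul]
    rw [← Nat.card_eq_fintype_card (α := G), hG, Nat.card_eq_fintype_card (α := X)]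
  simp only [hone] at hsum
  rw [← Finset.add_sum_erase _ _ (Finset.mem_univ (1 : G)), if_pos rfl,
    Finset.sum_congr rfl (fun g hg => if_neg (Finset.ne_of_mem_erase hg)), Finset.sum_ite,
    Finset.sum_const_zero, zero_add, Finset.sum_const, smul_eq_mul, mul_one] at hsum
  have hsplit := Finset.card_filter_add_card_filter_not (s := Finset.univ.erase (1 : G))
    (p := fun g => ∀ x : X, g • x ≠ x)
  rw [Finset.card_erase_of_mem (Finset.mem_univ _), Finset.card_univ] at hsplit
  have hD : (Finset.univ.erase (1 : G)).filter (fun g => ∀ x : X, g • x ≠ x) =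
      Finset.univ.filter fun g => ∀ x : X, g • x ≠ x := by
    ext g
    simp only [Finset.mem_filter, Finset.mem_erase, Finset.mem_univ, and_true, true_and,
      and_iff_right_iff_imp]
    rintro h rfl
    obtain ⟨x⟩ : Nonempty X := (Nat.card_pos_iff.mp (by omega)).1
    exact h x (one_smul _ _)
  rw [hD] at hsplit
  rw [Nat.card_eq_fintype_card, Fintype.card_subtype, Nat.card_eq_fintype_card]
  rw [Nat.card_eq_fintype_card] at h2
  omega

/-- The structure of a finite sharply 2-transitive group. -/
theorem exists_translations (hsharp : ∀ x : Fin 2 ↪ X, stabilizer G x = ⊥) (h2 : 2 ≤ Nat.card X) :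
    ∃ (p j : ℕ) (N : Subgroup G), p.Prime ∧ 1 ≤ j ∧ Nat.card X = p ^ j ∧ N.Normal ∧
      IsMulCommutative N ∧ (∀ x ∈ N, x ^ p = 1) ∧ IsPretransitive N X ∧
      (∀ a : X, stabilizer N a = ⊥) ∧ ∀ g : G, g ∈ N ↔ g = 1 ∨ ∀ a : X, g • a ≠ a := by
  classical
  haveI := isPretransitive_of_is_two_pretransitive (G := G) (α := X)
  have hG := card_eq hsharp h2
  haveI : Finite G := Nat.finite_of_card_ne_zero (by
    rw [hG]; exact Nat.mul_ne_zero (by omega) (by omega))
  haveI : Nonempty X := (Nat.card_pos_iff.mp (by omega)).1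
  haveI := Fintype.ofFinite G
  set n := Nat.card X with hn
  let D : Set G := {g | ∀ a : X, g • a ≠ a}
  have hD : D.ncard = n - 1 := by rw [← Nat.card_coe_set_eq]; exact card_derangements hsharp h2
  have hone : (1 : G) ∉ D := fun h => h Classical.ofNonempty (one_smul _ _)
  have key : ∀ d ∈ D, (Subgroup.centralizer {d} : Set G) = insert 1 D ∧
      ConjClasses.carrier (ConjClasses.mk d) = D := by
    intro d hd
    have hsub : (Subgroup.centralizer {d} : Set G) ⊆ insert 1 D := by
      intro c hc
      rw [Set.mem_insert_iff]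
      refine or_iff_not_imp_left.mpr fun hne a ha => hne ?_
      refine eq_one_of_two_fixed hsharp (hd a).symm ha ?_
      rw [← mul_smul, ← Subgroup.mem_centralizer_iff.mp hc d rfl, mul_smul, ha]
    have hclass : ConjClasses.carrier (ConjClasses.mk d) ⊆ D := by
      intro e he
      rw [ConjClasses.mem_carrier_iff_mk_eq, ConjClasses.mk_eq_mk_iff_isConj, isConj_comm,
        isConj_iff] at he
      obtain ⟨g, rfl⟩ := he
      intro a ha
      apply hd (g⁻¹ • a)
      rw [mul_smul, mul_smul] at ha
      rw [eq_inv_smul_iff]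
      exact ha
    have hprod : (ConjClasses.carrier (ConjClasses.mk d)).ncard *
        (Subgroup.centralizer {d} : Set G).ncard = n * (n - 1) := by
      rw [← hG]
      have h1 := card_orbit_mul_card_stabilizer (G := ConjAct G) d
      rw [ConjAct.orbit_eq_carrier_conjClasses, Nat.card_coe_set_eq,
        ConjAct.stabilizer_eq_centralizer] at h1
      refine Eq.trans ?_ h1
      congr 1
    have hle1 := Set.ncard_le_ncard hclass
    have hle2 := Set.ncard_le_ncard hsub
    rw [hD] at hle1
    rw [Set.ncard_insert_of_notMem hone, hD, show n - 1 + 1 = n by omega] at hle2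
    refine ⟨Set.eq_of_subset_of_ncard_le hsub ?_, Set.eq_of_subset_of_ncard_le hclass ?_⟩
    · rw [Set.ncard_insert_of_notMem hone, hD, show n - 1 + 1 = n by omega]
      by_contra hlt
      push Not at hlt
      have := Nat.mul_le_mul hle1 (Nat.le_sub_one_of_lt hlt)
      rw [hprod] at this
      nlinarith [Nat.sub_add_cancel (show 1 ≤ n by omega)]
    · rw [hD]
      by_contra hlt
      push Not at hlt
      have := Nat.mul_le_mul (Nat.le_sub_one_of_lt hlt) hle2
      rw [hprod] at this
      obtain ⟨m, hm⟩ : ∃ m, n = m + 2 := ⟨n - 2, by omega⟩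
      rw [hm] at this
      simp only [Nat.add_sub_cancel, show m + 2 - 1 = m + 1 by omega] at this
      nlinarith
  obtain ⟨d, hd⟩ : D.Nonempty := (Set.ncard_pos (Set.toFinite _)).mp (by omega)
  let N := Subgroup.centralizer ({d} : Set G)
  have hmem : ∀ g : G, g ∈ N ↔ g = 1 ∨ ∀ a : X, g • a ≠ a := fun g =>
    (Set.ext_iff.mp (key d hd).1 g).trans Set.mem_insert_iff
  have hNn : N.Normal := ⟨fun g hg k => by
    rw [hmem] at hg ⊢
    rcases hg with rfl | hg
    · left; group
    · right
      intro a ha
      apply hg (k⁻¹ • a)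
      rw [mul_smul, mul_smul] at ha
      rw [eq_inv_smul_iff]
      exact ha⟩
  have hNab : IsMulCommutative N := by
    refine ⟨⟨fun x y => Subtype.ext ?_⟩⟩
    show (x : G) * y = y * x
    rcases (hmem x).mp x.2 with h | h
    · simp [h]
    · have : (y : G) ∈ (Subgroup.centralizer {(x : G)} : Set G) := by
        rw [(key _ h).1]; exact (hmem y).mp y.2
      exact Subgroup.mem_centralizer_iff.mp this _ rfl
  have hord : ∀ e ∈ D, orderOf e = orderOf d := by
    intro e he
    rw [← (key d hd).2, ConjClasses.mem_carrier_iff_mk_eq, ConjClasses.mk_eq_mk_iff_isConj,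
      isConj_comm, isConj_iff] at he
    obtain ⟨g, rfl⟩ := he
    exact orderOf_conj g d
  set p := orderOf d with hpdef
  have hd1 : d ≠ 1 := fun h => hone (h ▸ hd)
  have hp1 : p ≠ 1 := by rw [hpdef, Ne, orderOf_eq_one_iff]; exact hd1
  have hp0 : p ≠ 0 := (orderOf_pos d).ne'
  have hp : p.Prime := by
    obtain ⟨r, hr, hrd⟩ := Nat.exists_prime_and_dvd hp1
    have ho : orderOf (d ^ (p / r)) = r :=
      orderOf_pow_orderOf_div hp0 hrd
    have hne : d ^ (p / r) ≠ 1 := fun h => by
      rw [h, orderOf_one] at ho; exact hr.ne_one ho.symm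
    have hdN : d ∈ N := (hmem d).mpr (Or.inr hd)
    have := ((hmem _).mp (pow_mem hdN (p / r))).resolve_left hne
    rw [← ho, hord _ this] at hr
    exact hr
  have hexp : ∀ x ∈ N, x ^ p = 1 := by
    intro x hx
    rcases (hmem x).mp hx with rfl | h
    · exact one_pow p
    · rw [← hord x h]; exact pow_orderOf_eq_one x
  have hreg : ∀ a : X, stabilizer N a = ⊥ := fun a => stabilizer_subgroup_eq_bot_iff.mpr
    fun g hg hga => by
      rcases (hmem g).mp hg with h | h
      · exact h
      · exact absurd hga (h a)
  have hcardN : Nat.card N = n := by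
    show Nat.card (Subgroup.centralizer ({d} : Set G) : Set G) = n
    rw [Nat.card_coe_set_eq, (key d hd).1, Set.ncard_insert_of_notMem hone, hD]
    omega
  have htrans : IsPretransitive N X := by
    refine ⟨fun a b => ?_⟩
    have hinj : Function.Injective fun g : N => g • a := fun g h e =>
      Subtype.ext (regular_unique (hreg a) g.2 h.2 e)
    exact ((Nat.bijective_iff_injective_and_card _).mpr ⟨hinj, hcardN⟩).2 b
  haveI : Fact p.Prime := ⟨hp⟩
  obtain ⟨j, hj⟩ := IsPGroup.iff_card.mp
    (fun g : N => ⟨1, Subtype.ext (by simpa using hexp g g.2)⟩ : IsPGroup p N)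
  rw [hcardN] at hj
  refine ⟨p, j, N, hp, ?_, hj, hNn, hNab, hexp, htrans, hreg, hmem⟩
  rcases j with _ | j
  · simp at hj; omega
  · omega

end Cfsg.Agent.Perm.SharplyTwo
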