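import Mathlib
import Cfsg.Prelude.Def_Perm
import Cfsg.Agent.Lib.Perm.Basic

/-!
Permutation modules: kernel maps, the number of orbitals, fixed vectors in characteristic `p`.
-/

set_option autoImplicit false

namespace Cfsg.Agent.Perm

open MulAction Finset

variable {K : Type*} [Field K] {G : Type*} [Group G] {Ω Ω₁ Ω₂ : Type*}
  [MulAction G Ω] [MulAction G Ω₁] [MulAction G Ω₂]

theorem permRep_apply (g : G) (f : Ω → K) (x : Ω) :
    Cfsg.permRep K G Ω g f x = f (g⁻¹ • x) := rfl

theorem permRep_single [DecidableEq Ω] (g : G) (a : Ω) (c : K) :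
    Cfsg.permRep K G Ω g (Pi.single a c) = Pi.single (g • a) c := by
  funext x
  rw [permRep_apply]
  by_cases h : x = g • a
  · subst h; simp
  · have : g⁻¹ • x ≠ a := fun e => h (by rw [← e, smul_inv_smul])
    simp [h, this]

theorem mem_permConstants_iff (f : Ω → K) :
    f ∈ (Cfsg.permConstants K G Ω).toSubmodule ↔ ∃ c : K, f = fun _ => c := by
  show f ∈ Submodule.span K {fun _ : Ω => (1 : K)} ↔ _
  rw [Submodule.mem_span_singleton]
  constructor
  · rintro ⟨c, rfl⟩; exact ⟨c, funext fun _ => mul_one c⟩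
  · rintro ⟨c, rfl⟩; exact ⟨c, funext fun _ => mul_one c⟩

theorem mem_permSumZero_iff [Fintype Ω] (f : Ω → K) :
    f ∈ (Cfsg.permSumZero K G Ω).toSubmodule ↔ ∑ x, f x = 0 := Iff.rfl

/-- The linear map with kernel `φ`. -/
def kerMap [Fintype Ω₁] (φ : Ω₂ → Ω₁ → K) : (Ω₁ → K) →ₗ[K] (Ω₂ → K) where
  toFun f y := ∑ x, φ y x * f x
  map_add' f g := by funext y; simp [mul_add, Finset.sum_add_distrib]
  map_smul' c f := by funext y; simp [Finset.mul_sum, mul_left_comm]

theorem kerMap_apply [Fintype Ω₁] (φ : Ω₂ → Ω₁ → K) (f : Ω₁ → K) (y : Ω₂) :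
    kerMap φ f y = ∑ x, φ y x * f x := rfl

theorem kerMap_single [Fintype Ω₁] [DecidableEq Ω₁] (φ : Ω₂ → Ω₁ → K) (x : Ω₁) (y : Ω₂) :
    kerMap φ (Pi.single x 1) y = φ y x := by
  rw [kerMap_apply, Finset.sum_eq_single x]
  · simp
  · intro b _ hb; simp [hb]
  · simp

theorem sum_inv_smul [Fintype Ω] {β : Type*} [AddCommMonoid β] (g : G) (F : Ω → β) :
    ∑ x, F (g⁻¹ • x) = ∑ x, F x :=
  Fintype.sum_equiv (MulAction.toPerm g⁻¹) _ _ (fun _ => rfl)

/-- An invariant kernel gives an equivariant map. -/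
theorem kerMap_comm [Fintype Ω₁] {φ : Ω₂ → Ω₁ → K}
    (hφ : ∀ (g : G) y x, φ (g • y) (g • x) = φ y x) (g : G) (f : Ω₁ → K) :
    kerMap φ (Cfsg.permRep K G Ω₁ g f) = Cfsg.permRep K G Ω₂ g (kerMap φ f) := by
  funext y
  rw [permRep_apply, kerMap_apply, kerMap_apply]
  simp only [permRep_apply]
  rw [← sum_inv_smul g (fun x => φ (g⁻¹ • y) x * f x)]
  simp only [hφ]

/-- Every linear map between function spaces is given by a kernel. -/
theorem eq_kerMap [Fintype Ω₁] [DecidableEq Ω₁] (T : (Ω₁ → K) →ₗ[K] (Ω₂ → K)) :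
    T = kerMap fun y x => T (Pi.single x 1) y := by
  apply LinearMap.pi_ext'
  intro x
  apply LinearMap.ext_ring
  funext y
  exact (kerMap_single (fun y x => T (Pi.single x 1) y) x y).symm

theorem finrank_invariants_linHom [Fintype Ω₁] [Fintype Ω₂] :
    Module.finrank K ((Cfsg.permRep K G Ω₁).linHom (Cfsg.permRep K G Ω₂)).invariants
      = Nat.card (orbitRel.Quotient G (Ω₁ × Ω₂)) := by
  classical
  let Q := orbitRel.Quotient G (Ω₁ × Ω₂)
  haveI : Finite Q := Quotient.finite _
  haveI := Fintype.ofFinite Q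
  have hinv : ∀ (F : Q → K), ∀ (g : G) (y : Ω₂) (x : Ω₁),
      F (Quotient.mk _ (g • x, g • y)) = F (Quotient.mk _ (x, y)) := fun F g y x =>
    congrArg F (Quotient.sound ⟨g, rfl⟩)
  let Ψ : (Q → K) →ₗ[K] ((Cfsg.permRep K G Ω₁).linHom (Cfsg.permRep K G Ω₂)).invariants :=
    { toFun := fun F => ⟨kerMap fun y x => F (Quotient.mk _ (x, y)), by
        intro g
        apply LinearMap.ext
        intro f
        rw [Representation.linHom_apply, LinearMap.comp_apply, LinearMap.comp_apply,
          ← kerMap_comm (hinv F) g, ← Module.End.mul_apply, ← map_mul, mul_inv_cancel, map_one]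
        rfl⟩
      map_add' := fun F F' => by
        apply Subtype.ext; apply LinearMap.ext; intro f; funext y
        simp [kerMap_apply, add_mul, Finset.sum_add_distrib]
      map_smul' := fun c F => by
        apply Subtype.ext; apply LinearMap.ext; intro f; funext y
        simp [kerMap_apply, Finset.mul_sum, mul_assoc] }
  have hb : Function.Bijective Ψ := by
    constructor
    · intro F F' e
      funext q
      induction q using Quotient.inductionOn with
      | h xy =>
        obtain ⟨x, y⟩ := xy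
        have := congrFun (congrArg (fun T : ((Cfsg.permRep K G Ω₁).linHom
          (Cfsg.permRep K G Ω₂)).invariants => T.1 (Pi.single x 1)) e) y
        simpa [Ψ, kerMap_single] using this
    · rintro ⟨T, hT⟩
      have hφ : ∀ (g : G) (x : Ω₁) (y : Ω₂),
          T (Pi.single (g • x) 1) (g • y) = T (Pi.single x 1) y := fun g x y => by
        have := congrFun (LinearMap.congr_fun (hT g) (Pi.single (g • x) 1)) (g • y)
        rw [Representation.linHom_apply, LinearMap.comp_apply, LinearMap.comp_apply,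
          permRep_single, permRep_apply, inv_smul_smul, inv_smul_smul] at this
        exact this.symm
      refine ⟨fun q => Quotient.liftOn q (fun xy => T (Pi.single xy.1 1) xy.2) ?_, ?_⟩
      · rintro ⟨a, b⟩ ⟨c, d⟩ ⟨g, hg⟩
        simp only [Prod.smul_mk, Prod.mk.injEq] at hg
        obtain ⟨rfl, rfl⟩ := hg
        exact hφ g c d
      · exact Subtype.ext (eq_kerMap T).symm
  rw [← (LinearEquiv.ofBijective Ψ hb).finrank_eq, Module.finrank_fintype_fun_eq_card,
    Nat.card_eq_fintype_card]

/-- The rank of a transitive action. -/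
theorem card_orbitRel_prod_eq [IsPretransitive G Ω] (a : Ω) :
    Nat.card (orbitRel.Quotient G (Ω × Ω)) = Nat.card (orbitRel.Quotient (stabilizer G a) Ω) := by
  let f : orbitRel.Quotient (stabilizer G a) Ω → orbitRel.Quotient G (Ω × Ω) :=
    Quotient.map (fun y => (a, y)) (fun y z ⟨h, e⟩ => ⟨(h : G), Prod.ext h.2 e⟩)
  refine (Nat.card_congr (Equiv.ofBijective f ⟨?_, ?_⟩)).symm
  · intro q q'
    refine Quotient.inductionOn₂ q q' fun y z e => ?_
    obtain ⟨g, hg⟩ := Quotient.exact e
    simp only [Prod.smul_mk, Prod.mk.injEq] at hg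
    exact Quotient.sound ⟨⟨g, hg.1⟩, hg.2⟩
  · intro q
    refine Quotient.inductionOn q fun xy => ?_
    obtain ⟨g, hg⟩ := exists_smul_eq G xy.1 a
    exact ⟨Quotient.mk _ (g • xy.2), Quotient.sound ⟨g, Prod.ext hg rfl⟩⟩

section CharP

variable {p : ℕ} [Fact p.Prime] [CharP K p]

/-- A non-zero vector in an invariant subspace yields a non-zero fixed vector of a finite
`p`-group in characteristic `p`. -/
theorem exists_fixed_vector {V : Type*} [AddCommGroup V] [Module K V]
    {P : Type*} [Group P] [Finite P] (hP : IsPGroup p P) (ρ : Representation K P V)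
    (W : Submodule K V) (hW : ∀ g, ∀ v ∈ W, ρ g v ∈ W) {v : V} (hv : v ∈ W) (hv0 : v ≠ 0) :
    ∃ w ∈ W, w ≠ 0 ∧ ∀ g, ρ g w = w := by
  letI := ZMod.algebra K p
  letI : Module (ZMod p) V := Module.compHom V (algebraMap (ZMod p) K)
  haveI : IsScalarTower (ZMod p) K V := IsScalarTower.of_algebraMap_smul fun _ _ => rfl
  let S : Submodule (ZMod p) V := Submodule.span (ZMod p) (Set.range fun g => ρ g v)
  haveI : Module.Finite (ZMod p) S := Module.Finite.span_of_finite _ (Set.finite_range _)
  haveI : Finite S := Module.finite_of_finite (ZMod p)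
  have hS : ∀ (g : P), ∀ w ∈ S, ρ g w ∈ S := by
    intro g w hw
    refine Submodule.span_induction ?_ ?_ ?_ ?_ hw
    · rintro _ ⟨h, rfl⟩
      exact Submodule.subset_span ⟨g * h, by simp [map_mul]⟩
    · rw [map_zero]; exact zero_mem _
    · intro x y _ _ hx hy; rw [map_add]; exact add_mem hx hy
    · intro c x _ hx
      rw [← algebraMap_smul K c x, map_smul, algebraMap_smul]
      exact S.smul_mem c hx
  letI : MulAction P S :=
    { smul := fun g w => ⟨ρ g w, hS g w w.2⟩
      one_smul := fun w => Subtype.ext (by show ρ 1 (w : V) = w; simp)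
      mul_smul := fun g h w => Subtype.ext (by show ρ (g * h) (w : V) = _; rw [map_mul]; rfl) }
  have hne : Nontrivial S :=
    ⟨⟨⟨v, Submodule.subset_span ⟨1, by simp⟩⟩, 0, fun e => hv0 (congrArg Subtype.val e)⟩⟩
  have hdvd : p ∣ Nat.card S := by
    haveI := Fintype.ofFinite S
    rw [Nat.card_eq_fintype_card, Module.card_eq_pow_finrank (K := ZMod p), ZMod.card]
    exact dvd_pow_self p (Module.finrank_pos.ne')
  obtain ⟨w, hw, hw0⟩ := hP.exists_fixed_point_of_prime_dvd_card_of_fixed_point S hdvd (a := 0)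
    (fun g => Subtype.ext (map_zero (ρ g)))
  refine ⟨w, ?_, fun e => hw0 (Subtype.ext e.symm), fun g => congrArg Subtype.val (hw g)⟩
  have hle : S ≤ W.restrictScalars (ZMod p) := Submodule.span_le.mpr (by
    rintro _ ⟨g, rfl⟩; exact hW g v hv)
  exact hle w.2

/-- A Sylow `p`-subgroup is transitive on an orbit of `p`-power length. -/
theorem sylow_isPretransitive [Finite G] [Finite Ω] [IsPretransitive G Ω] {f : ℕ}
    (hcard : Nat.card Ω = p ^ f) (P : Sylow p G) : IsPretransitive P Ω := by
  refine ⟨fun x y => ?_⟩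
  suffices orbit P x = Set.univ by
    have hy : y ∈ orbit P x := this ▸ Set.mem_univ y
    exact hy
  refine (Set.eq_univ_iff_ncard _).mpr (le_antisymm (Set.ncard_le_card _) ?_)
  rw [← Nat.card_coe_set_eq]
  set S := stabilizer P x
  have h1 := card_orbit_mul_card_stabilizer (G := P) x
  have h2 := card_eq_mul_card_stabilizer (G := G) x
  have hS : Nat.card S ∣ Nat.card (stabilizer G x) := by
    let ι : S →* stabilizer G x :=
      { toFun := fun s => ⟨((s : P) : G), s.2⟩
        map_one' := rfl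
        map_mul' := fun _ _ => rfl }
    exact Subgroup.card_dvd_of_injective ι fun a b e =>
      Subtype.ext (Subtype.ext (congrArg (fun q : stabilizer G x => (q : G)) e))
  obtain ⟨t, ht⟩ := IsPGroup.iff_card.mp (P.2.to_subgroup S)
  have hpd : p ^ (t + f) ∣ Nat.card P := by
    rw [P.card_eq_multiplicity]
    apply pow_dvd_pow
    rw [← Nat.Prime.pow_dvd_iff_le_factorization Fact.out Nat.card_pos.ne', pow_add, mul_comm,
      h2, hcard]
    exact mul_dvd_mul_left _ (ht ▸ hS)
  have hle := Nat.le_of_dvd Nat.card_pos hpd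
  rw [← h1, ht, pow_add, mul_comm (p ^ t)] at hle
  rw [hcard]
  exact Nat.le_of_mul_le_mul_right hle (pow_pos (Nat.Prime.pos Fact.out) t)

variable [Fintype Ω] [Finite G] [IsPretransitive G Ω] {f : ℕ}

theorem permConstants_le_of_ne_bot (hcard : Fintype.card Ω = p ^ f)
    (W : Subrepresentation (Cfsg.permRep K G Ω)) (hW : W.toSubmodule ≠ ⊥) :
    (Cfsg.permConstants K G Ω).toSubmodule ≤ W.toSubmodule := by
  obtain ⟨v, hv, hv0⟩ := Submodule.exists_mem_ne_zero_of_ne_bot hW
  obtain ⟨P⟩ := (inferInstance : Nonempty (Sylow p G))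
  haveI := sylow_isPretransitive (Ω := Ω) (Nat.card_eq_fintype_card.trans hcard) P
  obtain ⟨w, hwW, hw0, hw⟩ := exists_fixed_vector P.2 ((Cfsg.permRep K G Ω).comp (P : Subgroup G).subtype)
    W.toSubmodule (fun g v hv => W.apply_mem_toSubmodule _ hv) hv hv0
  intro u hu
  obtain ⟨c, rfl⟩ := (mem_permConstants_iff u).mp hu
  obtain ⟨x, hx⟩ : ∃ x, w x ≠ 0 := Function.ne_iff.mp hw0
  have hconst : ∀ y, w y = w x := fun y => by
    obtain ⟨g, hg⟩ := exists_smul_eq P y x
    have := congrFun (hw g) x
    have e : w ((((g : P) : G))⁻¹ • x) = w x := this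
    rw [← e, ← hg]
    exact congrArg w (inv_smul_smul ((g : P) : G) y).symm
  have : (fun _ : Ω => c) = (c / w x) • w := by
    funext y; simp [hconst y, div_mul_cancel₀ c hx]
  rw [this]
  exact W.toSubmodule.smul_mem _ hwW

theorem le_permSumZero_of_ne_top [DecidableEq Ω] (hcard : Fintype.card Ω = p ^ f)
    (W : Subrepresentation (Cfsg.permRep K G Ω)) (hW : W.toSubmodule ≠ ⊤) :
    W.toSubmodule ≤ (Cfsg.permSumZero K G Ω).toSubmodule := by
  let O : Subrepresentation (Cfsg.permRep K G Ω) :=
    { toSubmodule :=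
        { carrier := {u | ∀ w ∈ W.toSubmodule, ∑ x, u x * w x = 0}
          add_mem' := fun {u v} hu hv w hw => by
            simp only [Pi.add_apply, add_mul, Finset.sum_add_distrib, hu w hw, hv w hw, add_zero]
          zero_mem' := fun w _ => by simp
          smul_mem' := fun c u hu w hw => by
            simp only [Pi.smul_apply, smul_eq_mul, mul_assoc, ← Finset.mul_sum, hu w hw, mul_zero] }
      apply_mem_toSubmodule := fun g u hu w hw => by
        have := hu _ (W.apply_mem_toSubmodule g⁻¹ hw)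
        rw [← sum_inv_smul g] at this
        simpa [permRep_apply] using this }
  have hO : O.toSubmodule ≠ ⊥ := by
    obtain ⟨φ, hφ0, hφ⟩ := Submodule.exists_le_ker_of_lt_top W.toSubmodule (lt_top_iff_ne_top.mpr hW)
    intro e
    apply hφ0
    have hu : (fun x => φ (Pi.single x 1)) ∈ O.toSubmodule := fun w hw => by
      have : φ w = ∑ x, φ (Pi.single x 1) * w x := by
        conv_lhs => rw [pi_eq_sum_univ' w, map_sum]
        simp [mul_comm]
      rw [← this]
      exact LinearMap.mem_ker.mp (hφ hw)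
    rw [e, Submodule.mem_bot] at hu
    apply LinearMap.pi_ext'
    intro x
    apply LinearMap.ext_ring
    exact congrFun hu x
  intro w hw
  have h1 : (fun _ : Ω => (1 : K)) ∈ O.toSubmodule :=
    permConstants_le_of_ne_bot hcard O hO ((mem_permConstants_iff _).mpr ⟨1, rfl⟩)
  rw [mem_permSumZero_iff]
  simpa using h1 w hw

end CharP

end Cfsg.Agent.Perm
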