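import Cfsg.Agent.Lib.Perm.DegreeElevenMathieu
import Cfsg.Agent.Classification.SmallPSLUnique

/-!
# Transitive groups of degree 11
-/

set_option autoImplicit false
set_option linter.style.haveILetI false

namespace Cfsg.Agent.Perm.DegreeEleven

open MulAction Equiv Cfsg.Agent.Perm.PrimeDeg

variable {α : Type*} [Fintype α] [DecidableEq α]

theorem card_psl : Nat.card (Matrix.ProjectiveSpecialLinearGroup (Fin 2) (ZMod 11)) = 660 := by
  haveI : Fact (Nat.Prime 11) := ⟨by norm_num⟩
  have h := Cfsg.Agent.LinearGroup.gcd_mul_card_PSL_two (F := ZMod 11)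
  rw [Nat.card_zmod, show Nat.gcd 2 (11 - 1) = 2 from rfl] at h
  omega

/-- A transitive group of even permutations of order 660 on 11 points is simple. -/
theorem isSimpleGroup_of_card (hα : Fintype.card α = 11) (H : Subgroup (Perm α))
    [IsPretransitive H α] (hH : ¬ Group.IsSolvable H) (heven : H ≤ alternatingGroup α)
    (hA : ¬ alternatingGroup α ≤ H) (hcard : Nat.card H = 660) : IsSimpleGroup H := by
  classical
  haveI : Fact (Nat.Prime 11) := ⟨by norm_num⟩
  haveI : IsPreprimitive H α :=
    IsPreprimitive.of_prime_card (by rw [Nat.card_eq_fintype_card, hα]; norm_num)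
  haveI : Nontrivial H := Finite.one_lt_card_iff_nontrivial.mp (by omega)
  refine ⟨fun M hM => or_iff_not_imp_left.mpr fun hM0 => ?_⟩
  haveI := hM
  haveI := isPretransitive_of_normal_ne_bot (X := α) M hM0
  let MP : Subgroup (Perm α) := M.map H.subtype
  haveI : IsPretransitive MP α := ⟨fun x y => by
    obtain ⟨m, hm⟩ := exists_smul_eq M x y
    exact ⟨⟨((m : H) : Perm α), Subgroup.mem_map.mpr ⟨m, m.2, rfl⟩⟩, hm⟩⟩
  have eM : M ≃* MP := Subgroup.equivMapOfInjective M H.subtype H.subtype_injective
  by_cases hs : Group.IsSolvable MP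
  · exfalso
    set PM : Sylow 11 MP := default
    have hn := normal_sylow_of_isSolvable hα hs PM
    let Q : Subgroup M := (PM : Subgroup MP).comap eM.toMonoidHom
    haveI : Q.Normal := hn.comap _
    have hQc : Nat.card Q = 11 := by
      rw [← card_sylow hα PM]
      exact Nat.card_congr (eM.toEquiv.subtypeEquiv fun x => Iff.rfl)
    have h121 : ¬ 11 ∣ Q.index := by
      intro hd
      apply not_sq_dvd_card (G := H) (p := 11) hα
      refine dvd_trans ?_ (Subgroup.card_subgroup_dvd_card M)
      rw [← Q.card_mul_index, hQc, pow_two]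
      exact Nat.mul_dvd_mul_left 11 hd
    let S : Sylow 11 M := (IsPGroup.of_card (n := 1) (by rw [hQc, pow_one])).toSylow h121
    haveI : (S : Subgroup M).Normal := inferInstanceAs Q.Normal
    haveI : (S : Subgroup M).Characteristic := S.characteristic_of_normal inferInstance
    haveI : ((S : Subgroup M).map M.subtype).Normal := inferInstance
    let SH : Sylow 11 H := (IsPGroup.of_card (n := 1) (by
        rw [Subgroup.card_map_of_injective M.subtype_injective, pow_one]
        exact hQc) : IsPGroup 11 ((S : Subgroup M).map M.subtype)).toSylow (by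
      intro hd
      apply not_sq_dvd_card (G := H) (p := 11) hα
      rw [← ((S : Subgroup M).map M.subtype).card_mul_index,
        Subgroup.card_map_of_injective M.subtype_injective,
        show Nat.card (S : Subgroup M) = 11 from hQc, pow_two]
      exact Nat.mul_dvd_mul_left 11 hd)
    exact hH (isSolvable_of_normal_sylow hα SH
      (inferInstanceAs ((S : Subgroup M).map M.subtype).Normal))
  · have hle : MP ≤ H := Subgroup.map_subtype_le M
    have h := card_cases hα hs (hle.trans heven) fun hh => hA (hh.trans hle)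
    have hd : Nat.card MP ∣ 660 := hcard ▸ Subgroup.card_dvd_of_le hle
    rcases h with h | h
    · apply Subgroup.eq_top_of_card_eq
      rw [Nat.card_congr eM.toEquiv, h, hcard]
    · rw [h] at hd
      norm_num at hd

theorem ne_two_mul_660 (hα : Fintype.card α = 11) (G : Subgroup (Perm α)) [IsPretransitive G α]
    (hG : ¬ Group.IsSolvable G) : Nat.card G ≠ 1320 := by
  intro h
  haveI : Fact (Nat.Prime 11) := ⟨by norm_num⟩
  set P : Sylow 11 G := default
  set N := Subgroup.normalizer ((P : Subgroup G) : Set G)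
  obtain ⟨n, hn, hn11⟩ := exists_card_eq_mul P
  rw [h] at hn
  have hNe : Even (Nat.card N) := by
    rw [Nat.even_iff]
    have h110 : Nat.card N ∣ 110 := card_normalizer_dvd hα P
    have h11 : 11 ∣ Nat.card N := by
      have := Subgroup.card_dvd_of_le (Subgroup.le_normalizer : (P : Subgroup G) ≤ N)
      rwa [card_sylow hα P] at this
    obtain ⟨c, hc⟩ := h11
    rw [show Nat.card (Subgroup.normalizer ((P : Subgroup G) : Set G)) = 11 * c from hc] at hn
    have hc10 : c ≤ 10 := by
      have := Nat.le_of_dvd (by norm_num) h110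
      omega
    rw [hc]
    rw [hc] at h110
    interval_cases c <;> omega
  have h3 := three_transitive hα hG P hNe
  let x : Fin 3 ↪ α := (Fin.castLEEmb (show 3 ≤ Fintype.card α by omega)).trans
    (Fintype.equivFin α).symm.toEmbedding
  have h5 := card_eq_descFactorial_mul h3 x
  rw [h, hα, show (11 : ℕ).descFactorial 3 = 990 from rfl] at h5
  omega

theorem ne_two_mul_7920 (hα : Fintype.card α = 11) (G : Subgroup (Perm α))
    (hprim : IsPreprimitive G α) (hA : ¬ alternatingGroup α ≤ G)
    (H : Subgroup (Perm α)) (hle : H ≤ G) (heven : H = G ⊓ alternatingGroup α)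
    (hH4 : IsMultiplyPretransitive H α 4) (hHs : ∀ x : Fin 4 ↪ α, stabilizer H x = ⊥) :
    Nat.card G ≠ 15840 := by
  classical
  intro hG
  have h4 : IsMultiplyPretransitive G α 4 := by
    rw [MulAction.isMultiplyPretransitive_iff] at hH4 ⊢
    intro x y
    obtain ⟨h, hh⟩ := @hH4 x y
    exact ⟨⟨(h : Perm α), hle h.2⟩, hh⟩
  have hcardG : ∀ x : Fin 4 ↪ α, Nat.card (stabilizer G x) = 2 := by
    intro x
    have h := card_eq_descFactorial_mul h4 x
    rw [hG, hα, show (11 : ℕ).descFactorial 4 = 7920 from rfl] at h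
    omega
  have hsmall : ∀ u : G, u ≠ 1 → 4 ≤ (u : Perm α).support.card := fun u hu =>
    four_le_support hprim hA u.2 (fun h => hu (Subtype.ext h))
  -- the involutions with five fixed points
  let E : Finset G := Finset.univ.filter fun s => s ≠ 1 ∧ (s : Perm α).support.card ≤ 7
  have hex : ∀ T : Finset α, T.card = 4 → ∃ x : Fin 4 ↪ α, Finset.univ.image x = T := by
    intro T hT
    let e := (T.equivFinOfCardEq hT).symm
    refine ⟨e.toEmbedding.trans (Function.Embedding.subtype _), ?_⟩
    ext y
    simp only [Finset.mem_image, Finset.mem_univ, true_and]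
    constructor
    · rintro ⟨i, rfl⟩; exact (e i).2
    · intro hy; exact ⟨e.symm ⟨y, hy⟩, by simp⟩
  have hfix : ∀ (x : Fin 4 ↪ α) (u : G), u ∈ stabilizer G x ↔
      Finset.univ.image x ⊆ (u : Perm α).supportᶜ := by
    intro x u
    rw [mem_stabilizer_embedding]
    constructor
    · intro h y hy
      obtain ⟨i, -, rfl⟩ := Finset.mem_image.1 hy
      rw [Finset.mem_compl, Perm.notMem_support]
      exact h i
    · intro h i
      have := h (Finset.mem_image.2 ⟨i, Finset.mem_univ i, rfl⟩)
      rw [Finset.mem_compl, Perm.notMem_support] at this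
      exact this
  have hmemE : ∀ s : G, s ∈ E ↔ s ≠ 1 ∧ (s : Perm α).support.card ≤ 7 := fun s => by simp [E]
  have hEfix : ∀ s ∈ E, ∃ x : Fin 4 ↪ α, s ∈ stabilizer G x := by
    intro s hs
    obtain ⟨T, hTs, hT⟩ := Finset.exists_subset_card_eq
      (show 4 ≤ (s : Perm α).supportᶜ.card by
        rw [Finset.card_compl, hα]; have := ((hmemE s).1 hs).2; omega)
    obtain ⟨x, hx⟩ := hex T hT
    exact ⟨x, (hfix x s).2 (hx ▸ hTs)⟩
  have hsq : ∀ s ∈ E, s * s = 1 := by
    intro s hs
    obtain ⟨x, hx⟩ := hEfix s hs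
    have : (⟨s, hx⟩ : stabilizer G x) ^ 2 = 1 := by
      rw [← hcardG x]; exact pow_card_eq_one'
    rw [pow_two] at this
    exact congrArg Subtype.val this
  have hEf : ∀ s ∈ E, (s : Perm α).supportᶜ.card = 5 := by
    intro s hs
    obtain ⟨h1, h2⟩ := (hmemE s).1 hs
    have h4' := hsmall s h1
    have hs2 : (s : Perm α) ^ 2 = 1 := by
      rw [pow_two]; exact congrArg Subtype.val (hsq s hs)
    have hd := dvd_support Nat.prime_two (orderOf_eq_prime hs2 (fun h => h1 (Subtype.ext h)))
    have hnot : (s : Perm α) ∉ H := by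
      intro hsH
      obtain ⟨x, hx⟩ := hEfix s hs
      have : (⟨_, hsH⟩ : H) ∈ stabilizer H x := by
        rw [mem_stabilizer_embedding] at hx ⊢
        exact hx
      rw [hHs x, Subgroup.mem_bot] at this
      exact h1 (Subtype.ext (congrArg (fun u : H => (u : Perm α)) this))
    have hodd : ¬ Perm.sign (s : Perm α) = 1 := fun h =>
      hnot (heven ▸ Subgroup.mem_inf.2 ⟨s.2, Perm.mem_alternatingGroup.2 h⟩)
    rw [Finset.card_compl, hα]
    have h6 : (s : Perm α).support.card ≠ 4 := by
      intro h44
      apply hodd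
      rw [Perm.sign_of_pow_two_eq_one hs2, Perm.card_fixedPoints, hα, Perm.sum_cycleType, h44]
      decide
    omega
  -- four-sets correspond to pairs
  have hcount : (Finset.univ.powersetCard 4 : Finset (Finset α)).card = E.card * 5 := by
    have e : (Finset.univ.powersetCard 4 : Finset (Finset α)) =
        E.biUnion fun s => ((s : Perm α).supportᶜ).powersetCard 4 := by
      ext T
      rw [Finset.mem_powersetCard_univ, Finset.mem_biUnion]
      constructor
      · intro hT
        obtain ⟨x, hx⟩ := hex T hT
        haveI : Nontrivial (stabilizer G x) :=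
          Finite.one_lt_card_iff_nontrivial.1 (by rw [hcardG x]; norm_num)
        obtain ⟨s, hs⟩ := exists_ne (1 : stabilizer G x)
        have hsub := (hfix x s).1 s.2
        rw [hx] at hsub
        refine ⟨s, (hmemE _).2 ⟨fun h => hs (Subtype.ext h), ?_⟩,
          Finset.mem_powersetCard.2 ⟨hsub, hT⟩⟩
        have := Finset.card_le_card hsub
        rw [Finset.card_compl, hα] at this
        omega
      · rintro ⟨s, -, hT⟩
        exact (Finset.mem_powersetCard.1 hT).2
    rw [e, Finset.card_biUnion]
    · rw [Finset.sum_const_nat fun s hs => ?_]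
      rw [Finset.card_powersetCard, hEf s hs]
      rfl
    · intro s hs t ht hne
      rw [Function.onFun, Finset.disjoint_left]
      intro T hT hT'
      rw [Finset.mem_powersetCard] at hT hT'
      apply hne
      obtain ⟨x, hx⟩ := hex T hT.2
      have hsx : s ∈ stabilizer G x := (hfix x s).2 (hx ▸ hT.1)
      have htx : t ∈ stabilizer G x := (hfix x t).2 (hx ▸ hT'.1)
      have h2 := Nat.card_eq_two_iff' (1 : stabilizer G x) |>.1 (hcardG x)
      exact congrArg Subtype.val (h2.unique (y₁ := ⟨s, hsx⟩) (y₂ := ⟨t, htx⟩)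
        (fun h => ((hmemE s).1 hs).1 (congrArg Subtype.val h))
        (fun h => ((hmemE t).1 ht).1 (congrArg Subtype.val h)))
  rw [Finset.card_powersetCard, Finset.card_univ, hα,
    show Nat.choose 11 4 = 330 from rfl] at hcount
  have hE : E.card = 66 := by omega
  obtain ⟨s, hs⟩ := Finset.card_pos.1 (show 0 < E.card by omega)
  obtain ⟨hs1, hs7⟩ := (hmemE s).1 hs
  have horb : Nat.card (orbit (ConjAct G) s) = 66 := by
    rw [← hE, ← Nat.card_eq_finsetCard]
    have hcoe : orbit (ConjAct G) s = (E : Set G) := by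
      ext t
      constructor
      · rintro ⟨g, rfl⟩
        rw [Finset.mem_coe, hmemE]
        change g • s ≠ 1 ∧ ((g • s : G) : Perm α).support.card ≤ 7
        rw [ConjAct.smul_def]
        refine ⟨fun h => hs1 (conj_eq_one_iff.1 h), ?_⟩
        rw [Subgroup.coe_mul, Subgroup.coe_mul, Subgroup.coe_inv, Perm.card_support_conj]
        exact hs7
      · intro ht
        obtain ⟨x, hx⟩ := hEfix s hs
        obtain ⟨y, hy⟩ := hEfix t ht
        obtain ⟨g, hg⟩ := (MulAction.isMultiplyPretransitive_iff.1 h4) (x := x) (y := y)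
        refine ⟨ConjAct.toConjAct g, ?_⟩
        show ConjAct.toConjAct g • s = t
        rw [ConjAct.toConjAct_smul]
        have hgs : g * s * g⁻¹ ∈ stabilizer G y := by
          rw [mem_stabilizer_embedding] at hx ⊢
          intro i
          have hgi : g • x i = y i := congrArg (fun e : Fin 4 ↪ α => e i) hg
          rw [← hgi, mul_smul, mul_smul, inv_smul_smul, hx i]
        have h2 := Nat.card_eq_two_iff' (1 : stabilizer G y) |>.1 (hcardG y)
        exact congrArg Subtype.val (h2.unique (y₁ := ⟨_, hgs⟩) (y₂ := ⟨t, hy⟩)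
          (fun h => hs1 (conj_eq_one_iff.1 (congrArg Subtype.val h)))
          (fun h => ((hmemE t).1 ht).1 (congrArg Subtype.val h)))
    rw [hcoe]
    rfl
  set C := MulAction.stabilizer (ConjAct G) s with hC
  have hCc : Nat.card C = 240 := by
    have h := card_orbit_mul_card_stabilizer (G := ConjAct G) s
    rw [horb, ← hC, Nat.card_congr (ConjAct.ofConjAct (G := G)).toEquiv, hG] at h
    omega
  haveI : Fact (Nat.Prime 5) := ⟨by norm_num⟩
  obtain ⟨c, hc⟩ := exists_prime_orderOf_dvd_card' (G := C) 5 (by rw [hCc]; norm_num)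
  set g : G := ConjAct.ofConjAct (c : ConjAct G) with hg
  have hcomm : g * s * g⁻¹ = s := by
    have := c.2
    rw [mem_stabilizer_iff, ConjAct.smul_def] at this
    exact this
  have hgo : orderOf (g : Perm α) = 5 := by
    rw [hg, Subgroup.orderOf_coe, MulEquiv.orderOf_eq, Subgroup.orderOf_coe, hc]
  have h10 := support_five hα hprim hA g.2 hgo
  -- `g` would permute the five fixed points and the three transpositions of `s`
  set u : Perm α := (s : Perm α) with hu
  set v : Perm α := (g : Perm α) with hv
  have hcomm' : ∀ y, v (u y) = u (v y) := fun y => by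
    have h := congrArg (fun w : G => ((w : Perm α) : α → α) (v y)) hcomm
    simpa [hu, hv] using h
  have hu6 : u.support.card = 6 := by
    have h5 : u.supportᶜ.card = 5 := hEf s hs
    rw [Finset.card_compl, hα] at h5
    omega
  have hu2 : ∀ y, u (u y) = y := fun y =>
    Perm.congr_fun (congrArg Subtype.val (hsq s hs)) y
  obtain ⟨z, hz⟩ := Finset.card_eq_one.1
    (show v.supportᶜ.card = 1 by rw [Finset.card_compl, hα, h10])
  have hzfix : ∀ y, v y = y ↔ y = z := fun y => by
    rw [← Perm.notMem_support, ← Finset.mem_compl, hz, Finset.mem_singleton]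
  have huz : u z = z := (hzfix _).1 (by rw [hcomm', (hzfix z).2 rfl])
  let X : SubMulAction (Subgroup.zpowers v) α :=
    { carrier := {y | u y ≠ y}
      smul_mem' := fun w y hy => by
        obtain ⟨_, k, rfl⟩ := w
        show u ((v ^ k) y) ≠ (v ^ k) y
        have hk : Commute (v ^ k) u := (show Commute v u from Equiv.ext hcomm').zpow_left k
        rw [← Perm.mul_apply, ← hk.eq, Perm.mul_apply]
        exact fun h => hy ((v ^ k).injective h) }
  have hP : IsPGroup 5 (Subgroup.zpowers v) :=
    IsPGroup.of_card (n := 1) (by rw [Nat.card_zpowers, hgo, pow_one])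
  have hmod := hP.card_modEq_card_fixedPoints X
  have hX : Nat.card X = 6 := by
    rw [← hu6, ← Nat.card_eq_finsetCard]
    exact Nat.card_congr (Equiv.subtypeEquivRight fun y => by rw [Perm.mem_support]; rfl)
  have h0 : Nat.card (fixedPoints (Subgroup.zpowers v) X) = 0 := by
    rw [Nat.card_eq_zero]
    refine Or.inl ⟨fun ⟨⟨y, hy⟩, hyf⟩ => ?_⟩
    have hyz := (hzfix y).1 (congrArg Subtype.val (hyf ⟨v, Subgroup.mem_zpowers v⟩))
    exact hy (hyz ▸ huz)
  rw [hX, h0, Nat.ModEq] at hmod
  omega

/-- Non-solvable transitive groups of degree 11. -/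
theorem main (hα : Fintype.card α = 11) (G : Subgroup (Perm α)) [IsPretransitive G α]
    (hG : ¬ Group.IsSolvable G) (hA : ¬ alternatingGroup α ≤ G) :
    (IsMultiplyPretransitive G α 4 ∧ ∀ x : Fin 4 ↪ α, stabilizer G x = ⊥) ∨
      Nonempty (G ≃* Matrix.ProjectiveSpecialLinearGroup (Fin 2) (ZMod 11)) := by
  classical
  haveI : Fact (Nat.Prime 11) := ⟨by norm_num⟩
  haveI : Nontrivial α := Fintype.one_lt_card_iff_nontrivial.mp (by omega)
  set P : Sylow 11 G := default
  obtain ⟨τ, e, he, hτ, hPz⟩ := exists_coord_of_sylow hα P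
  set H := G ⊓ alternatingGroup α with hH
  have hτH : ((τ : G) : Equiv.Perm α) ∈ H := by
    refine Subgroup.mem_inf.mpr ⟨τ.2, Equiv.Perm.mem_alternatingGroup.mpr ?_⟩
    have h1 : Equiv.Perm.sign ((τ : G) : Equiv.Perm α) ^ 11 = 1 := by
      rw [← map_pow, ← Subgroup.coe_pow, ← hτ, pow_orderOf_eq_one, Subgroup.coe_one, map_one]
    rcases Int.units_eq_one_or (Equiv.Perm.sign ((τ : G) : Equiv.Perm α)) with h | h
    · exact h
    · rw [h] at h1; exact absurd h1 (by decide)
  have hpow : ∀ (n : ℕ) i, τ ^ n • e i = e (i + n) := by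
    intro n
    induction n with
    | zero => intro i; simp
    | succ n ih => intro i; rw [pow_succ', mul_smul, ih, he]; congr 1; push_cast; ring
  haveI : IsPretransitive H α := ⟨fun x y => by
    obtain ⟨i, rfl⟩ := e.surjective x
    obtain ⟨j, rfl⟩ := e.surjective y
    refine ⟨⟨_, pow_mem hτH (j - i).val⟩, ?_⟩
    show τ ^ (j - i).val • e i = e j
    rw [hpow, ZMod.natCast_zmod_val, add_sub_cancel]⟩
  let f : G →* ℤˣ := Equiv.Perm.sign.comp G.subtype
  have hker : Nat.card f.ker = Nat.card H :=
    Nat.card_congr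
      { toFun := fun g => ⟨((g : G) : Equiv.Perm α), Subgroup.mem_inf.mpr
          ⟨(g : G).2, Equiv.Perm.mem_alternatingGroup.mpr g.2⟩⟩
        invFun := fun g => ⟨⟨g.1, (Subgroup.mem_inf.mp g.2).1⟩,
          Equiv.Perm.mem_alternatingGroup.mp (Subgroup.mem_inf.mp g.2).2⟩
        left_inv := fun _ => rfl
        right_inv := fun _ => rfl }
  have hHsolv : ¬ Group.IsSolvable H := by
    intro hs
    apply hG
    haveI : Group.IsSolvable f.ker := by
      let ι : f.ker →* H :=
        { toFun := fun g => ⟨((g : G) : Equiv.Perm α), Subgroup.mem_inf.mpr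
            ⟨(g : G).2, Equiv.Perm.mem_alternatingGroup.mpr g.2⟩⟩
          map_one' := rfl
          map_mul' := fun _ _ => rfl }
      haveI := hs
      exact Group.isSolvable_of_isSolvable_injective (f := ι) fun a b h =>
        Subtype.ext (Subtype.ext (congrArg (fun q : H => (q : Equiv.Perm α)) h))
    exact Group.isSolvable_of_ker_le_range f.ker.subtype f (by rw [Subgroup.range_subtype])
  have hHA : ¬ alternatingGroup α ≤ H := fun h => hA (h.trans inf_le_left)
  have hHprim : IsPreprimitive H α :=
    IsPreprimitive.of_prime_card (by rw [Nat.card_eq_fintype_card, hα]; norm_num)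
  have hGprim : IsPreprimitive G α :=
    IsPreprimitive.of_prime_card (by rw [Nat.card_eq_fintype_card, hα]; norm_num)
  have h2 : IsMultiplyPretransitive H α 2 :=
    (Cfsg.Agent.FGS80.Burnside.isSolvable_or_two_transitive (G := H) hα).resolve_left hHsolv
  have hrange : Nat.card G = Nat.card H ∨ Nat.card G = 2 * Nat.card H := by
    have h1 := f.ker.card_mul_index
    rw [hker, Subgroup.index_ker] at h1
    have hle : Nat.card f.range ≤ 2 := by
      refine (Nat.card_le_card_of_injective _ Subtype.val_injective).trans ?_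
      rw [Nat.card_eq_fintype_card, Fintype.card_units_int]
    have hpos : 0 < Nat.card f.range := Nat.card_pos
    rcases Nat.lt_or_ge (Nat.card f.range) 2 with h | h
    · left; rw [← h1, show Nat.card f.range = 1 by omega, mul_one]
    · right; rw [← h1, show Nat.card f.range = 2 by omega, mul_comm]
  have heqH : Nat.card G = Nat.card H → H = G := fun h =>
    Subgroup.eq_of_le_of_card_ge inf_le_left h.le
  rcases card_cases hα hHsolv inf_le_right hHA with hc | hc
  · right
    have hGc : Nat.card G = Nat.card H := hrange.resolve_right fun h =>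
      ne_two_mul_660 hα G hG (by rw [h, hc])
    haveI := isSimpleGroup_of_card hα H hHsolv inf_le_right hHA hc
    haveI := Cfsg.Agent.Classification.isSimpleGroup_psl_two (ZMod 11)
      (by rw [ZMod.card]; norm_num)
    obtain ⟨e'⟩ := Cfsg.Agent.Classification.equiv_660 (G := H)
      (G' := Matrix.ProjectiveSpecialLinearGroup (Fin 2) (ZMod 11)) hc card_psl
    exact ⟨(MulEquiv.subgroupCongr (heqH hGc).symm).trans e'⟩
  · left
    obtain ⟨h4, hs⟩ := sharply_four_transitive hα hHprim hHA inf_le_right h2 hc
    have hGc : Nat.card G = Nat.card H := hrange.resolve_right fun h =>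
      ne_two_mul_7920 hα G hGprim hA H inf_le_left rfl h4 hs (by rw [h, hc])
    have hGH : H = G := heqH hGc
    exact hGH ▸ ⟨h4, hs⟩

end Cfsg.Agent.Perm.DegreeEleven
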