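import Cfsg.Agent.Lib.Perm.PrimeDegreeOrders

/-!
Transitive groups of degree 7.
-/

set_option autoImplicit false

namespace Cfsg.Agent.Perm.DegreeSeven

open MulAction Cfsg.Agent.Perm.PrimeDeg

variable {α : Type*} [Fintype α] [DecidableEq α]

theorem sign_reflection : ∀ b : ZMod 7, Equiv.Perm.sign (Equiv.subLeft b) = -1 := by decide

/-- A non-solvable transitive group of even permutations of 7 points is `A₇` or has order 168. -/
theorem card_eq (hα : Fintype.card α = 7) (H : Subgroup (Equiv.Perm α)) [IsPretransitive H α]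
    (hH : ¬ Group.IsSolvable H) (heven : H ≤ alternatingGroup α) :
    Nat.card H = 168 ∨ H = alternatingGroup α := by
  haveI : Fact (Nat.Prime 7) := ⟨by norm_num⟩
  haveI : Nontrivial α := Fintype.one_lt_card_iff_nontrivial.mp (by omega)
  set P : Sylow 7 H := default
  set N := Subgroup.normalizer ((P : Subgroup H) : Set H)
  have hN7 : 7 ∣ Nat.card N := by
    have := Subgroup.card_dvd_of_le (Subgroup.le_normalizer : (P : Subgroup H) ≤ N)
    rwa [card_sylow hα P] at this
  have hNdvd : Nat.card N ∣ 42 := card_normalizer_dvd hα P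
  have hodd : ¬ Even (Nat.card N) := by
    intro he
    obtain ⟨τ, e, t, b, -, -, ht⟩ := exists_reflection hα (by norm_num) P he
    have hperm : ((t : H) : Equiv.Perm α) = (e.symm.trans (Equiv.subLeft b)).trans e := by
      ext x
      obtain ⟨i, rfl⟩ := e.surjective x
      show t • e i = _
      simp [ht]
    have hs : Equiv.Perm.sign ((t : H) : Equiv.Perm α) = 1 :=
      Equiv.Perm.mem_alternatingGroup.mp (heven t.2)
    rw [hperm, Equiv.Perm.sign_symm_trans_trans, sign_reflection] at hs
    exact absurd hs (by decide)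
  have hN21 : Nat.card N = 21 := by
    have hne : Nat.card N ≠ 7 := card_normalizer_ne_prime hα hH P
    rw [Nat.even_iff] at hodd
    have hle := Nat.le_of_dvd (by norm_num) hNdvd
    obtain ⟨c, hc⟩ := hN7
    have : c ∣ 6 := by
      rw [hc] at hNdvd
      exact (Nat.mul_dvd_mul_iff_left (show 0 < 7 by norm_num)).mp (show 7 * c ∣ 7 * 6 from hNdvd)
    have : c ≤ 6 := by omega
    interval_cases c <;> omega
  obtain ⟨n, hn, hn7⟩ := exists_card_eq_mul P
  rw [show Nat.card (Subgroup.normalizer ((P : Subgroup H) : Set H)) = 21 from hN21] at hn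
  have hA : Nat.card (alternatingGroup α) = 2520 := by
    rw [nat_card_alternatingGroup, Nat.card_eq_fintype_card, hα]; rfl
  have hdvd : Nat.card H ∣ 2520 := hA ▸ Subgroup.card_dvd_of_le heven
  have h2 : IsMultiplyPretransitive H α 2 :=
    (Cfsg.Agent.FGS80.Burnside.isSolvable_or_two_transitive (G := H) hα).resolve_left hH
  have h42 : 2 ∣ Nat.card H := by
    haveI := h2
    obtain ⟨a, b, hab⟩ := exists_pair_ne α
    haveI := isPretransitive_of_is_two_pretransitive (G := H) (α := α)
    rw [card_eq_mul_card_stabilizer (G := H) a, card_stabilizer_two (Ne.symm hab),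
      Nat.card_eq_fintype_card, hα]
    exact Dvd.dvd.mul_left (Dvd.dvd.mul_right (by norm_num) _) 7
  rw [hn] at hdvd h42
  have hnd : n ∣ 120 := by
    have : 21 * n ∣ 21 * 120 := by rw [mul_comm]; exact hdvd
    exact (Nat.mul_dvd_mul_iff_left (by norm_num)).mp this
  have hn2 : 2 ∣ n := (Nat.Coprime.dvd_mul_right (by norm_num)).mp h42
  have hmem : n ∈ Nat.divisors 120 := Nat.mem_divisors.mpr ⟨hnd, by norm_num⟩
  have : ∀ m ∈ Nat.divisors 120, m % 7 = 1 → 2 ∣ m → m = 8 ∨ m = 120 := by decide
  rcases this n hmem hn7 hn2 with rfl | rfl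
  · exact Or.inl hn
  · exact Or.inr (Subgroup.eq_of_le_of_card_ge heven (by rw [hA, hn]))

theorem main (hα : Fintype.card α = 7) (G : Subgroup (Equiv.Perm α)) [IsPretransitive G α]
    (hG : ¬ Group.IsSolvable G) (hA : ¬ alternatingGroup α ≤ G) :
    Nat.card G = 168 ∧ IsSimpleGroup G := by
  classical
  haveI : Fact (Nat.Prime 7) := ⟨by norm_num⟩
  haveI : Nontrivial α := Fintype.one_lt_card_iff_nontrivial.mp (by omega)
  set P : Sylow 7 G := default
  obtain ⟨τ, e, he, hτ, hPz⟩ := exists_coord_of_sylow hα P
  set H := G ⊓ alternatingGroup α with hH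
  have hτH : ((τ : G) : Equiv.Perm α) ∈ H := by
    refine Subgroup.mem_inf.mpr ⟨τ.2, Equiv.Perm.mem_alternatingGroup.mpr ?_⟩
    have h1 : Equiv.Perm.sign ((τ : G) : Equiv.Perm α) ^ 7 = 1 := by
      rw [← map_pow, ← Subgroup.coe_pow, ← hτ, pow_orderOf_eq_one, Subgroup.coe_one, map_one]
    rcases Int.units_eq_one_or (Equiv.Perm.sign ((τ : G) : Equiv.Perm α)) with h | h
    · exact h
    · rw [h] at h1; exact absurd h1 (by decide)
  have hpow : ∀ (n : ℕ) i, τ ^ n • e i = e (i + n) := by
    intro n
    induction n with
    | zero => intro i; simp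
    | succ n ih => intro i; rw [pow_succ', mul_smul, ih, he]; congr 1; push_cast; ring
  haveI : IsPretransitive H α := ⟨fun x y => by
    obtain ⟨i, rfl⟩ := e.surjective x
    obtain ⟨j, rfl⟩ := e.surjective y
    refine ⟨⟨_, pow_mem hτH (j - i).val⟩, ?_⟩
    show τ ^ (j - i).val • e i = e j
    rw [hpow, ZMod.natCast_zmod_val, add_sub_cancel]⟩
  let f : G →* ℤˣ := Equiv.Perm.sign.comp G.subtype
  have hHsolv : ¬ Group.IsSolvable H := by
    intro hs
    apply hG
    haveI : Group.IsSolvable f.ker := by
      let ι : f.ker →* H :=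
        { toFun := fun g => ⟨((g : G) : Equiv.Perm α), Subgroup.mem_inf.mpr
            ⟨(g : G).2, Equiv.Perm.mem_alternatingGroup.mpr g.2⟩⟩
          map_one' := rfl
          map_mul' := fun _ _ => rfl }
      haveI := hs
      exact Group.isSolvable_of_isSolvable_injective (f := ι) fun a b h =>
        Subtype.ext (Subtype.ext (congrArg (fun q : H => (q : Equiv.Perm α)) h))
    exact Group.isSolvable_of_ker_le_range f.ker.subtype f (by rw [Subgroup.range_subtype])
  have hcard : Nat.card H = 168 := (card_eq hα H hHsolv inf_le_right).resolve_right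
    fun h => hA (h ▸ inf_le_left)
  have hHG : Nat.card f.ker = 168 := by
    rw [← hcard]
    exact Nat.card_congr
      { toFun := fun g => ⟨((g : G) : Equiv.Perm α), Subgroup.mem_inf.mpr
          ⟨(g : G).2, Equiv.Perm.mem_alternatingGroup.mpr g.2⟩⟩
        invFun := fun g => ⟨⟨g.1, (Subgroup.mem_inf.mp g.2).1⟩,
          Equiv.Perm.mem_alternatingGroup.mp (Subgroup.mem_inf.mp g.2).2⟩
        left_inv := fun _ => rfl
        right_inv := fun _ => rfl }
  set N := Subgroup.normalizer ((P : Subgroup G) : Set G)
  have hNdvd : Nat.card N ∣ 42 := card_normalizer_dvd hα P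
  have hG168 : Nat.card G = 168 := by
    have h1 := f.ker.card_mul_index
    rw [hHG, Subgroup.index_ker] at h1
    have hle : Nat.card f.range ≤ 2 := by
      refine (Nat.card_le_card_of_injective _ Subtype.val_injective).trans ?_
      rw [Nat.card_eq_fintype_card, Fintype.card_units_int]
    have hpos : 0 < Nat.card f.range := Nat.card_pos
    rcases Nat.lt_or_ge (Nat.card f.range) 2 with h | h
    · rw [← h1, show Nat.card f.range = 1 by omega, mul_one]
    · exfalso
      have h336 : Nat.card G = 336 := by rw [← h1, show Nat.card f.range = 2 by omega]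
      obtain ⟨n, hn, hn7⟩ := exists_card_eq_mul P
      rw [h336] at hn
      have hNe : Even (Nat.card N) := by
        rw [Nat.even_iff]
        have h3 := Nat.le_of_dvd (by norm_num) hNdvd
        have h7 : 7 ∣ Nat.card N := by
          have := Subgroup.card_dvd_of_le (Subgroup.le_normalizer : (P : Subgroup G) ≤ N)
          rwa [card_sylow hα P] at this
        obtain ⟨c, hc⟩ := h7
        rw [show Nat.card (Subgroup.normalizer ((P : Subgroup G) : Set G)) = 7 * c from hc] at hn
        have : c ≤ 6 := by omega
        interval_cases c <;> omega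
      haveI h3 := three_transitive hα hG P hNe
      obtain ⟨s, -, hs⟩ := Set.exists_subset_card_eq (s := (Set.univ : Set α))
        (show 3 ≤ Set.univ.ncard by rw [Set.ncard_univ, Nat.card_eq_fintype_card, hα]; norm_num)
      have h4 := IsMultiplyPretransitive.index_of_fixingSubgroup_mul (G := G) h3 hs
      rw [Nat.card_eq_fintype_card (α := α), hα] at h4
      have h5 : (fixingSubgroup G s).index = 210 := by
        simp [Nat.factorial] at h4
        omega
      have h6 := Subgroup.index_dvd_card (fixingSubgroup G s)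
      rw [h5, h336] at h6
      omega
  refine ⟨hG168, ?_⟩
  have heven : G ≤ alternatingGroup α := by
    have : H = G := Subgroup.eq_of_le_of_card_ge inf_le_left (by rw [hcard, hG168])
    exact this ▸ inf_le_right
  haveI : IsPreprimitive G α :=
    IsPreprimitive.of_prime_card (by rw [Nat.card_eq_fintype_card, hα]; norm_num)
  haveI : Nontrivial G := Finite.one_lt_card_iff_nontrivial.mp (by omega)
  refine ⟨fun M hM => or_iff_not_imp_left.mpr fun hM0 => ?_⟩
  haveI := hM
  haveI := isPretransitive_of_normal_ne_bot (X := α) M hM0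
  let MP : Subgroup (Equiv.Perm α) := M.map G.subtype
  haveI : IsPretransitive MP α := ⟨fun x y => by
    obtain ⟨m, hm⟩ := exists_smul_eq M x y
    exact ⟨⟨((m : G) : Equiv.Perm α), Subgroup.mem_map.mpr ⟨m, m.2, rfl⟩⟩, hm⟩⟩
  have eM : M ≃* MP := Subgroup.equivMapOfInjective M G.subtype G.subtype_injective
  by_cases hs : Group.IsSolvable MP
  · exfalso
    set PM : Sylow 7 MP := default
    have hn := normal_sylow_of_isSolvable hα hs PM
    -- the normal Sylow subgroup of `M` is normal in `G`
    let Q : Subgroup M := (PM : Subgroup MP).comap eM.toMonoidHom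
    haveI : Q.Normal := hn.comap _
    have hQc : Nat.card Q = 7 := by
      rw [← card_sylow hα PM]
      exact Nat.card_congr (eM.toEquiv.subtypeEquiv fun x => Iff.rfl)
    have h49 : ¬ 7 ∣ Q.index := by
      intro hd
      apply not_sq_dvd_card (G := G) (p := 7) hα
      refine dvd_trans ?_ (Subgroup.card_subgroup_dvd_card M)
      rw [← Q.card_mul_index, hQc, pow_two]
      exact Nat.mul_dvd_mul_left 7 hd
    let S : Sylow 7 M := (IsPGroup.of_card (n := 1) (by rw [hQc, pow_one])).toSylow h49
    haveI : (S : Subgroup M).Normal := inferInstanceAs Q.Normal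
    haveI : (S : Subgroup M).Characteristic := S.characteristic_of_normal inferInstance
    haveI : ((S : Subgroup M).map M.subtype).Normal := inferInstance
    let SG : Sylow 7 G := (IsPGroup.of_card (n := 1) (by
        rw [Subgroup.card_map_of_injective M.subtype_injective, pow_one]
        exact hQc) : IsPGroup 7 ((S : Subgroup M).map M.subtype)).toSylow (by
      intro hd
      apply not_sq_dvd_card (G := G) (p := 7) hα
      rw [← ((S : Subgroup M).map M.subtype).card_mul_index,
        Subgroup.card_map_of_injective M.subtype_injective, show Nat.card (S : Subgroup M) = 7 from hQc,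
        pow_two]
      exact Nat.mul_dvd_mul_left 7 hd)
    exact hG (isSolvable_of_normal_sylow hα SG
      (inferInstanceAs ((S : Subgroup M).map M.subtype).Normal))
  · rcases card_eq hα MP hs ((Subgroup.map_subtype_le M).trans heven) with h | h
    · apply Subgroup.eq_top_of_card_eq
      rw [Nat.card_congr eM.toEquiv, h, hG168]
    · exact absurd ((h ▸ Subgroup.map_subtype_le M : alternatingGroup α ≤ G)) hA

end Cfsg.Agent.Perm.DegreeSeven
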