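import Cfsg.Prelude.Def_CaseTheorems
import Cfsg.Agent.Lib.Involution.IndexTwo
import Cfsg.Agent.Lib.PGroup.Basic

/-!
A four-group `U` acting on a perfect group `A` such that every `C_A(u)`, `u ∈ U#`, has 2-rank at
most 1 forces `A` to have 2-rank at most 1.

Take a `U`-invariant Sylow `S` and a maximal `SU`-invariant abelian `M ≤ S`; it is cyclic,
self-centralising, and of index at most 2. Some `u ∈ U#` centralises the cyclic subgroup `⟨w⟩` of
order 4 of `M` and maps every other involution `s` to `sz`, so `c = uw` centralises `E = ⟨z, s⟩`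
with `c² = z`, while transfer gives an element of `A` normalising `E` and moving `z`.
-/

set_option autoImplicit false

namespace Cfsg.Agent.Perm.FourAct

open Subgroup
open scoped Pointwise

variable {G : Type*} [Group G]

/-- The group of order 4 generated by two commuting involutions. -/
def pairGroup (y z : G) (hy : y * y = 1) (hz : z * z = 1) (hyz : y * z = z * y) : Subgroup G where
  carrier := {1, y, z, y * z}
  one_mem' := by simp
  mul_mem' := by
    have h1 : y * (y * z) = z := by rw [← mul_assoc, hy, one_mul]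
    have h2 : y * z * z = y := by rw [mul_assoc, hz, mul_one]
    have h3 : z * (y * z) = y := by rw [hyz, ← mul_assoc, hz, one_mul]
    have h4 : y * z * y = z := by rw [mul_assoc, ← hyz, h1]
    have h5 : y * z * (y * z) = 1 := by rw [← mul_assoc, h4, hz]
    intro a b ha hb
    simp only [Set.mem_insert_iff, Set.mem_singleton_iff] at ha hb ⊢
    rcases ha with rfl | rfl | rfl | rfl <;> rcases hb with rfl | rfl | rfl | rfl <;>
      simp [hy, hz, h1, h2, h3, h4, h5, ← hyz]
  inv_mem' := by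
    have hy' : y⁻¹ = y := inv_eq_of_mul_eq_one_right hy
    have hz' : z⁻¹ = z := inv_eq_of_mul_eq_one_right hz
    intro a ha
    simp only [Set.mem_insert_iff, Set.mem_singleton_iff] at ha ⊢
    rcases ha with rfl | rfl | rfl | rfl <;> simp [hy', hz', mul_inv_rev, ← hyz]

theorem mem_pairGroup {y z : G} {hy : y * y = 1} {hz : z * z = 1} {hyz : y * z = z * y} {a : G} :
    a ∈ pairGroup y z hy hz hyz ↔ a = 1 ∨ a = y ∨ a = z ∨ a = y * z := Iff.rfl

theorem pairGroup_sq {y z : G} {hy : y * y = 1} {hz : z * z = 1} {hyz : y * z = z * y} {a : G}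
    (ha : a ∈ pairGroup y z hy hz hyz) : a * a = 1 := by
  rcases mem_pairGroup.1 ha with rfl | rfl | rfl | rfl
  · simp
  · exact hy
  · exact hz
  · rw [mul_assoc, ← mul_assoc z, ← hyz, mul_assoc, hz, mul_one, hy]

/-- `PRankLE 2 1` says that two commuting involutions are equal. -/
theorem eq_of_pRankLE_one [Finite G] (h : Cfsg.PRankLE 2 1 G) {y z : G} (hy : y * y = 1)
    (hy1 : y ≠ 1) (hz : z * z = 1) (hz1 : z ≠ 1) (hyz : y * z = z * y) : y = z := by
  classical
  by_contra hne
  have hsq : ∀ a ∈ pairGroup y z hy hz hyz, a * a = 1 := fun a ha => pairGroup_sq ha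
  have hcomm : IsMulCommutative (pairGroup y z hy hz hyz) := by
    refine ⟨⟨fun a b => Subtype.ext ?_⟩⟩
    have hab := hsq _ (mul_mem a.2 b.2)
    have ha := inv_eq_of_mul_eq_one_right (hsq _ a.2)
    have hb := inv_eq_of_mul_eq_one_right (hsq _ b.2)
    have h1 := inv_eq_of_mul_eq_one_right hab
    rw [mul_inv_rev, ha, hb] at h1
    exact h1.symm
  have hle := h _ hcomm (fun a ha => by rw [sq]; exact hsq a ha)
  have hs : Nat.card ({1, y, z} : Set G) ≤ Nat.card (pairGroup y z hy hz hyz) :=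
    Nat.card_mono (Set.toFinite _) (fun a ha => by
      simp only [Set.mem_insert_iff, Set.mem_singleton_iff] at ha
      rcases ha with rfl | rfl | rfl
      · exact one_mem _
      · exact mem_pairGroup.2 (Or.inr (Or.inl rfl))
      · exact mem_pairGroup.2 (Or.inr (Or.inr (Or.inl rfl))))
  have h3 : Nat.card ({1, y, z} : Set G) = 3 := by
    rw [Nat.card_coe_set_eq, Set.ncard_eq_three]
    exact ⟨1, y, z, Ne.symm hy1, Ne.symm hz1, hne, rfl⟩
  omega

/-- A 2-subgroup `S` of `B` of largest order absorbs each 2-subgroup of `B` up to conjugacy. -/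
theorem conj_into [Finite G] {S B Q : Subgroup G} (hSB : S ≤ B) (hS : IsPGroup 2 S)
    (hmax : ∀ R : Subgroup G, R ≤ B → IsPGroup 2 R → Nat.card R ≤ Nat.card S) (hQB : Q ≤ B)
    (hQ : IsPGroup 2 Q) : ∃ k ∈ B, ∀ q ∈ Q, k * q * k⁻¹ ∈ S := by
  haveI : Fact (Nat.Prime 2) := ⟨Nat.prime_two⟩
  obtain ⟨P, hP⟩ := (hS.of_equiv (Subgroup.subgroupOfEquivOfLe hSB).symm).exists_le_sylow
  obtain ⟨R, hR⟩ := (hQ.of_equiv (Subgroup.subgroupOfEquivOfLe hQB).symm).exists_le_sylow
  have hPS : (P : Subgroup B) = S.subgroupOf B := by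
    refine (Subgroup.eq_of_le_of_card_ge hP ?_).symm
    have h1 := hmax ((P : Subgroup B).map B.subtype) (Subgroup.map_subtype_le _)
      (P.isPGroup'.map B.subtype)
    rwa [Subgroup.card_map_of_injective B.subtype_injective,
      ← Nat.card_congr (Subgroup.subgroupOfEquivOfLe hSB).toEquiv] at h1
  obtain ⟨k, hk⟩ := MulAction.exists_smul_eq B R P
  refine ⟨k, k.2, fun q hq => ?_⟩
  have hqR : (⟨q, hQB hq⟩ : B) ∈ (R : Subgroup B) := hR hq
  have : (MulAut.conj k) • (⟨q, hQB hq⟩ : B) ∈ MulAut.conj k • (R : Subgroup B) :=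
    Subgroup.smul_mem_pointwise_smul _ _ _ hqR
  rw [← Sylow.pointwise_smul_def, ← Sylow.smul_def, hk, hPS] at this
  exact this

/-- A subgroup `C > M` of a `p`-group `T`, both invariant, has an element outside `M` whose square
and commutators with `T` lie in `M`. -/
theorem exists_central_mod [Finite G] {T M C : Subgroup G} (hT : IsPGroup 2 T) (hMC : M ≤ C)
    (hCT : C ≤ T) (hne : M ≠ C) (hMn : T ≤ normalizer (M : Set G))
    (hCn : T ≤ normalizer (C : Set G)) :
    ∃ x ∈ C, x ∉ M ∧ x * x ∈ M ∧ ∀ t ∈ T, t * x * t⁻¹ * x⁻¹ ∈ M := by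
  haveI : Fact (Nat.Prime 2) := ⟨Nat.prime_two⟩
  haveI : (M.subgroupOf T).Normal := Subgroup.normal_subgroupOf_iff_le_normalizer
    (hMC.trans hCT) |>.2 hMn
  haveI : (C.subgroupOf T).Normal := Subgroup.normal_subgroupOf_iff_le_normalizer hCT |>.2 hCn
  let π := QuotientGroup.mk' (M.subgroupOf T)
  haveI : ((C.subgroupOf T).map π).Normal :=
    Subgroup.Normal.map inferInstance _ (QuotientGroup.mk'_surjective _)
  have hbot : (C.subgroupOf T).map π ≠ ⊥ := by
    rw [Ne, Subgroup.map_eq_bot_iff, QuotientGroup.ker_mk']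
    intro h
    refine hne (le_antisymm hMC fun c hc => ?_)
    have h1 : (⟨c, hCT hc⟩ : T) ∈ M.subgroupOf T := h (Subgroup.mem_subgroupOf.2 hc)
    exact h1
  have hq := hT.to_quotient (M.subgroupOf T)
  have hI := Cfsg.Agent.PGroup.inf_center_ne_bot hq hbot
  obtain ⟨a, ha, ha1⟩ := (Subgroup.ne_bot_iff_exists_ne_one.1 hI)
    |> fun ⟨a, ha⟩ => (⟨a.1, a.2, fun h => ha (Subtype.ext h)⟩ :
      ∃ a, a ∈ (C.subgroupOf T).map π ⊓ center (T ⧸ M.subgroupOf T) ∧ a ≠ 1)
  obtain ⟨n, hn⟩ := (IsPGroup.iff_orderOf.1 hq) a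
  obtain ⟨m, rfl⟩ : ∃ m, n = m + 1 :=
    Nat.exists_eq_add_one.2 (Nat.pos_of_ne_zero fun h0 => ha1 (orderOf_eq_one_iff.1 (by simp [hn, h0])))
  have hb : a ^ 2 ^ m ∈ (C.subgroupOf T).map π ⊓ center (T ⧸ M.subgroupOf T) :=
    Subgroup.pow_mem _ ha _
  obtain ⟨⟨x, hxC, hxb⟩, hbc⟩ := hb
  refine ⟨x, hxC, ?_, ?_, fun t ht => ?_⟩
  · intro hxM
    have : π x = 1 := (QuotientGroup.eq_one_iff x).2 hxM
    rw [this] at hxb
    have := pow_ne_one_of_lt_orderOf (pow_ne_zero m two_ne_zero) (x := a)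
      (by rw [hn]; exact Nat.pow_lt_pow_right one_lt_two (Nat.lt_succ_self m))
    exact this hxb.symm
  · have : π (x * x) = 1 := by
      rw [map_mul, hxb, ← pow_add, ← two_mul, ← pow_succ', ← hn, pow_orderOf_eq_one]
    exact (QuotientGroup.eq_one_iff (x * x)).1 this
  · have : π ((⟨t, ht⟩ : T) * x * (⟨t, ht⟩ : T)⁻¹ * x⁻¹) = 1 := by
      rw [map_mul, map_mul, map_mul, map_inv, map_inv, hxb]
      rw [Subgroup.mem_center_iff.1 hbc, mul_inv_cancel_right, mul_inv_cancel]
    have h' := (QuotientGroup.eq_one_iff _).1 this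
    exact h'

/-- An element normalising the abelian 2-group `M` with a unique involution `z`, fixing the
element `w` of order 4 and with square centralising `M`, moves each element by `1` or `z`. -/
theorem moves_by_z [Finite G] {M : Subgroup G} (hM : IsPGroup 2 M) (hc : IsMulCommutative M)
    {z w x : G} (hz1 : z ≠ 1) (huniq : ∀ e ∈ M, e * e = 1 → e = 1 ∨ e = z) (hwM : w ∈ M)
    (hww : w * w = z) (hxM : ∀ g ∈ M, x * g * x⁻¹ ∈ M) (hxw : x * w * x⁻¹ = w)
    (hxx : ∀ g ∈ M, x * x * g = g * (x * x)) (g : G) (hg : g ∈ M) :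
    x * g * x⁻¹ = g ∨ x * g * x⁻¹ = g * z := by
  have hcm : ∀ a ∈ M, ∀ b ∈ M, a * b = b * a := fun a ha b hb =>
    congrArg Subtype.val (hc.is_comm.comm ⟨a, ha⟩ ⟨b, hb⟩)
  set y := x * g * x⁻¹ * g⁻¹ with hy
  have hyM : y ∈ M := mul_mem (hxM g hg) (inv_mem hg)
  have hinv : x * y * x⁻¹ = y⁻¹ := by
    have h1 : x * y * x⁻¹ = x * x * g * (x * x)⁻¹ * (x * g * x⁻¹)⁻¹ := by rw [hy]; group
    rw [h1, hxx g hg, mul_inv_cancel_right, hy]
    group
  have hy2 : y * y = 1 := by
    by_contra hne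
    obtain ⟨n, hn⟩ := (IsPGroup.iff_orderOf.1 hM) ⟨y, hyM⟩
    rw [Subgroup.orderOf_mk] at hn
    obtain ⟨m, rfl⟩ : ∃ m, n = m + 2 := by
      refine ⟨n - 2, ?_⟩
      by_contra h
      apply hne
      rw [← sq]
      exact orderOf_dvd_iff_pow_eq_one.1 (hn ▸ (Nat.pow_dvd_pow 2 (show n ≤ 1 by omega)).trans (by simp))
    set e := y ^ 2 ^ m with he
    have heM : e ∈ M := pow_mem hyM _
    have he2 : e * e ≠ 1 := by
      rw [he, ← pow_add, ← two_mul, ← pow_succ']
      exact pow_ne_one_of_lt_orderOf (pow_ne_zero _ two_ne_zero)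
        (by rw [hn]; exact Nat.pow_lt_pow_right one_lt_two (Nat.lt_succ_self _))
    have he4 : (e * e) * (e * e) = 1 := by
      rw [he, ← pow_add, ← pow_add, show 2 ^ m + 2 ^ m + (2 ^ m + 2 ^ m) = 2 ^ (m + 2) by ring,
        ← hn, pow_orderOf_eq_one]
    have hez := (huniq _ (mul_mem heM heM) he4).resolve_left he2
    have hew : e = w ∨ e = w * z := by
      have h1 : (w⁻¹ * e) * (w⁻¹ * e) = 1 := by
        rw [mul_assoc, ← mul_assoc e, hcm e heM _ (inv_mem hwM), mul_assoc w⁻¹ e e, hez, ← hww]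
        group
      rcases huniq _ (mul_mem (inv_mem hwM) heM) h1 with h | h
      · exact Or.inl (inv_mul_eq_one.1 h).symm
      · exact Or.inr (inv_mul_eq_iff_eq_mul.1 h)
    have hfix : x * e * x⁻¹ = e := by
      rcases hew with h | h
      · rw [h]; exact hxw
      · rw [h, ← hww]
        calc x * (w * (w * w)) * x⁻¹
            = (x * w * x⁻¹) * ((x * w * x⁻¹) * (x * w * x⁻¹)) := by group
          _ = w * (w * w) := by rw [hxw]
    have hflip : x * e * x⁻¹ = e⁻¹ := by rw [he, ← conj_pow, hinv, inv_pow]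
    rw [hfix] at hflip
    exact he2 (mul_eq_one_iff_eq_inv.2 hflip)
  rcases huniq y hyM hy2 with h | h
  · exact Or.inl (mul_inv_eq_one.1 h)
  · right
    have hzM : z ∈ M := h ▸ hyM
    rw [hy, mul_inv_eq_iff_eq_mul] at h
    rw [h, hcm g hg z hzM]

theorem pRankLE_one_of_four_action [Finite G] (A U : Subgroup G) (hperf : Group.IsPerfect ↥A)
    (hU : IsKleinFour U) (hUA : U ≤ normalizer (A : Set G))
    (hK : ∀ u ∈ U, u ≠ 1 → ∀ y ∈ A, ∀ z ∈ A, y * y = 1 → y ≠ 1 → z * z = 1 → z ≠ 1 →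
      y * z = z * y → u * y = y * u → u * z = z * u → y = z) :
    Cfsg.PRankLE 2 1 A := by
  classical
  haveI : Fact (Nat.Prime 2) := ⟨Nat.prime_two⟩
  haveI := hU
  -- the Sylow subgroup
  have hU2 : IsPGroup 2 U := IsPGroup.of_card (n := 2) (by rw [IsKleinFour.card_four]; norm_num)
  have hUsq : ∀ u ∈ U, u * u = 1 := fun u hu => by
    have h := Monoid.pow_exponent_eq_one (⟨u, hu⟩ : U)
    rw [IsKleinFour.exponent_two, sq] at h
    exact congrArg Subtype.val h
  have hUinv : ∀ u ∈ U, u⁻¹ = u := fun u hu => inv_eq_of_mul_eq_one_right (hUsq u hu)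
  obtain ⟨T, hT⟩ := (hU2.of_equiv
    (Subgroup.subgroupOfEquivOfLe (le_sup_right : U ≤ A ⊔ U)).symm).exists_le_sylow
  let S : Subgroup G := (T : Subgroup ↥(A ⊔ U)).map (A ⊔ U).subtype ⊓ A
  have hSA : S ≤ A := inf_le_right
  have hS2 : IsPGroup 2 S := (T.isPGroup'.map _).to_le inf_le_left
  have hUT : ∀ u ∈ U, u ∈ (T : Subgroup ↥(A ⊔ U)).map (A ⊔ U).subtype := fun u hu =>
    ⟨⟨u, Subgroup.mem_sup_right hu⟩, hT hu, rfl⟩
  have hUS : ∀ u ∈ U, ∀ s ∈ S, u * s * u⁻¹ ∈ S := fun u hu s hs => Subgroup.mem_inf.2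
    ⟨mul_mem (mul_mem (hUT u hu) hs.1) (inv_mem (hUT u hu)),
      (Subgroup.mem_normalizer_iff.1 (hUA hu) s).1 hs.2⟩
  have hAn : A ⊔ U ≤ normalizer (A : Set G) := sup_le Subgroup.le_normalizer hUA
  have hconj : ∀ Q : Subgroup G, Q ≤ A → IsPGroup 2 Q → ∃ a ∈ A, ∀ q ∈ Q, a * q * a⁻¹ ∈ S := by
    intro Q hQA hQ
    have hTmax : ∀ R : Subgroup G, R ≤ A ⊔ U → IsPGroup 2 R →
        Nat.card R ≤ Nat.card ((T : Subgroup ↥(A ⊔ U)).map (A ⊔ U).subtype) := by
      intro R hR hR2
      obtain ⟨P, hP⟩ := (hR2.of_equiv (Subgroup.subgroupOfEquivOfLe hR).symm).exists_le_sylow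
      rw [Subgroup.card_map_of_injective (A ⊔ U).subtype_injective, T.card_eq_multiplicity,
        ← P.card_eq_multiplicity,
        ← Nat.card_congr (Subgroup.subgroupOfEquivOfLe hR).toEquiv]
      exact Subgroup.card_le_of_le hP
    obtain ⟨x, hx, hxq⟩ := conj_into (Subgroup.map_subtype_le _) (T.isPGroup'.map _) hTmax
      (hQA.trans le_sup_left) hQ
    have hx' : x ∈ (U : Set G) * (A : Set G) := by
      rw [← Subgroup.coe_mul_of_left_le_normalizer_right U A hUA, sup_comm]
      exact hx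
    obtain ⟨u, hu, a, ha, rfl⟩ := hx'
    refine ⟨a, ha, fun q hq => Subgroup.mem_inf.2 ⟨?_, mul_mem (mul_mem ha (hQA hq)) (inv_mem ha)⟩⟩
    have := mul_mem (mul_mem (inv_mem (hUT u hu)) (hxq q hq)) (hUT u hu)
    have heq : u⁻¹ * (u * a * q * (u * a)⁻¹) * u = a * q * a⁻¹ := by group
    rwa [heq] at this
  have hScard : ∀ R : Subgroup G, R ≤ A → IsPGroup 2 R → Nat.card R ≤ Nat.card S := by
    intro R hR hR2
    obtain ⟨a, -, hq⟩ := hconj R hR hR2
    refine Nat.card_le_card_of_injective (fun r : R => (⟨a * r * a⁻¹, hq r r.2⟩ : S)) ?_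
    intro r r' h
    simpa using congrArg Subtype.val h
  -- reduce to a contradiction from two commuting involutions
  by_contra hcon
  have hS1 : S ≠ ⊥ := by
    intro hS
    refine hcon fun F _ hF2 => ?_
    have hF : IsPGroup 2 (F.map A.subtype) := by
      rintro ⟨_, f, hf, rfl⟩
      exact ⟨1, Subtype.ext (by simpa using congrArg Subtype.val (hF2 f hf))⟩
    have := hScard _ (Subgroup.map_subtype_le F) hF
    rw [Subgroup.card_map_of_injective A.subtype_injective, hS, Subgroup.card_bot] at this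
    omega
  set TT := S ⊔ U with hTT
  have hUN : U ≤ normalizer (S : Set G) := fun u hu =>
    Subgroup.mem_normalizer_iff.2 fun s => ⟨hUS u hu s, fun h => by
      have := hUS _ (inv_mem hu) _ h
      simpa [mul_assoc] using this⟩
  have hT2 : IsPGroup 2 TT := IsPGroup.to_sup_of_normal_left' hS2 hU2 hUN
  have hSn : TT ≤ normalizer (S : Set G) := sup_le Subgroup.le_normalizer hUN
  -- the central involution
  obtain ⟨x₀, hx₀S, hx₀1, hx₀2, hx₀c⟩ := exists_central_mod (M := ⊥) hT2 bot_le le_sup_left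
    (Ne.symm hS1) (by rw [normalizer_eq_top_iff.2 inferInstance]; exact le_top) hSn
  simp only [Subgroup.mem_bot] at hx₀1 hx₀2 hx₀c
  set z := x₀ with hz_def
  have hzA : z ∈ A := hSA hx₀S
  have hzT : ∀ t ∈ TT, t * z = z * t := fun t ht => mul_inv_eq_one.1 (hx₀c t ht) |> fun h =>
    (mul_inv_eq_iff_eq_mul.1 h)
  have hzS : ∀ s ∈ S, s * z = z * s := fun s hs => hzT s (Subgroup.mem_sup_left hs)
  have hzU : ∀ u ∈ U, u * z = z * u := fun u hu => hzT u (Subgroup.mem_sup_right hu)
  have hzi : z⁻¹ = z := inv_eq_of_mul_eq_one_right hx₀2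
  -- two elements of the four-group whose product is again nontrivial
  obtain ⟨u₁, hu₁U, u₂, hu₂U, h₁, h₂, h₁₂⟩ : ∃ u₁ ∈ U, ∃ u₂ ∈ U,
      u₁ ≠ 1 ∧ u₂ ≠ 1 ∧ u₁ * u₂ ≠ 1 := by
    haveI : Nontrivial U := Finite.one_lt_card_iff_nontrivial.1 (by simp)
    obtain ⟨a, ha⟩ := exists_ne (1 : U)
    have : ∃ b : U, b ≠ 1 ∧ b ≠ a := by
      by_contra hh
      push Not at hh
      have h4 : Nat.card U ≤ Nat.card ({1, a} : Set U) :=
        Nat.card_le_card_of_injective (fun b => ⟨b, by
          by_cases hb : b = 1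
          · exact Or.inl hb
          · exact Or.inr (hh b hb)⟩) (fun b c h => congrArg Subtype.val h)
      rw [IsKleinFour.card_four, Nat.card_coe_set_eq] at h4
      have := Set.ncard_insert_le (1 : U) {a}
      rw [Set.ncard_singleton] at this
      omega
    obtain ⟨b, hb, hba⟩ := this
    refine ⟨a, a.2, b, b.2, fun h => ha (Subtype.ext h), fun h => hb (Subtype.ext h), fun h => ?_⟩
    apply hba
    rw [mul_eq_one_iff_inv_eq, hUinv _ a.2] at h
    exact Subtype.ext h.symm
  -- no involution is moved by all of `U` inside its `z`-coset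
  have hL : ∀ v ∈ A, v * v = 1 → v ≠ 1 → v * z = z * v →
      (∀ u ∈ U, u * v * u⁻¹ = v ∨ u * v * u⁻¹ = v * z) → v = z := by
    intro v hvA hv2 hv1 hvz hall
    have key : ∀ u ∈ U, u ≠ 1 → u * v * u⁻¹ = v → v = z := fun u hu hu1 h =>
      hK u hu hu1 v hvA z hzA hv2 hv1 hx₀2 hx₀1 hvz (mul_inv_eq_iff_eq_mul.1 h) (hzU u hu)
    rcases hall u₁ hu₁U with a₁ | a₁
    · exact key u₁ hu₁U h₁ a₁
    rcases hall u₂ hu₂U with a₂ | a₂
    · exact key u₂ hu₂U h₂ a₂
    refine key _ (mul_mem hu₁U hu₂U) h₁₂ ?_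
    calc u₁ * u₂ * v * (u₁ * u₂)⁻¹ = u₁ * (u₂ * v * u₂⁻¹) * u₁⁻¹ := by group
      _ = (u₁ * v * u₁⁻¹) * (u₁ * z * u₁⁻¹) := by rw [a₂]; group
      _ = v := by rw [a₁, mul_inv_eq_iff_eq_mul.2 (hzU u₁ hu₁U), mul_assoc, hx₀2, mul_one]
  -- the maximal invariant abelian subgroup
  obtain ⟨M, ⟨hzM, hMS, hMc, hMn⟩, hMmax⟩ := Set.Finite.exists_maximalFor id
    {M : Subgroup G | z ∈ M ∧ M ≤ S ∧ IsMulCommutative M ∧ TT ≤ normalizer (M : Set G)}
    (Set.toFinite _) (by
      refine ⟨Subgroup.zpowers z, Subgroup.mem_zpowers z, Subgroup.zpowers_le.2 hx₀S,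
        inferInstance, fun t ht => Subgroup.centralizer_le_normalizer _ ?_⟩
      rw [Subgroup.mem_centralizer_iff]
      rintro _ ⟨k, rfl⟩
      exact ((Commute.zpow_right (hzT t ht) k).eq).symm)
  have hcm : ∀ a ∈ M, ∀ b ∈ M, a * b = b * a := fun a ha b hb =>
    congrArg Subtype.val (hMc.is_comm.comm ⟨a, ha⟩ ⟨b, hb⟩)
  have hTM : ∀ t ∈ TT, ∀ g ∈ M, t * g * t⁻¹ ∈ M := fun t ht g hg =>
    (Subgroup.mem_normalizer_iff.1 (hMn ht) g).1 hg
  have hM2 : IsPGroup 2 M := hS2.to_le hMS
  -- `M` has a unique involution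
  have huniq : ∀ e ∈ M, e * e = 1 → e = 1 ∨ e = z := by
    intro e heM he
    by_contra hne
    push Not at hne
    apply hne.2
    refine hL e (hSA (hMS heM)) he hne.1 (hcm e heM z hzM) fun u hu => ?_
    by_cases hu1 : u = 1
    · simp [hu1]
    set f := u * e * u⁻¹ with hf
    have hfM : f ∈ M := hTM u (Subgroup.mem_sup_right hu) e heM
    have hy2 : (e * f) * (e * f) = 1 := by
      rw [mul_assoc, ← mul_assoc f, hcm f hfM e heM, mul_assoc e f f, ← mul_assoc, he, one_mul]
      calc f * f = u * (e * e) * u⁻¹ := by rw [hf]; group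
        _ = 1 := by rw [he]; group
    by_cases hef : e * f = 1
    · left
      rw [← mul_eq_one_iff_inv_eq.1 hef]
      exact inv_eq_of_mul_eq_one_right he
    have huy : u * (e * f) = (e * f) * u := by
      have h1 : u * (e * f) * u⁻¹ = f * (u * f * u⁻¹) := by rw [hf]; group
      have h2 : u * f * u⁻¹ = e := by
        rw [hf, hUinv u hu]
        calc u * (u * e * u) * u = (u * u) * e * (u * u) := by group
          _ = e := by rw [hUsq u hu]; group
      rw [h2, hcm f hfM e heM] at h1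
      exact mul_inv_eq_iff_eq_mul.1 h1
    have := hK u hu hu1 (e * f) (hSA (hMS (mul_mem heM hfM))) z hzA hy2 hef hx₀2 hx₀1
      (hcm _ (mul_mem heM hfM) z hzM) huy (hzU u hu)
    right
    rw [← this, ← mul_assoc, he, one_mul]
  -- `M` is self-centralising in `S`
  have hself : ∀ x ∈ S, (∀ g ∈ M, x * g = g * x) → x ∈ M := by
    by_contra hh
    push Not at hh
    obtain ⟨x, hxS, hxc, hxM⟩ := hh
    let C : Subgroup G := S ⊓ centralizer (M : Set G)
    have hMC : M ≤ C := le_inf hMS fun a ha b hb => hcm b hb a ha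
    have hne : M ≠ C := fun h => hxM (h ▸ ⟨hxS, fun g hg => (hxc g hg).symm⟩)
    have hCn : TT ≤ normalizer (C : Set G) := by
      intro t ht
      have hcl : ∀ t ∈ TT, ∀ c ∈ C, t * c * t⁻¹ ∈ C := by
        rintro t ht c ⟨hcS, hcc⟩
        refine ⟨(Subgroup.mem_normalizer_iff.1 (hSn ht) c).1 hcS, fun g hg => ?_⟩
        have h1 := hcc _ (hTM _ (inv_mem ht) g hg)
        calc g * (t * c * t⁻¹) = t * ((t⁻¹ * g * t⁻¹⁻¹) * c) * t⁻¹ := by group
          _ = t * (c * (t⁻¹ * g * t⁻¹⁻¹)) * t⁻¹ := by rw [h1]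
          _ = t * c * t⁻¹ * g := by group
      refine Subgroup.mem_normalizer_iff.2 fun c => ⟨hcl t ht c, fun h => ?_⟩
      have := hcl _ (inv_mem ht) _ h
      simpa [mul_assoc] using this
    obtain ⟨y, hyC, hyM, -, hyc⟩ := exists_central_mod hT2 hMC
      (inf_le_left.trans le_sup_left) hne hMn hCn
    have hle : M ⊔ zpowers y ≤ M := by
      refine hMmax ⟨Subgroup.mem_sup_left hzM, sup_le hMS (zpowers_le.2 hyC.1), ?_, ?_⟩ le_sup_left
      · rw [← le_centralizer_iff_isMulCommutative]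
        refine sup_le ?_ (zpowers_le.2 ?_)
        · rw [le_centralizer_iff]
          refine sup_le (fun a ha b hb => hcm b hb a ha) (zpowers_le.2 fun g hg => hyC.2 g hg)
        · rw [← zpowers_le, le_centralizer_iff]
          refine sup_le (fun a ha b hb => ?_) ?_
          · obtain ⟨k, rfl⟩ := hb
            exact (Commute.zpow_left (hyC.2 a ha).symm k).eq
          · exact le_centralizer_iff_isMulCommutative.2 inferInstance
      · intro t ht
        have hcl : ∀ t ∈ TT, ∀ c ∈ M ⊔ zpowers y, t * c * t⁻¹ ∈ M ⊔ zpowers y := by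
          intro t ht c hc
          have : (M ⊔ zpowers y).map (MulAut.conj t).toMonoidHom ≤ M ⊔ zpowers y := by
            rw [Subgroup.map_sup, MonoidHom.map_zpowers]
            refine sup_le ?_ (zpowers_le.2 ?_)
            · rintro _ ⟨g, hg, rfl⟩
              exact Subgroup.mem_sup_left (hTM t ht g hg)
            · have := mul_mem (Subgroup.mem_sup_left (T := zpowers y) (hyc t ht))
                (Subgroup.mem_sup_right (S := M) (mem_zpowers y))
              simpa using this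
          exact this ⟨c, hc, rfl⟩
        refine Subgroup.mem_normalizer_iff.2 fun c => ⟨hcl t ht c, fun h => ?_⟩
        have := hcl _ (inv_mem ht) _ h
        simpa [mul_assoc] using this
    exact hyM (hle (Subgroup.mem_sup_right (mem_zpowers y)))
  -- a second involution in `S`
  obtain ⟨s, hsS, hs2, hs1, hsz⟩ : ∃ s ∈ S, s * s = 1 ∧ s ≠ 1 ∧ s ≠ z := by
    by_contra hh
    push Not at hh
    refine hcon fun F hFc hF2 => ?_
    have hF : IsPGroup 2 (F.map A.subtype) := by
      rintro ⟨_, f, hf, rfl⟩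
      exact ⟨1, Subtype.ext (by simpa using congrArg Subtype.val (hF2 f hf))⟩
    obtain ⟨a, -, hq⟩ := hconj _ (Subgroup.map_subtype_le F) hF
    have hmem : ∀ f : F, a * ((f : A) : G) * a⁻¹ ∈ ({1, z} : Set G) := fun f => by
      have h2 : ((f : A) : G) * ((f : A) : G) = 1 := by
        simpa [sq] using congrArg Subtype.val (hF2 f f.2)
      have hsq : (a * ((f : A) : G) * a⁻¹) * (a * ((f : A) : G) * a⁻¹) = 1 := by
        calc _ = a * (((f : A) : G) * ((f : A) : G)) * a⁻¹ := by group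
          _ = 1 := by rw [h2]; group
      by_cases h1 : a * ((f : A) : G) * a⁻¹ = 1
      · exact Or.inl h1
      · exact Or.inr (hh _ (hq _ ⟨f, f.2, rfl⟩) hsq h1)
    have hle : Nat.card F ≤ Nat.card ({1, z} : Set G) :=
      Nat.card_le_card_of_injective (fun f => ⟨_, hmem f⟩) (fun f f' h => by
        simpa using congrArg Subtype.val h)
    have := Set.ncard_insert_le (1 : G) {z}
    rw [Set.ncard_singleton] at this
    rw [Nat.card_coe_set_eq] at hle
    omega
  -- an element of order four in `M`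
  obtain ⟨w, hwM, hww⟩ : ∃ w ∈ M, w * w = z := by
    obtain ⟨g, hg, hg2⟩ : ∃ g ∈ M, g * g ≠ 1 := by
      by_contra hh
      push Not at hh
      have hall : ∀ x ∈ S, x ∈ M := fun x hx => hself x hx fun g hg => by
        rcases huniq g hg (hh g hg) with rfl | rfl
        · simp
        · exact hzS x hx
      exact (huniq s (hall s hsS) hs2).elim hs1 hsz
    obtain ⟨n, hn⟩ := (IsPGroup.iff_orderOf.1 hM2) ⟨g, hg⟩
    rw [Subgroup.orderOf_mk] at hn
    obtain ⟨m, rfl⟩ : ∃ m, n = m + 2 := by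
      refine ⟨n - 2, ?_⟩
      by_contra h
      apply hg2
      rw [← sq]
      exact orderOf_dvd_iff_pow_eq_one.1 (hn ▸ (Nat.pow_dvd_pow 2 (show n ≤ 1 by omega)).trans (by simp))
    refine ⟨g ^ 2 ^ m, pow_mem hg _, (huniq _ (mul_mem (pow_mem hg _) (pow_mem hg _)) ?_).resolve_left ?_⟩
    · rw [← pow_add, ← pow_add, show 2 ^ m + 2 ^ m + (2 ^ m + 2 ^ m) = 2 ^ (m + 2) by ring,
        ← hn, pow_orderOf_eq_one]
    · rw [← pow_add, ← two_mul, ← pow_succ']
      exact pow_ne_one_of_lt_orderOf (pow_ne_zero _ two_ne_zero)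
        (by rw [hn]; exact Nat.pow_lt_pow_right one_lt_two (Nat.lt_succ_self _))
  have hwS : w ∈ S := hMS hwM
  have hwi : w⁻¹ = w * z := by
    rw [inv_eq_iff_mul_eq_one, ← mul_assoc, hww, hx₀2]
  have hwne : w ≠ w * z := by simpa using hx₀1
  have himg : ∀ t ∈ TT, t * w * t⁻¹ = w ∨ t * w * t⁻¹ = w * z := by
    intro t ht
    set f := t * w * t⁻¹ with hf
    have hfM : f ∈ M := hTM t ht w hwM
    have hff : f * f = z := by
      calc f * f = t * (w * w) * t⁻¹ := by rw [hf]; group
        _ = z := by rw [hww, hzT t ht, mul_inv_cancel_right]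
    have h1 : (w⁻¹ * f) * (w⁻¹ * f) = 1 := by
      rw [mul_assoc, ← mul_assoc f, hcm f hfM _ (inv_mem hwM), mul_assoc w⁻¹ f f, hff, ← hww]
      group
    rcases huniq _ (mul_mem (inv_mem hwM) hfM) h1 with h | h
    · exact Or.inl (inv_mul_eq_one.1 h).symm
    · exact Or.inr (inv_mul_eq_iff_eq_mul.1 h)
  -- `C_S(w) = M`
  have hCw : ∀ x ∈ S, x * w * x⁻¹ = w → x ∈ M := by
    by_contra hh
    push Not at hh
    obtain ⟨x₁, hx₁S, hx₁w, hx₁M⟩ := hh
    let X : Subgroup G := S ⊓ centralizer {w}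
    have hMX : M ≤ X := le_inf hMS fun a ha b hb => by
      rw [Set.mem_singleton_iff] at hb; subst hb; exact hcm b hwM a ha
    have hne : M ≠ X := fun h => hx₁M (h ▸ ⟨hx₁S, fun b hb => by
      rw [Set.mem_singleton_iff] at hb; subst hb; exact (mul_inv_eq_iff_eq_mul.1 hx₁w).symm⟩)
    have hXn : TT ≤ normalizer (X : Set G) := by
      have hcl : ∀ t ∈ TT, ∀ c ∈ X, t * c * t⁻¹ ∈ X := by
        rintro t ht c ⟨hcS, hcw⟩
        refine ⟨(Subgroup.mem_normalizer_iff.1 (hSn ht) c).1 hcS, fun b hb => ?_⟩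
        rw [Set.mem_singleton_iff] at hb
        rw [hb]
        have hcw' : Commute c w := (hcw w rfl).symm
        have hcv : Commute c (t⁻¹ * w * t⁻¹⁻¹) := by
          rcases himg _ (inv_mem ht) with h | h
          · rw [h]; exact hcw'
          · rw [h, ← hwi]; exact hcw'.inv_right
        calc w * (t * c * t⁻¹) = t * ((t⁻¹ * w * t⁻¹⁻¹) * c) * t⁻¹ := by group
          _ = t * (c * (t⁻¹ * w * t⁻¹⁻¹)) * t⁻¹ := by rw [hcv.eq]
          _ = t * c * t⁻¹ * w := by group
      intro t ht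
      refine Subgroup.mem_normalizer_iff.2 fun c => ⟨hcl t ht c, fun h => ?_⟩
      have := hcl _ (inv_mem ht) _ h
      simpa [mul_assoc] using this
    obtain ⟨x, ⟨hxS, hxw'⟩, hxM, hxx, hxt⟩ := exists_central_mod hT2 hMX
      (inf_le_left.trans le_sup_left) hne hMn hXn
    have hxw : x * w * x⁻¹ = w := by rw [← hxw' w rfl, mul_inv_cancel_right]
    have hxTT : x ∈ TT := Subgroup.mem_sup_left hxS
    have hmv := moves_by_z hM2 hMc hx₀1 huniq hwM hww (hTM x hxTT) hxw
      (fun g hg => hcm _ hxx g hg)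
    -- squares are fixed, and `x * x` is a square
    have hfixsq : ∀ g ∈ M, x * (g * g) * x⁻¹ = g * g := fun g hg => by
      have e : x * (g * g) * x⁻¹ = (x * g * x⁻¹) * (x * g * x⁻¹) := by group
      rcases hmv g hg with h | h <;> rw [e, h]
      rw [mul_assoc, ← mul_assoc z, hcm z hzM g hg, mul_assoc g z z, hx₀2, mul_one]
    obtain ⟨g₀, hg₀, hq⟩ : ∃ g₀ ∈ M, g₀ * g₀ = (x * x)⁻¹ := by
      letI : CommGroup M := { (inferInstance : Group M) with mul_comm := hMc.is_comm.comm }
      let sqh : M →* M := powMonoidHom 2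
      have hker : Nat.card sqh.ker ≤ 2 := by
        have hmem : ∀ k : sqh.ker, ((k : M) : G) ∈ ({1, z} : Set G) := fun k => by
          have h := congrArg Subtype.val (MonoidHom.mem_ker.1 k.2)
          rcases huniq _ (k : M).2 (by simpa [sqh, powMonoidHom_apply, sq] using h) with h | h
          · exact Or.inl h
          · exact Or.inr h
        have hle : Nat.card sqh.ker ≤ Nat.card ({1, z} : Set G) :=
          Nat.card_le_card_of_injective (fun k => ⟨_, hmem k⟩) (fun a b h => by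
            simpa using congrArg Subtype.val h)
        have := Set.ncard_insert_le (1 : G) {z}
        rw [Set.ncard_singleton] at this
        rw [Nat.card_coe_set_eq] at hle
        omega
      by_contra hh
      push Not at hh
      have hnr : (⟨x * x, hxx⟩ : M) ∉ sqh.range := by
        rintro ⟨g, hg⟩
        apply hh (g : G)⁻¹ (inv_mem g.2)
        have h' : (g : G) * g = x * x := by simpa [sqh, sq] using congrArg Subtype.val hg
        rw [← h', mul_inv_rev]
      have hidx : sqh.range.index = 2 := by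
        have e1 := sqh.range.card_mul_index
        have e2 := sqh.ker.card_mul_index
        rw [Subgroup.index_ker] at e2
        have hpos : 0 < Nat.card sqh.range := Nat.card_pos
        have hne1 : sqh.range.index ≠ 1 := by
          intro h
          rw [Subgroup.index_eq_one] at h
          exact hnr (h ▸ Subgroup.mem_top _)
        have hne0 : sqh.range.index ≠ 0 := Subgroup.index_ne_zero_of_finite
        have : sqh.range.index ≤ 2 := by
          have hk : sqh.range.index = Nat.card sqh.ker := by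
            apply Nat.eq_of_mul_eq_mul_left hpos
            rw [e1, ← e2, mul_comm]
          omega
        omega
      apply hxM
      refine hself x hxS fun g hg => mul_inv_eq_iff_eq_mul.1 ?_
      by_cases hgr : (⟨g, hg⟩ : M) ∈ sqh.range
      · obtain ⟨g', hg'⟩ := hgr
        have h' : (g' : G) * g' = g := by simpa [sqh, sq] using congrArg Subtype.val hg'
        rw [← h']
        exact hfixsq _ g'.2
      · have hmem : (⟨g, hg⟩ : M) * ⟨x * x, hxx⟩ ∈ sqh.range :=
          (Subgroup.mul_mem_iff_of_index_two hidx).2 (iff_of_false hgr hnr)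
        obtain ⟨g', hg'⟩ := hmem
        have h' : (g' : G) * g' = g * (x * x) := by simpa [sqh, sq] using congrArg Subtype.val hg'
        have := hfixsq _ g'.2
        rw [h'] at this
        calc x * g * x⁻¹ = x * (g * (x * x)) * x⁻¹ * (x * x)⁻¹ := by group
          _ = g := by rw [this, mul_inv_cancel_right]
    -- an involution `v` in `x M`
    obtain ⟨g₁, hg₁, hφ⟩ : ∃ g₁ ∈ M, x⁻¹ * g₁ * x * g₁ = g₀ * g₀ := by
      rcases hmv g₀ hg₀ with h | h
      · refine ⟨g₀, hg₀, ?_⟩
        nth_rewrite 1 [← h]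
        group
      · refine ⟨g₀ * w, mul_mem hg₀ hwM, ?_⟩
        have hb : x⁻¹ * (g₀ * w) * x = g₀ * z * w := by
          have hxz : x * z * x⁻¹ = z := by rw [hzS x hxS, mul_inv_cancel_right]
          have : x * (g₀ * z * w) * x⁻¹ = g₀ * w := by
            calc x * (g₀ * z * w) * x⁻¹ = (x * g₀ * x⁻¹) * (x * z * x⁻¹) * (x * w * x⁻¹) := by group
              _ = g₀ * w := by rw [h, hxz, hxw, mul_assoc g₀ z z, hx₀2, mul_one]
          rw [← this]; group
        rw [hb, hcm g₀ hg₀ w hwM]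
        calc g₀ * z * w * (w * g₀) = g₀ * z * (w * w) * g₀ := by group
          _ = g₀ * g₀ := by rw [hww, mul_assoc g₀ z z, hx₀2, mul_one]
    set v := x * g₁ with hv
    have hvS : v ∈ S := mul_mem hxS (hMS hg₁)
    have hv2 : v * v = 1 := by
      calc v * v = (x * x) * (x⁻¹ * g₁ * x * g₁) := by rw [hv]; group
        _ = 1 := by rw [hφ, hq, mul_inv_cancel]
    have hvM : v ∉ M := fun h => hxM (by
      have := mul_mem h (inv_mem hg₁)
      rwa [hv, mul_inv_cancel_right] at this)
    have hvz : v = z := by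
      refine hL v (hSA hvS) hv2 (fun h => hvM (h ▸ one_mem M)) (hzS v hvS) fun u hu => ?_
      have hmem : v⁻¹ * (u * v * u⁻¹) ∈ M := by
        have hu' : u ∈ TT := Subgroup.mem_sup_right hu
        have hm := hxt u hu'
        have hg' := hTM u hu' g₁ hg₁
        have hxi := hTM _ (inv_mem hxTT) _ hm
        have e : v⁻¹ * (u * v * u⁻¹) =
            g₁⁻¹ * (x⁻¹ * (u * x * u⁻¹ * x⁻¹) * x⁻¹⁻¹) * (u * g₁ * u⁻¹) := by rw [hv]; group
        rw [e]
        exact mul_mem (mul_mem (inv_mem hg₁) hxi) hg'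
      set m := v⁻¹ * (u * v * u⁻¹) with hm
      have hvm : u * v * u⁻¹ = v * m := by rw [hm]; group
      have hvm2 : (v * m) * (v * m) = 1 := by
        rw [← hvm]
        calc _ = u * (v * v) * u⁻¹ := by group
          _ = 1 := by rw [hv2]; group
      have hvw : v * w * v⁻¹ = w := by
        calc v * w * v⁻¹ = x * (g₁ * w * g₁⁻¹) * x⁻¹ := by rw [hv]; group
          _ = w := by rw [hcm g₁ hg₁ w hwM, mul_inv_cancel_right, hxw]
      have hinv : v * m * v⁻¹ = m⁻¹ := by
        rw [inv_eq_of_mul_eq_one_right hv2]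
        exact eq_inv_of_mul_eq_one_left (by rw [← hvm2]; group)
      have hmz := moves_by_z hM2 hMc hx₀1 huniq hwM hww
        (hTM v (Subgroup.mem_sup_left hvS)) hvw (fun g _ => by rw [hv2]; simp) m hmem
      rw [hinv] at hmz
      rcases hmz with h | h
      · rw [hvm]
        rcases huniq m hmem (by rw [← eq_inv_iff_mul_eq_one]; exact h.symm) with h' | h'
        · left; rw [h', mul_one]
        · right; rw [h']
      · exfalso
        have hm2 : m * m = z := by
          have h' : m * m * z = 1 := by rw [mul_assoc, ← h, mul_inv_cancel]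
          rw [mul_eq_one_iff_eq_inv.1 h', hzi]
        have hmw : m = w ∨ m = w * z := by
          have h1 : (w⁻¹ * m) * (w⁻¹ * m) = 1 := by
            rw [mul_assoc, ← mul_assoc m, hcm m hmem _ (inv_mem hwM), mul_assoc w⁻¹ m m, hm2, ← hww]
            group
          rcases huniq _ (mul_mem (inv_mem hwM) hmem) h1 with h' | h'
          · exact Or.inl (inv_mul_eq_one.1 h').symm
          · exact Or.inr (inv_mul_eq_iff_eq_mul.1 h')
        have hfix : v * m * v⁻¹ = m := by
          rcases hmw with h' | h' <;> rw [h']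
          · exact hvw
          · rw [← hwi]
            conv_rhs => rw [← hvw]
            group
        rw [hfix, eq_inv_iff_mul_eq_one] at hinv
        rw [hinv] at hm2
        exact hx₀1 hm2.symm
    exact hvM (hvz ▸ hzM)
  -- every element outside `M` inverts `w`; every involution outside `M` behaves like `s`
  have hout : ∀ x ∈ S, x ∉ M → x * w * x⁻¹ = w * z := fun x hx hxM =>
    (himg x (Subgroup.mem_sup_left hx)).resolve_left fun h => hxM (hCw x hx h)
  have hsM : ∀ t ∈ S, t * t = 1 → t ≠ 1 → t ≠ z → t ∉ M := fun t _ h2 h1 hz h =>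
    (huniq t h h2).elim h1 hz
  have hwz : ∀ t ∈ S, t * t = 1 → t ≠ 1 → t ≠ z → w * t * w⁻¹ = t * z := by
    intro t ht h2 h1 hz
    have hti : t⁻¹ = t := inv_eq_of_mul_eq_one_right h2
    have h := hout t ht (hsM t ht h2 h1 hz)
    rw [hti] at h
    calc w * t * w⁻¹ = t * (t * w * t) * w⁻¹ := by rw [← mul_assoc t, ← mul_assoc t, h2, one_mul]
      _ = t * z := by rw [h, hcm w hwM z hzM, mul_assoc, mul_inv_cancel_right]
  -- `u` centralising `w`
  obtain ⟨u, huU, hu1, huw⟩ : ∃ u ∈ U, u ≠ 1 ∧ u * w * u⁻¹ = w := by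
    rcases himg u₁ (Subgroup.mem_sup_right hu₁U) with h | h
    · exact ⟨u₁, hu₁U, h₁, h⟩
    rcases himg u₂ (Subgroup.mem_sup_right hu₂U) with h' | h'
    · exact ⟨u₂, hu₂U, h₂, h'⟩
    refine ⟨_, mul_mem hu₁U hu₂U, h₁₂, ?_⟩
    calc u₁ * u₂ * w * (u₁ * u₂)⁻¹ = u₁ * (u₂ * w * u₂⁻¹) * u₁⁻¹ := by group
      _ = (u₁ * w * u₁⁻¹) * (u₁ * z * u₁⁻¹) := by rw [h']; group
      _ = w := by rw [h, mul_inv_eq_iff_eq_mul.2 (hzU u₁ hu₁U), mul_assoc, hx₀2, mul_one]
  have huT : u ∈ TT := Subgroup.mem_sup_right huU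
  have humv := moves_by_z hM2 hMc hx₀1 huniq hwM hww (hTM u huT) huw
    (fun g _ => by rw [hUsq u huU]; simp)
  have hus : u * s * u⁻¹ = s * z := by
    have hsM' := hsM s hsS hs2 hs1 hsz
    set g := s⁻¹ * (u * s * u⁻¹) with hg
    have hgs : u * s * u⁻¹ = s * g := by rw [hg]; group
    have hgS : g ∈ S := mul_mem (inv_mem hsS) (hUS u huU s hsS)
    have hgw : g * w * g⁻¹ = w := by
      have e1 : (u * s * u⁻¹) * w * (u * s * u⁻¹)⁻¹ = w * z := by
        calc _ = u * (s * (u⁻¹ * w * u) * s⁻¹) * u⁻¹ := by group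
          _ = u * (w * z) * u⁻¹ := by
            rw [show u⁻¹ * w * u = w by
              nth_rewrite 1 [← huw]; group, hout s hsS hsM']
          _ = w * z := by
            calc u * (w * z) * u⁻¹ = (u * w * u⁻¹) * (u * z * u⁻¹) := by group
              _ = w * z := by rw [huw, mul_inv_eq_iff_eq_mul.2 (hzU u huU)]
      calc g * w * g⁻¹ = s⁻¹ * ((u * s * u⁻¹) * w * (u * s * u⁻¹)⁻¹) * s := by rw [hg]; group
        _ = w := by rw [e1, ← hout s hsS hsM']; group
    have hgM : g ∈ M := hCw g hgS hgw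
    have h3 : g * (u * g * u⁻¹) = 1 := by
      have : u * (u * s * u⁻¹) * u⁻¹ = s := by
        rw [hUinv u huU]
        calc u * (u * s * u) * u = (u * u) * s * (u * u) := by group
          _ = s := by rw [hUsq u huU]; group
      rw [hgs] at this
      have e : u * (s * g) * u⁻¹ = (u * s * u⁻¹) * (u * g * u⁻¹) := by group
      rw [e, hgs, mul_assoc] at this
      exact mul_eq_left.1 this
    rcases humv g hgM with h | h
    · rw [h] at h3
      rcases huniq g hgM h3 with h' | h'
      · exfalso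
        rw [h', mul_one] at hgs
        exact hsz (hK u huU hu1 s (hSA hsS) z hzA hs2 hs1 hx₀2 hx₀1 (hzS s hsS)
          (mul_inv_eq_iff_eq_mul.1 hgs) (hzU u huU))
      · rw [hgs, h']
    · exfalso
      rw [h, ← mul_assoc] at h3
      have hgg : g * g = z := by rw [mul_eq_one_iff_eq_inv.1 h3, hzi]
      have h1 : (w⁻¹ * g) * (w⁻¹ * g) = 1 := by
        rw [mul_assoc, ← mul_assoc g, hcm g hgM _ (inv_mem hwM), mul_assoc w⁻¹ g g, hgg, ← hww]
        group
      have hgfix : u * g * u⁻¹ = g := by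
        rcases huniq _ (mul_mem (inv_mem hwM) hgM) h1 with h' | h'
        · rw [← inv_mul_eq_one.1 h']; exact huw
        · rw [inv_mul_eq_iff_eq_mul.1 h']
          calc u * (w * z) * u⁻¹ = (u * w * u⁻¹) * (u * z * u⁻¹) := by group
            _ = w * z := by rw [huw, mul_inv_eq_iff_eq_mul.2 (hzU u huU)]
      rw [hgfix] at h
      exact hx₀1 (mul_eq_left.1 h.symm)
  -- the element `c = u w` centralises `z, s` and squares to `z`
  set c := u * w with hc
  have huA : u ∈ normalizer (A : Set G) := hUA huU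
  have hcA : ∀ a ∈ A, c * a * c⁻¹ ∈ A := fun a ha => by
    have h1 : w * a * w⁻¹ ∈ A := mul_mem (mul_mem (hSA hwS) ha) (inv_mem (hSA hwS))
    have := (Subgroup.mem_normalizer_iff.1 huA _).1 h1
    convert this using 1
    rw [hc]; group
  have hcz : c * z * c⁻¹ = z := by
    calc c * z * c⁻¹ = u * (w * z * w⁻¹) * u⁻¹ := by rw [hc]; group
      _ = z := by rw [hcm w hwM z hzM, mul_inv_cancel_right, mul_inv_eq_iff_eq_mul.2 (hzU u huU)]
  have hcs : c * s * c⁻¹ = s := by
    calc c * s * c⁻¹ = u * (w * s * w⁻¹) * u⁻¹ := by rw [hc]; group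
      _ = (u * s * u⁻¹) * (u * z * u⁻¹) := by rw [hwz s hsS hs2 hs1 hsz]; group
      _ = s := by rw [hus, mul_inv_eq_iff_eq_mul.2 (hzU u huU), mul_assoc, hx₀2, mul_one]
  have hcc : c * c = z := by
    have : u * w = w * u := mul_inv_eq_iff_eq_mul.1 huw
    calc c * c = u * (w * u) * w := by rw [hc]; group
      _ = (u * u) * (w * w) := by rw [← this]; group
      _ = z := by rw [hUsq u huU, one_mul, hww]
  -- transfer: other involutions fuse to `z`
  have hMidx : ∀ a ∈ S, ∀ b ∈ S, a ∉ M → b ∉ M → a * b ∈ M := fun a ha b hb haM hbM => by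
    refine hCw _ (mul_mem ha hb) ?_
    calc a * b * w * (a * b)⁻¹ = a * (b * w * b⁻¹) * a⁻¹ := by group
      _ = (a * w * a⁻¹) * (a * z * a⁻¹) := by rw [hout b hb hbM]; group
      _ = w := by
        rw [hout a ha haM, mul_inv_eq_iff_eq_mul.2 (hzS a ha), mul_assoc, hx₀2, mul_one]
  have hfuse : ∀ t ∈ S, t * t = 1 → t ≠ 1 → t ≠ z → ∃ a ∈ A, a * t * a⁻¹ = z := by
    intro t ht ht2 ht1 htz
    by_contra hh
    push Not at hh
    have hSsyl : ∃ P : Sylow 2 A, (P : Subgroup A) = S.subgroupOf A := by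
      obtain ⟨P, hP⟩ := (hS2.of_equiv (Subgroup.subgroupOfEquivOfLe hSA).symm).exists_le_sylow
      refine ⟨P, (Subgroup.eq_of_le_of_card_ge hP ?_).symm⟩
      have := hScard _ (Subgroup.map_subtype_le (P : Subgroup A)) (P.isPGroup'.map _)
      rwa [Subgroup.card_map_of_injective A.subtype_injective,
        ← Nat.card_congr (Subgroup.subgroupOfEquivOfLe hSA).toEquiv] at this
    obtain ⟨P, hP⟩ := hSsyl
    have hidx : (M.subgroupOf A).relIndex (P : Subgroup A) = 2 := by
      rw [hP, Subgroup.relIndex_subgroupOf hSA, Subgroup.relIndex, Subgroup.index_eq_two_iff]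
      refine ⟨⟨t, ht⟩, fun b => ?_⟩
      simp only [Subgroup.mem_subgroupOf, Subgroup.coe_mul]
      by_cases hb : (b : G) ∈ M
      · refine Or.inr ⟨hb, fun h => hsM t ht ht2 ht1 htz ?_⟩
        have := mul_mem (inv_mem hb) h
        rwa [inv_mul_cancel_left] at this
      · exact Or.inl ⟨hMidx b b.2 t ht hb (hsM t ht ht2 ht1 htz), hb⟩
    obtain ⟨N, hN, hN2, -⟩ := Cfsg.Agent.Involution.thompson_transfer P (M.subgroupOf A)
      (hP ▸ Subgroup.comap_mono hMS) hidx (u := ⟨t, hSA ht⟩) (Subtype.ext ht2) (fun a ha => by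
        rw [Subgroup.mem_subgroupOf] at ha
        have h2 : ((a : G) * t * (a : G)⁻¹) * ((a : G) * t * (a : G)⁻¹) = 1 := by
          calc _ = (a : G) * (t * t) * (a : G)⁻¹ := by group
            _ = 1 := by rw [ht2]; group
        rcases huniq _ ha h2 with h | h
        · exact ht1 (conj_eq_one_iff.1 h)
        · exact hh a a.2 h)
    haveI := hN
    have hq2 : Nat.card (A ⧸ N) = 2 := by rw [← Subgroup.index_eq_card, hN2]
    haveI : IsCyclic (A ⧸ N) := isCyclic_of_prime_card hq2
    have hcomm : _root_.commutator A ≤ N := by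
      rw [_root_.commutator_def, Subgroup.commutator_le]
      intro a _ b _
      rw [← QuotientGroup.eq_one_iff, commutatorElement_def]
      show (a : A ⧸ N) * b * (a : A ⧸ N)⁻¹ * (b : A ⧸ N)⁻¹ = 1
      rw [mul_comm' (a : A ⧸ N) b]
      group
    rw [hperf.commutator_eq_top, top_le_iff] at hcomm
    rw [hcomm, Subgroup.index_top] at hN2
    omega
  -- bound on 2-subgroups centralising `z` and a second involution
  have hcz2 : ∀ R : Subgroup G, R ≤ A ⊓ centralizer {z} → IsPGroup 2 R →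
      ∃ k ∈ A ⊓ centralizer {z}, ∀ r ∈ R, k * r * k⁻¹ ∈ S := fun R hR hR2 =>
    conj_into (le_inf hSA fun a ha b hb => by
      rw [Set.mem_singleton_iff] at hb; rw [hb]; exact (hzS a ha).symm) hS2
      (fun R' hR' h2 => hScard R' (hR'.trans inf_le_left) h2) hR hR2
  obtain ⟨a₀, ha₀, ha₀s⟩ := hfuse s hsS hs2 hs1 hsz
  set z' := a₀ * z * a₀⁻¹ with hz'
  have hz'2 : z' * z' = 1 := by
    calc z' * z' = a₀ * (z * z) * a₀⁻¹ := by rw [hz']; group
      _ = 1 := by rw [hx₀2]; group
  have hz'z : z * z' = z' * z := by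
    calc z * z' = (a₀ * s * a₀⁻¹) * (a₀ * z * a₀⁻¹) := by rw [hz', ha₀s]
      _ = a₀ * (s * z) * a₀⁻¹ := by group
      _ = a₀ * (z * s) * a₀⁻¹ := by rw [hzS s hsS]
      _ = (a₀ * z * a₀⁻¹) * (a₀ * s * a₀⁻¹) := by group
      _ = z' * z := by rw [hz', ha₀s]
  obtain ⟨k, hk, hkz'⟩ := hcz2 (zpowers z')
    (zpowers_le.2 <| Subgroup.mem_inf.2 ⟨mul_mem (mul_mem ha₀ hzA) (inv_mem ha₀), fun b hb => by
      rw [Set.mem_singleton_iff] at hb; rw [hb]; exact hz'z⟩)
    (fun g => ⟨1, by
      obtain ⟨m, hm⟩ := g.2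
      apply Subtype.ext
      rw [Subgroup.coe_pow, ← hm, pow_one, sq, ← zpow_add, ← two_mul, zpow_mul, zpow_two, hz'2,
        one_zpow]
      rfl⟩)
  set a' := k * a₀ with ha'
  have hkz : k * z * k⁻¹ = z := by rw [← hk.2 z rfl, mul_inv_cancel_right]
  have ha's : a' * s * a'⁻¹ = z := by
    calc a' * s * a'⁻¹ = k * (a₀ * s * a₀⁻¹) * k⁻¹ := by rw [ha']; group
      _ = z := by rw [ha₀s, hkz]
  set t := a' * z * a'⁻¹ with ht
  have htS : t ∈ S := by
    have := hkz' z' (mem_zpowers z')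
    convert this using 1
    rw [ht, ha', hz']; group
  have ht2 : t * t = 1 := by
    calc t * t = a' * (z * z) * a'⁻¹ := by rw [ht]; group
      _ = 1 := by rw [hx₀2]; group
  have htz : t ≠ z := fun h => hsz (by
    have : a' * z * a'⁻¹ = a' * s * a'⁻¹ := by rw [← ht, h, ha's]
    simpa using this.symm)
  have ht1 : t ≠ 1 := fun h => hx₀1 (conj_eq_one_iff.1 (ht ▸ h))
  set n := a'⁻¹ * w * a' with hn
  have hnA : n ∈ A :=
    mul_mem (mul_mem (inv_mem (mul_mem hk.1 ha₀)) (hSA hwS)) (mul_mem hk.1 ha₀)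
  have hns : n * s * n⁻¹ = s := by
    calc n * s * n⁻¹ = a'⁻¹ * (w * (a' * s * a'⁻¹) * w⁻¹) * a' := by rw [hn]; group
      _ = a'⁻¹ * (a' * s * a'⁻¹) * a' := by
        rw [ha's, hcm w hwM z hzM, mul_inv_cancel_right]
      _ = s := by group
  have hnz : n * z * n⁻¹ = z * s := by
    calc n * z * n⁻¹ = a'⁻¹ * (w * t * w⁻¹) * a' := by rw [hn, ht]; group
      _ = a'⁻¹ * (t * (a' * s * a'⁻¹)) * a' := by rw [hwz t htS ht2 ht1 htz, ha's]
      _ = z * s := by rw [ht]; group
  -- `B = C_A(z, s)` has the four-group as central Sylow 2-subgroup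
  let B : Subgroup G := A ⊓ centralizer {z, s}
  let E : Subgroup G := pairGroup z s hx₀2 hs2 (hzS s hsS).symm
  have hEA : E ≤ A := fun e he => by
    rcases mem_pairGroup.1 he with rfl | rfl | rfl | rfl
    exacts [one_mem A, hzA, hSA hsS, mul_mem hzA (hSA hsS)]
  have hEcent : ∀ e ∈ E, ∀ b ∈ B, b * e = e * b := by
    intro e he b hb
    have hbz : Commute b z := (hb.2 z (Or.inl rfl)).symm
    have hbs : Commute b s := (hb.2 s (Or.inr rfl)).symm
    rcases mem_pairGroup.1 he with rfl | rfl | rfl | rfl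
    exacts [(Commute.one_right b).eq, hbz.eq, hbs.eq, (hbz.mul_right hbs).eq]
  have hEB : E ≤ B := fun e he => ⟨hEA he, by
    intro b hb
    simp only [Set.mem_insert_iff, Set.mem_singleton_iff] at hb
    rcases mem_pairGroup.1 he with h | h | h | h <;> rcases hb with hb | hb <;>
      simp only [h, hb, one_mul, mul_one]
    all_goals first
      | rfl
      | exact hzS s hsS
      | exact (hzS s hsS).symm
      | rw [mul_assoc, hzS s hsS]
      | rw [← mul_assoc, hzS s hsS]⟩
  have hE4 : Nat.card E = 4 := by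
    have : ((E : Set G)) = {1, z, s, z * s} := rfl
    rw [← SetLike.coe_sort_coe, this, Nat.card_coe_set_eq]
    have hzs1 : z * s ≠ 1 := fun h => hsz (by rw [← hzi, inv_eq_of_mul_eq_one_right h])
    have hzsz : z * s ≠ z := fun h => hs1 (mul_eq_left.1 h)
    have hzss : z * s ≠ s := fun h => hx₀1 (mul_eq_right.1 h)
    rw [Set.ncard_insert_of_notMem (by simp [Ne.symm hx₀1, Ne.symm hs1, Ne.symm hzs1]),
      Set.ncard_insert_of_notMem (by simp [Ne.symm hsz, Ne.symm hzsz]),
      Set.ncard_insert_of_notMem (by simp [Ne.symm hzss]), Set.ncard_singleton]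
  have hbound : ∀ R : Subgroup G, R ≤ B → IsPGroup 2 R → Nat.card R ≤ 4 := by
    intro R hR hR2
    have hRE : IsPGroup 2 (R ⊔ E : Subgroup G) := by
      refine IsPGroup.to_sup_of_normal_right' hR2 (IsPGroup.of_card (n := 2) (by rw [hE4]; rfl)) ?_
      intro r hr
      refine Subgroup.centralizer_le_normalizer _ fun e he => (hEcent e he r (hR hr)).symm
    have hle : R ⊔ E ≤ A ⊓ centralizer {z} :=
      sup_le (hR.trans (inf_le_inf_left _ (centralizer_le (by simp))))
        (hEB.trans (inf_le_inf_left _ (centralizer_le (by simp))))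
    obtain ⟨q, hq, hqR⟩ := hcz2 _ hle hRE
    set s' := q * s * q⁻¹ with hs'
    have hs'S : s' ∈ S := hqR s (Subgroup.mem_sup_right (mem_pairGroup.2 (Or.inr (Or.inr (Or.inl rfl)))))
    have hqz : q * z * q⁻¹ = z := by rw [← hq.2 z rfl, mul_inv_cancel_right]
    have hs'2 : s' * s' = 1 := by
      calc s' * s' = q * (s * s) * q⁻¹ := by rw [hs']; group
        _ = 1 := by rw [hs2]; group
    have hs'1 : s' ≠ 1 := fun h => hs1 (conj_eq_one_iff.1 (hs' ▸ h))
    have hs'z : s' ≠ z := fun h => hsz (by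
      have : q * s * q⁻¹ = q * z * q⁻¹ := by rw [← hs', h, hqz]
      simpa using this)
    have hs'M := hsM s' hs'S hs'2 hs'1 hs'z
    have hCM : ∀ g ∈ M, g * s' = s' * g → g = 1 ∨ g = z := by
      intro g hg hgs
      by_contra hne
      push Not at hne
      have hg2 : g * g ≠ 1 := fun h => (huniq g hg h).elim hne.1 hne.2
      obtain ⟨j, hj⟩ := (IsPGroup.iff_orderOf.1 hM2) ⟨g, hg⟩
      rw [Subgroup.orderOf_mk] at hj
      obtain ⟨m, rfl⟩ : ∃ m, j = m + 2 := by
        refine ⟨j - 2, ?_⟩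
        by_contra h
        apply hg2
        rw [← sq]
        exact orderOf_dvd_iff_pow_eq_one.1
          (hj ▸ (Nat.pow_dvd_pow 2 (show j ≤ 1 by omega)).trans (by simp))
      set e := g ^ 2 ^ m with he
      have heM : e ∈ M := pow_mem hg _
      have hee : e * e = z := by
        refine (huniq _ (mul_mem heM heM) ?_).resolve_left ?_
        · rw [he, ← pow_add, ← pow_add,
            show 2 ^ m + 2 ^ m + (2 ^ m + 2 ^ m) = 2 ^ (m + 2) by ring, ← hj, pow_orderOf_eq_one]
        · rw [he, ← pow_add, ← two_mul, ← pow_succ']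
          exact pow_ne_one_of_lt_orderOf (pow_ne_zero _ two_ne_zero)
            (by rw [hj]; exact Nat.pow_lt_pow_right one_lt_two (Nat.lt_succ_self _))
      have h1 : (w⁻¹ * e) * (w⁻¹ * e) = 1 := by
        rw [mul_assoc, ← mul_assoc e, hcm e heM _ (inv_mem hwM), mul_assoc w⁻¹ e e, hee, ← hww]
        group
      have hes : Commute s' e := by rw [he]; exact (show Commute s' g from hgs.symm).pow_right _
      have hws : Commute s' w := by
        rcases huniq _ (mul_mem (inv_mem hwM) heM) h1 with h' | h'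
        · rwa [inv_mul_eq_one.1 h']
        · have he' := inv_mul_eq_iff_eq_mul.1 h'
          have hew : w = e⁻¹ := by rw [he', mul_inv_rev, hzi, hwi, ← mul_assoc, hcm z hzM w hwM,
            mul_assoc, hx₀2, mul_one]
          rw [hew]; exact hes.inv_right
      have := hout s' hs'S hs'M
      rw [hws.eq, mul_inv_cancel_right] at this
      exact hwne this
    have hmem : ∀ r : R, q * (r : G) * q⁻¹ ∈ ({1, z, s', z * s'} : Set G) := by
      intro r
      have hrS : q * (r : G) * q⁻¹ ∈ S := hqR r (Subgroup.mem_sup_left r.2)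
      set r' := q * (r : G) * q⁻¹ with hr'
      have hcs' : Commute r' s' := by
        have h := (hR r.2).2 s (Or.inr rfl)
        show r' * s' = s' * r'
        calc r' * s' = q * ((r : G) * s) * q⁻¹ := by rw [hr', hs']; group
          _ = q * (s * r) * q⁻¹ := by rw [h]
          _ = s' * r' := by rw [hr', hs']; group
      by_cases hrM : r' ∈ M
      · rcases hCM r' hrM hcs'.eq with h | h <;> simp [h]
      · have hgM : r' * s' ∈ M := hMidx r' hrS s' hs'S hrM hs'M
        rcases hCM _ hgM (hcs'.mul_left (Commute.refl s')).eq with h | h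
        · right; right; left
          rw [mul_eq_one_iff_eq_inv.1 h, inv_eq_of_mul_eq_one_right hs'2]
        · right; right; right
          show r' = z * s'
          rw [← h, mul_assoc, hs'2, mul_one]
    calc Nat.card R ≤ Nat.card ({1, z, s', z * s'} : Set G) :=
          Nat.card_le_card_of_injective (fun r => ⟨_, hmem r⟩) (fun a b h => by
            simpa using congrArg Subtype.val h)
      _ ≤ 4 := by
        rw [Nat.card_coe_set_eq]
        refine (Set.ncard_insert_le _ _).trans (Nat.succ_le_succ ?_)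
        refine (Set.ncard_insert_le _ _).trans (Nat.succ_le_succ ?_)
        refine (Set.ncard_insert_le _ _).trans (Nat.succ_le_succ ?_)
        rw [Set.ncard_singleton]
  -- the Sylow index is odd; raise to it
  obtain ⟨P, hP⟩ := ((IsPGroup.of_card (p := 2) (n := 2) (by rw [hE4]; rfl)).of_equiv
    (Subgroup.subgroupOfEquivOfLe hEB).symm).exists_le_sylow
  have hPE : (P : Subgroup B) = E.subgroupOf B := by
    refine (Subgroup.eq_of_le_of_card_ge hP ?_).symm
    rw [Nat.card_congr (Subgroup.subgroupOfEquivOfLe hEB).toEquiv, hE4,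
      ← Subgroup.card_map_of_injective B.subtype_injective]
    exact hbound _ (Subgroup.map_subtype_le _) (P.isPGroup'.map _)
  set N := (E.subgroupOf B).index with hN
  have hNodd : Odd N := by
    rw [hN, ← hPE]
    exact Nat.not_even_iff_odd.1 fun h => P.not_dvd_index (even_iff_two_dvd.1 h)
  have hEz : E.subgroupOf B ≤ center B := fun e he => by
    rw [Subgroup.mem_center_iff]
    exact fun b => Subtype.ext (hEcent _ he _ b.2)
  obtain ⟨l, hl⟩ := Subgroup.index_dvd_of_le hEz
  have hpowE : ∀ b : B, b ^ N ∈ E.subgroupOf B := by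
    intro b
    haveI : (E.subgroupOf B).Normal := ⟨fun e he g => by
      rw [(Subgroup.mem_center_iff.1 (hEz he) g), mul_inv_cancel_right]; exact he⟩
    exact Subgroup.pow_index_mem _ b
  have hpowmul : ∀ b b' : B, (b * b') ^ N = b ^ N * b' ^ N := by
    intro b b'
    rw [hN, hl, pow_mul, pow_mul, pow_mul, ← MonoidHom.transferCenterPow_apply,
      ← MonoidHom.transferCenterPow_apply, ← MonoidHom.transferCenterPow_apply, map_mul,
      Subgroup.coe_mul]
    exact (Commute.mul_pow
      (Subgroup.mem_center_iff.1 (SetLike.coe_mem _) _).symm l)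
  set d := n * c * n⁻¹ with hd
  set b := d * c⁻¹ with hb
  have hbA : b ∈ A := by
    have := mul_mem hnA (hcA _ (inv_mem hnA))
    convert this using 1
    rw [hb, hd]; group
  have hnsz : n⁻¹ * s * n = s ∧ n⁻¹ * z * n = z * s := by
    constructor
    · nth_rewrite 1 [← hns]; group
    · calc n⁻¹ * z * n = n⁻¹ * ((z * s) * s⁻¹) * n := by group
        _ = n⁻¹ * ((n * z * n⁻¹) * (n * s * n⁻¹)⁻¹) * n := by rw [hnz, hns]
        _ = z * s := by group; rw [zpow_neg_one, inv_eq_of_mul_eq_one_right hs2]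
  have hbB : b ∈ B := by
    have key : ∀ e, c * e * c⁻¹ = e → c * (n⁻¹ * e * n) * c⁻¹ = n⁻¹ * e * n →
        e * b = b * e := by
      intro e he he'
      have h1 : d * e * d⁻¹ = e := by
        calc d * e * d⁻¹ = n * (c * (n⁻¹ * e * n) * c⁻¹) * n⁻¹ := by rw [hd]; group
          _ = e := by rw [he']; group
      have h2 : b * e * b⁻¹ = e := by
        calc b * e * b⁻¹ = d * (c⁻¹ * e * c) * d⁻¹ := by rw [hb]; group
          _ = e := by rw [show c⁻¹ * e * c = e by nth_rewrite 1 [← he]; group, h1]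
      exact (mul_inv_eq_iff_eq_mul.1 h2).symm
    refine Subgroup.mem_inf.2 ⟨hbA, ?_⟩
    intro e he
    simp only [Set.mem_insert_iff, Set.mem_singleton_iff] at he
    rcases he with he | he <;> rw [he]
    · refine key _ hcz ?_
      rw [hnsz.2]
      calc c * (z * s) * c⁻¹ = (c * z * c⁻¹) * (c * s * c⁻¹) := by group
        _ = z * s := by rw [hcz, hcs]
    · exact key _ hcs (by rw [hnsz.1]; exact hcs)
  have hbc : c * b * c⁻¹ ∈ B := by
    refine Subgroup.mem_inf.2 ⟨hcA b hbA, ?_⟩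
    have key : ∀ e, c * e * c⁻¹ = e → e * b = b * e →
        e * (c * b * c⁻¹) = c * b * c⁻¹ * e := by
      intro e he heb
      calc e * (c * b * c⁻¹) = (c * e * c⁻¹) * (c * b * c⁻¹) := by rw [he]
        _ = c * (e * b) * c⁻¹ := by group
        _ = c * (b * e) * c⁻¹ := by rw [heb]
        _ = (c * b * c⁻¹) * (c * e * c⁻¹) := by group
        _ = _ := by rw [he]
    intro e he
    simp only [Set.mem_insert_iff, Set.mem_singleton_iff] at he
    rcases he with he | he <;> rw [he]
    · exact key z hcz (hbB.2 z (Or.inl rfl))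
    · exact key s hcs (hbB.2 s (Or.inr rfl))
  have hbb : b * (c * b * c⁻¹) = s := by
    have h1 : d * d = z * s := by
      calc d * d = n * (c * c) * n⁻¹ := by rw [hd]; group
        _ = z * s := by rw [hcc, hnz]
    calc b * (c * b * c⁻¹) = (d * d) * (c * c)⁻¹ := by
          rw [hb]
          have : c * (d * c⁻¹) * c⁻¹ = c * d * (c * c)⁻¹ := by group
          rw [this]; group
      _ = s := by rw [h1, hcc, hzi, ← hzS s hsS, mul_assoc, hx₀2, mul_one]
  have hsE : s ∈ E := mem_pairGroup.2 (Or.inr (Or.inr (Or.inl rfl)))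
  have hfin := hpowmul ⟨b, hbB⟩ ⟨_, hbc⟩
  have hval : s ^ N = b ^ N * (c * b * c⁻¹) ^ N := by
    have := congrArg Subtype.val hfin
    simpa [hbb] using this
  have hbN : b ^ N ∈ E := hpowE ⟨b, hbB⟩
  have hcfix : c * b ^ N * c⁻¹ = b ^ N := by
    rcases mem_pairGroup.1 hbN with h | h | h | h <;> rw [h]
    · group
    · exact hcz
    · exact hcs
    · calc c * (z * s) * c⁻¹ = (c * z * c⁻¹) * (c * s * c⁻¹) := by group
        _ = z * s := by rw [hcz, hcs]
  rw [conj_pow, hcfix, pairGroup_sq hbN] at hval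
  obtain ⟨j, hj⟩ := hNodd
  rw [hj, pow_succ, pow_mul, sq, hs2, one_pow, one_mul] at hval
  exact hs1 hval

end Cfsg.Agent.Perm.FourAct
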