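import Cfsg.Agent.RecogB.Socle
import Cfsg.Agent.RecogB.ExtremeStab
import Cfsg.Agent.Lib.Frobenius.Kernel
import Cfsg.Agent.Lib.Fitting.Minimal
import Cfsg.Agent.PF14.Compose

/-!
# Point stabilisers of insoluble extremely primitive affine groups

A group `H` acting on an abelian group `A` with all point stabilisers of non-identity elements
maximal and core-free. If `H` is insoluble then `A` has exponent 2 and `H` is almost simple:
for two simple factors `T, U` of a socle, a vector `a` and `t ∈ T`, `u ∈ U` outside the stabiliser of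
`a`, the vector `w = a + tu a` has `T`-stabiliser `R ∩ tRt⁻¹`, where `R` is that of `a`. Stabilisers
in factors are self-normalising and of equal order, so `R` would be a Frobenius complement in `T`.
-/

set_option autoImplicit false

namespace Cfsg.Agent.Perm.AffineExtreme

open Cfsg.Agent.RecogB

/-- A non-solvable finite group has an involution. -/
theorem exists_involution {X : Type*} [Group X] [Finite X] (h : ¬ Group.IsSolvable X) :
    ∃ t : X, t ≠ 1 ∧ t * t = 1 := by
  have he : 2 ∣ Nat.card X := by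
    by_contra hc
    exact h (Cfsg.Agent.PF14.feitThompson X (Nat.odd_iff.2 (by omega)))
  haveI : Fact (Nat.Prime 2) := ⟨Nat.prime_two⟩
  obtain ⟨t, ht⟩ := exists_prime_orderOf_dvd_card' 2 he
  exact ⟨t, fun e => by simp [e] at ht, by rw [← sq, ← ht, pow_orderOf_eq_one]⟩

theorem isSolvable_of_mem_zpowers {X : Type*} [Group X] {M : Subgroup X} {x : X}
    (hM : M ≤ Subgroup.zpowers x) : Group.IsSolvable M :=
  Group.isSolvable_of_comm fun a b => by
    obtain ⟨i, hi⟩ := hM a.2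
    obtain ⟨j, hj⟩ := hM b.2
    apply Subtype.ext
    show (a : X) * b = b * a
    rw [← hi, ← hj]
    exact (Commute.zpow_zpow (Commute.refl x) i j).eq

variable {H A : Type*} [Group H] [CommGroup A] (φ : H →* MulAut A)

/-- The stabiliser of `a`. -/
def fixer (a : A) : Subgroup H := (MulAction.stabilizer (MulAut A) a).comap φ

theorem mem_fixer {a : A} {h : H} : h ∈ fixer φ a ↔ φ h a = a := Iff.rfl

/-- All stabilisers of non-identity elements are maximal and core-free, and `H` is insoluble. -/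
structure Hyp : Prop where
  coatom : ∀ a : A, a ≠ 1 → IsCoatom (fixer φ a)
  corefree : ∀ a : A, a ≠ 1 → ∀ K : Subgroup H, K.Normal → K ≤ fixer φ a → K = ⊥
  nsolv : ¬ Group.IsSolvable H

variable {φ}

theorem app_mul (g h : H) (a : A) : φ (g * h) a = φ g (φ h a) := by
  rw [map_mul φ, MulAut.mul_apply]

theorem app_inv_self (g : H) (a : A) : φ g⁻¹ (φ g a) = a := by
  rw [← app_mul, inv_mul_cancel, map_one, MulAut.one_apply]

theorem fixer_inv (a : A) : fixer φ a⁻¹ = fixer φ a := by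
  ext h
  rw [mem_fixer, mem_fixer, map_inv, inv_inj]

theorem Hyp.eq_one_of_fix_orbit (hy : Hyp φ) {a : A} (ha : a ≠ 1) {c : H}
    (hc : ∀ h : H, φ c (φ h a) = φ h a) : c = 1 := by
  let K : Subgroup H := ⨅ h : H, fixer φ (φ h a)
  have hK : K.Normal := by
    refine ⟨fun k hk g => ?_⟩
    rw [Subgroup.mem_iInf] at hk ⊢
    intro h
    rw [mem_fixer]
    have h1 := mem_fixer φ |>.1 (hk (g⁻¹ * h))
    simp only [map_mul, MulAut.mul_apply] at h1 ⊢
    rw [h1]
    rw [← MulAut.mul_apply, ← map_mul, mul_inv_cancel, map_one, MulAut.one_apply]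
  have hKle : K ≤ fixer φ a := fun k hk => by
    have := Subgroup.mem_iInf.1 hk 1
    rwa [map_one, MulAut.one_apply] at this
  have hcK : c ∈ K := Subgroup.mem_iInf.2 hc
  rw [hy.corefree a ha K hK hKle] at hcK
  exact hcK

theorem Hyp.normalizer_le [Finite H] (hy : Hyp φ) {a : A} (ha : a ≠ 1) {K : Subgroup H}
    (hKne : K ≠ ⊥) (hK : K ≤ fixer φ a)
    (hn : ∀ h ∈ fixer φ a, ∀ k ∈ K, h * k * h⁻¹ ∈ K) {g : H} (hg : ∀ k ∈ K, g * k * g⁻¹ ∈ K) :
    g ∈ fixer φ a := by
  have hle : fixer φ a ≤ Subgroup.normalizer (K : Set H) := fun h hh =>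
    (Subgroup.mem_normalizer_fintype (fun k hk => hn h hh k hk) : _)
  have hgn : g ∈ Subgroup.normalizer (K : Set H) :=
    (Subgroup.mem_normalizer_fintype (fun k hk => hg k hk) : _)
  rcases lt_or_eq_of_le hle with h | h
  · exact absurd (hy.corefree a ha K (Subgroup.normalizer_eq_top_iff.mp ((hy.coatom a ha).2 _ h)) hK)
      hKne
  · exact h ▸ hgn

/-- `A` has an element of order two. -/
theorem Hyp.exists_sq_eq_one [Finite H] (hy : Hyp φ) {a₀ : A} (ha₀ : a₀ ≠ 1) :
    ∃ b : A, b ≠ 1 ∧ b * b = 1 := by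
  obtain ⟨t, ht1, ht2⟩ := exists_involution hy.nsolv
  obtain ⟨h, hh⟩ : ∃ h : H, φ t (φ h a₀) ≠ φ h a₀ := by
    by_contra hc
    push Not at hc
    exact ht1 (hy.eq_one_of_fix_orbit ha₀ hc)
  set c := φ h a₀ with hcdef
  set b := φ t c * c⁻¹ with hb
  have hb1 : b ≠ 1 := fun e => hh (mul_inv_eq_one.1 e)
  have htt : ∀ x : A, φ t (φ t x) = x := fun x => by
    rw [← MulAut.mul_apply, ← map_mul, ht2, map_one, MulAut.one_apply]
  have htb : φ t b = b⁻¹ := by
    rw [hb, map_mul, map_inv, htt, mul_inv_rev, inv_inv]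
  refine ⟨b, hb1, ?_⟩
  have hne : fixer φ b ≠ ⊥ := fun e => by
    have hp := prime_card_of_isCoatom_bot (e ▸ hy.coatom b hb1)
    haveI : Fact (Nat.card H).Prime := ⟨hp⟩
    haveI : IsCyclic H := isCyclic_of_prime_card (p := Nat.card H) rfl
    exact hy.nsolv (Group.isSolvable_of_comm fun x y => IsMulCommutative.is_comm.comm x y)
  have hnorm : ∀ k ∈ fixer φ b, t * k * t⁻¹ ∈ fixer φ b := by
    intro k hk
    have hti : t⁻¹ = t := inv_eq_of_mul_eq_one_right ht2
    rw [mem_fixer] at hk ⊢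
    rw [hti, app_mul, app_mul, htb, map_inv, hk, map_inv, htb, inv_inv]
  have htf := hy.normalizer_le hb1 hne le_rfl
    (fun h hh k hk => mul_mem (mul_mem hh hk) (inv_mem hh)) hnorm
  rw [mem_fixer, htb] at htf
  nth_rewrite 2 [← htf]
  exact mul_inv_cancel b

variable [Finite H]

theorem exists_fixed (hsq : ∀ a : A, a * a = 1) {a₀ : A} (ha₀ : a₀ ≠ 1) {x : H} (hx : x * x = 1) :
    ∃ a : A, a ≠ 1 ∧ x ∈ fixer φ a := by
  by_cases h : φ x a₀ = a₀
  · exact ⟨a₀, ha₀, h⟩
  · refine ⟨φ x a₀ * a₀, fun e => h ?_, ?_⟩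
    · rw [mul_eq_one_iff_eq_inv.1 e, inv_eq_of_mul_eq_one_right (hsq a₀)]
    · rw [mem_fixer, map_mul, ← MulAut.mul_apply, ← map_mul, hx, map_one, MulAut.one_apply, mul_comm]

theorem Hyp.exists_decomp (hy : Hyp φ) {a : A} (ha : a ≠ 1) {N : Subgroup H} [N.Normal]
    (hN : N ≠ ⊥) (g : H) : ∃ n ∈ N, ∃ k ∈ fixer φ a, g = n * k := by
  have htop : N ⊔ fixer φ a = ⊤ := by
    refine (hy.coatom a ha).2 _ (lt_of_le_of_ne le_sup_right fun e => hN ?_)
    exact hy.corefree a ha N inferInstance (le_sup_left.trans e.ge)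
  obtain ⟨n, hn, k, hk, e⟩ := Subgroup.mem_sup_of_normal_left.1 (htop.ge (Subgroup.mem_top g))
  exact ⟨n, hn, k, hk, e.symm⟩

/-- `H` has no minimal normal abelian subgroup. -/
theorem Hyp.minNormal_nonabelian (hy : Hyp φ) (hsq : ∀ a : A, a * a = 1) {a₀ : A} (ha₀ : a₀ ≠ 1)
    {M : Subgroup H} (hM : Cfsg.Agent.Fitting.IsMinNormal M) : ¬ IsMulCommutative M := by
  intro hab
  haveI := hM.1
  have hcm : ∀ x ∈ M, ∀ y ∈ M, x * y = y * x := fun x hx y hy' =>
    congrArg Subtype.val (hab.is_comm.comm ⟨x, hx⟩ ⟨y, hy'⟩)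
  have hsemi : ∀ a : A, a ≠ 1 → ∀ m ∈ M, φ m a = a → m = 1 := by
    intro a ha m hm hma
    refine hy.eq_one_of_fix_orbit ha fun h => ?_
    obtain ⟨n, hn, k, hk, rfl⟩ := hy.exists_decomp ha hM.2.1 h
    rw [map_mul, MulAut.mul_apply, (mem_fixer φ).1 hk, ← MulAut.mul_apply, ← map_mul, hcm m hm n hn,
      map_mul, MulAut.mul_apply, hma]
  obtain ⟨⟨m₀, hm₀⟩, hm₀1⟩ := Subgroup.ne_bot_iff_exists_ne_one.1 hM.2.1
  have hm₀1' : m₀ ≠ 1 := fun e => hm₀1 (Subtype.ext e)
  obtain ⟨r, hr, hrd⟩ := Nat.exists_prime_and_dvd (n := orderOf m₀)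
    (fun e => hm₀1' (orderOf_eq_one_iff.1 e))
  haveI : Fact r.Prime := ⟨hr⟩
  obtain ⟨x, hxM, hx1, hxr⟩ : ∃ x ∈ M, x ≠ 1 ∧ x ^ r = 1 := by
    refine ⟨m₀ ^ (orderOf m₀ / r), pow_mem hm₀ _, ?_, ?_⟩
    · refine pow_ne_one_of_lt_orderOf ?_ (Nat.div_lt_self (orderOf_pos m₀) hr.one_lt)
      exact (Nat.div_pos (Nat.le_of_dvd (orderOf_pos m₀) hrd) hr.pos).ne'
    · rw [← pow_mul, Nat.div_mul_cancel hrd, pow_orderOf_eq_one]
  have hr2 : r ≠ 2 := by
    intro e
    rw [e, sq] at hxr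
    obtain ⟨a, ha, hxa⟩ := exists_fixed (φ := φ) hsq ha₀ hxr
    exact hx1 (hsemi a ha x hxM hxa)
  let K : Subgroup H :=
    { carrier := {m | m ∈ M ∧ m ^ r = 1}
      one_mem' := ⟨one_mem M, one_pow r⟩
      mul_mem' := fun {p q} hp hq => ⟨mul_mem hp.1 hq.1, by
        rw [(show Commute p q from hcm p hp.1 q hq.1).mul_pow, hp.2, hq.2, one_mul]⟩
      inv_mem' := fun {p} hp => ⟨inv_mem hp.1, by rw [inv_pow, hp.2, inv_one]⟩ }
  have hKM : K = M := by
    refine (hM.2.2 K ⟨fun k hk g => ⟨hM.1.conj_mem k hk.1 g, by rw [conj_pow, hk.2, mul_one, mul_inv_cancel]⟩⟩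
      fun k hk => hk.1).resolve_left fun e => hx1 ?_
    have : x ∈ K := ⟨hxM, hxr⟩
    rwa [e, Subgroup.mem_bot] at this
  have hord : ∀ m ∈ M, m ^ r = 1 := fun m hm => (hKM.ge hm : m ∈ K).2
  -- `M` is cyclic
  have hcyc : M ≤ Subgroup.zpowers x := by
    intro y hy'
    by_contra hyx
    have hfix : ∀ z ∈ M, z ≠ 1 → ∀ a : A, (∏ j ∈ Finset.range r, φ (z ^ j) a) = 1 := by
      intro z hz hz1 a
      by_contra hne
      refine hz1 (hsemi _ hne z hz ?_)
      rw [map_prod]
      have hstep : ∀ j : ℕ, φ z (φ (z ^ j) a) = φ (z ^ (j + 1)) a := fun j => by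
        rw [← MulAut.mul_apply, ← map_mul, ← pow_succ']
      simp only [hstep]
      have h1 := Finset.prod_range_succ' (fun j => φ (z ^ j) a) r
      have h2 := Finset.prod_range_succ (fun j => φ (z ^ j) a) r
      rw [h2, hord z hz, pow_zero] at h1
      exact (mul_right_cancel h1).symm
    have hy1 : y ≠ 1 := fun e => hyx (e ▸ one_mem _)
    have hxy : ∀ i ∈ Finset.range r, x * y ^ i ≠ 1 := by
      intro i hi e
      rcases Nat.eq_zero_or_pos i with h0 | h0
      · rw [h0, pow_zero, mul_one] at e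
        exact hx1 e
      · apply hyx
        have hyi : y ^ i ∈ Subgroup.zpowers x := by
          rw [eq_inv_of_mul_eq_one_right e]
          exact inv_mem (Subgroup.mem_zpowers x)
        have hoy : orderOf y = r := orderOf_eq_prime (hord y hy') hy1
        have hco : i.Coprime (orderOf y) := by
          rw [hoy, Nat.coprime_comm, hr.coprime_iff_not_dvd]
          exact fun hd => absurd (Nat.le_of_dvd h0 hd) (not_le.2 (Finset.mem_range.1 hi))
        obtain ⟨l, hl⟩ := exists_pow_eq_self_of_coprime hco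
        rw [← hl]
        exact pow_mem hyi l
    have hprod : ∏ i ∈ Finset.range r, ∏ j ∈ Finset.range r, φ ((x * y ^ i) ^ j) a₀ = 1 :=
      Finset.prod_eq_one fun i hi => hfix _ (mul_mem hxM (pow_mem hy' i)) (hxy i hi) a₀
    rw [Finset.prod_comm, Finset.prod_eq_single 0] at hprod
    · simp only [pow_zero, map_one, MulAut.one_apply, Finset.prod_const, Finset.card_range] at hprod
      obtain ⟨l, hl⟩ := hr.odd_of_ne_two hr2
      rw [hl, pow_succ, pow_mul, sq, hsq, one_pow, one_mul] at hprod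
      exact ha₀ hprod
    · intro j hj hj0
      have hyj : y ^ j ≠ 1 := by
        refine pow_ne_one_of_lt_orderOf hj0 ?_
        rw [orderOf_eq_prime (hord y hy') hy1]
        exact Finset.mem_range.1 hj
      have e : ∀ i : ℕ, φ ((x * y ^ i) ^ j) a₀ = φ (x ^ j) (φ ((y ^ j) ^ i) a₀) := fun i => by
        rw [(show Commute x (y ^ i) from hcm x hxM _ (pow_mem hy' i)).mul_pow, map_mul,
          MulAut.mul_apply, ← pow_mul, ← pow_mul, mul_comm i j]
      simp only [e]
      rw [← map_prod, hfix _ (pow_mem hy' j) hyj, map_one]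
    · intro h0
      exact absurd (Finset.mem_range.2 hr.pos) h0
  -- hence `H` is solvable
  let ψ : H →* MulAut M := MulAut.conjNormal
  have hker : ψ.ker ≤ M.subtype.range := by
    intro c hc
    rw [Subgroup.range_subtype]
    have hcM : ∀ m ∈ M, c * m = m * c := fun m hm => by
      have h1 := congrArg (fun f : MulAut M => (f ⟨m, hm⟩ : H)) (MonoidHom.mem_ker.1 hc)
      simp only [ψ, MulAut.conjNormal_apply, MulAut.one_apply] at h1
      exact mul_inv_eq_iff_eq_mul.1 h1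
    obtain ⟨n, hn, k, hk, rfl⟩ := hy.exists_decomp ha₀ hM.2.1 c
    have hk1 : k = 1 := by
      refine hy.eq_one_of_fix_orbit ha₀ fun h => ?_
      obtain ⟨n', hn', k', hk', rfl⟩ := hy.exists_decomp ha₀ hM.2.1 h
      have hkn : k * n' = n' * k := by
        have h1 := hcM n' hn'
        rw [mul_assoc, ← mul_assoc n', ← hcm n hn n' hn', mul_assoc n n'] at h1
        exact mul_left_cancel h1
      rw [map_mul, MulAut.mul_apply, (mem_fixer φ).1 hk', ← MulAut.mul_apply, ← map_mul, hkn, map_mul,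
        MulAut.mul_apply, (mem_fixer φ).1 hk]
    rw [hk1, mul_one]
    exact hn
  haveI : Group.IsSolvable M := isSolvable_of_mem_zpowers hcyc
  haveI : Group.IsSolvable (MulAut M) := by
    haveI : IsCyclic M := by
      refine ⟨⟨⟨x, hxM⟩, fun m => ?_⟩⟩
      obtain ⟨l, hl⟩ := hcyc m.2
      exact ⟨l, Subtype.ext (by simpa using hl)⟩
    exact Group.isSolvable_of_isSolvable_injective
      (f := (IsCyclic.mulAutMulEquiv M).toMonoidHom) (MulEquiv.injective _)
  exact hy.nsolv (Group.isSolvable_of_ker_le_range M.subtype ψ hker)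

/-- `H` is almost simple. -/
theorem Hyp.almost_simple (hy : Hyp φ) (hsq : ∀ a : A, a * a = 1) {a₀ : A} (ha₀ : a₀ ≠ 1) :
    ∃ T : Subgroup H, T.Normal ∧ IsSimpleGroup T ∧ ¬ IsMulCommutative T ∧
      Subgroup.centralizer (T : Set H) = ⊥ := by
  classical
  haveI : Nontrivial H := by
    by_contra hc
    rw [not_nontrivial_iff_subsingleton] at hc
    exact hy.nsolv (Group.isSolvable_of_comm fun x y => Subsingleton.elim _ _)
  obtain ⟨N, hN⟩ := Cfsg.Agent.Fitting.exists_isMinNormal (G := H)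
  haveI := hN.1
  have hNna := hy.minNormal_nonabelian hsq ha₀ hN
  obtain ⟨T, hT⟩ := exists_isFactor hN.2.1 hN.2.2 hNna
  have hTinv : ∀ U : Subgroup H, IsFactor N U → ∃ s ∈ U, s ≠ 1 ∧ s * s = 1 := by
    intro U hU
    have hns : ¬ Group.IsSolvable U := fun h => by
      haveI := hU.simple
      exact hU.nonab ⟨⟨IsSimpleGroup.comm_iff_isSolvable.2 h⟩⟩
    obtain ⟨s, hs1, hs2⟩ := exists_involution hns
    exact ⟨s, s.2, fun e => hs1 (Subtype.ext e), congrArg Subtype.val hs2⟩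
  have hcen : Subgroup.centralizer (N : Set H) = ⊥ := by
    by_contra hC
    obtain ⟨s, hsT, hs1, hs2⟩ := hTinv T hT
    obtain ⟨a, ha, hsa⟩ := exists_fixed (φ := φ) hsq ha₀ hs2
    haveI : (Subgroup.centralizer (N : Set H)).Normal := by
      refine ⟨fun c hc g => Subgroup.mem_centralizer_iff.2 fun n hn => ?_⟩
      have h1 := Subgroup.mem_centralizer_iff.1 hc _ (hN.1.conj_mem n hn g⁻¹)
      calc n * (g * c * g⁻¹) = g * ((g⁻¹ * n * g⁻¹⁻¹) * c) * g⁻¹ := by group
        _ = g * (c * (g⁻¹ * n * g⁻¹⁻¹)) * g⁻¹ := by rw [h1]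
        _ = g * c * g⁻¹ * n := by group
    refine hs1 (hy.eq_one_of_fix_orbit ha fun h => ?_)
    obtain ⟨c, hc, k, hk, rfl⟩ := hy.exists_decomp ha hC h
    rw [map_mul, MulAut.mul_apply, (mem_fixer φ).1 hk, ← MulAut.mul_apply, ← map_mul,
      Subgroup.mem_centralizer_iff.1 hc s (hT.le hsT), map_mul, MulAut.mul_apply, (mem_fixer φ).1 hsa]
  by_cases hTN : T = N
  · refine ⟨N, hN.1, ?_, hNna, hcen⟩
    have := hT.simple
    rwa [hTN] at this
  exfalso
  have hfac : ∀ g : H, IsFactor N (cj g T) := fun g => hT.cj g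
  -- factor stabilisers
  let R : A → H → Subgroup H := fun a g => cj g T ⊓ fixer φ a
  have hcjmul : ∀ g k : H, cj k (cj g T) = cj (k * g) T := fun g k => by
    ext z; simp only [mem_cj, mul_inv_rev, mul_assoc]
  have hcjN : ∀ (n g : H), n ∈ N → cj n (cj g T) = cj g T := by
    intro n g hn
    ext z
    rw [mem_cj]
    constructor
    · intro h
      have := (hfac g).nrm n hn _ h
      simpa [mul_assoc] using this
    · intro h
      have := (hfac g).nrm n⁻¹ (inv_mem hn) _ h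
      simpa [mul_assoc] using this
  -- any factor is the image of any other under the stabiliser of `a`
  have hmove : ∀ a : A, a ≠ 1 → ∀ g g' : H, ∃ k ∈ fixer φ a, cj k (cj g T) = cj g' T := by
    intro a ha g g'
    obtain ⟨n, hn, k, hk, e⟩ := hy.exists_decomp ha hN.2.1 (g' * g⁻¹)
    refine ⟨k, hk, ?_⟩
    have h1 : cj (g' * g⁻¹) (cj g T) = cj g' T := by rw [hcjmul, inv_mul_cancel_right]
    rw [← h1, e]
    rw [show cj (n * k) (cj g T) = cj n (cj k (cj g T)) by
      ext z; simp only [mem_cj, mul_inv_rev, mul_assoc], hcjmul g k, hcjN n (k * g) hn]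
  have hRmap : ∀ (a : A) (g g' k : H), k ∈ fixer φ a → cj k (cj g T) = cj g' T →
      ∀ x, x ∈ R a g ↔ k * x * k⁻¹ ∈ R a g' := by
    intro a g g' k hk e x
    simp only [R, Subgroup.mem_inf]
    constructor
    · rintro ⟨h1, h2⟩
      exact ⟨e ▸ conj_mem_cj h1, mul_mem (mul_mem hk h2) (inv_mem hk)⟩
    · rintro ⟨h1, h2⟩
      rw [← e, mem_cj] at h1
      refine ⟨by simpa [mul_assoc] using h1, ?_⟩
      have := mul_mem (mul_mem (inv_mem hk) h2) hk
      simpa [mul_assoc] using this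
  have hcard : ∀ a : A, a ≠ 1 → ∀ g g' : H, Nat.card (R a g) ≤ Nat.card (R a g') := by
    intro a ha g g'
    obtain ⟨k, hk, e⟩ := hmove a ha g g'
    refine Nat.card_le_card_of_injective
      (fun x : R a g => (⟨k * x * k⁻¹, (hRmap a g g' k hk e x).1 x.2⟩ : R a g')) fun x y h => ?_
    simpa using congrArg Subtype.val h
  -- self-normalisation
  have hself : ∀ a : A, a ≠ 1 → ∀ g : H, R a g ≠ ⊥ → ∀ s ∈ cj g T,
      (∀ x ∈ R a g, s * x * s⁻¹ ∈ R a g) → s ∈ R a g := by
    intro a ha g hRne s hs hsn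
    refine Subgroup.mem_inf.2 ⟨hs, ?_⟩
    let P : Subgroup H := ⨆ g' : H, R a g'
    have hPne : P ≠ ⊥ := fun e => hRne (eq_bot_iff.2 (e ▸ le_iSup (fun g' => R a g') g))
    have hconj : ∀ u : H, (∀ g' : H, ∀ x ∈ R a g', u * x * u⁻¹ ∈ P) → ∀ y ∈ P, u * y * u⁻¹ ∈ P := by
      intro u hu y hy'
      have : P.map (MulAut.conj u).toMonoidHom ≤ P := by
        rw [Subgroup.map_iSup]
        refine iSup_le fun g' => ?_
        rintro _ ⟨x, hx, rfl⟩
        exact hu g' x hx
      exact this ⟨y, hy', rfl⟩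
    refine hy.normalizer_le ha hPne (iSup_le fun g' => inf_le_right) (fun h hh => hconj h fun g' x hx => ?_)
      (hconj s fun g' x hx => ?_)
    · exact le_iSup (fun g' => R a g') (h * g')
        ((hRmap a g' (h * g') h hh (hcjmul g' h) x).1 hx)
    · by_cases e : cj g' T = cj g T
      · refine le_iSup (fun g' => R a g') g (hsn x ?_)
        exact Subgroup.mem_inf.2 ⟨e ▸ hx.1, hx.2⟩
      · have hc : s * x = x * s := ((hfac g).eq_or_commute (hfac g')).resolve_left e s hs x hx.1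
        rw [hc, mul_inv_cancel_right]
        exact le_iSup (fun g' => R a g') g' hx
  -- a point with the largest factor stabiliser
  have hA : Nonempty {a : A // a ≠ 1} := ⟨⟨a₀, ha₀⟩⟩
  obtain ⟨m, ⟨⟨a, ha⟩, hma⟩, hmax⟩ : ∃ m : ℕ, (∃ a : {a : A // a ≠ 1}, Nat.card (R a.1 1) = m) ∧
      ∀ b : {a : A // a ≠ 1}, Nat.card (R b.1 1) ≤ m := by
    have hfin : (Set.range fun a : {a : A // a ≠ 1} => Nat.card (R a.1 1)).Finite := by
      refine (Set.finite_Iic (Nat.card H)).subset ?_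
      rintro _ ⟨b, rfl⟩
      exact Subgroup.card_le_card_group _
    obtain ⟨m, hm, hmax⟩ := Set.exists_max_image _ id hfin (Set.range_nonempty _)
    exact ⟨m, hm, fun b => hmax _ ⟨b, rfl⟩⟩
  simp only at hma
  have hmaxR : ∀ b : A, b ≠ 1 → ∀ g g' : H, Nat.card (R b g) ≤ Nat.card (R a g') := fun b hb g g' =>
    ((hcard b hb g 1).trans ((hmax ⟨b, hb⟩).trans hma.ge)).trans (hcard a ha 1 g')
  have hRne : ∀ g : H, R a g ≠ ⊥ := by
    intro g e
    obtain ⟨s, hs, hs1, hs2⟩ := hTinv _ (hfac g)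
    obtain ⟨b, hb, hsb⟩ := exists_fixed (φ := φ) hsq ha₀ hs2
    have h1 := hmaxR b hb g g
    rw [e, Subgroup.card_bot] at h1
    have : R b g = ⊥ := Subgroup.eq_bot_of_card_le _ h1
    exact hs1 (Subgroup.mem_bot.1 (this ▸ Subgroup.mem_inf.2 ⟨hs, hsb⟩ : s ∈ (⊥ : Subgroup H)))
  -- the key computation
  have hkey : ∀ g g' : H, cj g' T ≠ cj g T → ∀ t ∈ cj g T, t ∉ R a g → ∀ u ∈ cj g' T, u ∉ R a g' →
      a * φ (t * u) a ≠ 1 ∧ ∀ x, x ∈ R (a * φ (t * u) a) g ↔ x ∈ R a g ∧ t⁻¹ * x * t ∈ R a g := by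
    intro g g' hne t ht htR u hu huR
    have hcomm : ∀ p ∈ cj g T, ∀ q ∈ cj g' T, p * q = q * p :=
      ((hfac g).eq_or_commute (hfac g')).resolve_left hne
    set w := a * φ (t * u) a with hw
    have hw1 : w ≠ 1 := by
      intro e
      apply htR
      have hfx : t * u ∈ fixer φ a := by
        rw [mem_fixer, ← inv_eq_of_mul_eq_one_right (a := a) e]
        exact inv_eq_of_mul_eq_one_right (hsq a)
      refine hself a ha g (hRne g) t ht fun x hx => Subgroup.mem_inf.2 ⟨?_, ?_⟩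
      · exact mul_mem (mul_mem ht hx.1) (inv_mem ht)
      · have h1 := mul_mem (mul_mem hfx hx.2) (inv_mem hfx)
        have e' : t * u * x * (t * u)⁻¹ = t * x * t⁻¹ := by
          calc t * u * x * (t * u)⁻¹ = t * (u * x) * u⁻¹ * t⁻¹ := by group
            _ = t * (x * u) * u⁻¹ * t⁻¹ := by rw [hcomm x hx.1 u hu]
            _ = t * x * t⁻¹ := by group
        rwa [e'] at h1
    refine ⟨hw1, fun x => ⟨fun hx => ?_, fun hx => ?_⟩⟩
    · have hxT : x ∈ cj g T := hx.1
      have hxw : φ x w = w := hx.2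
      -- a point moved by `R a g'`
      have hmv : ∀ v ∈ cj g' T, v ∉ R a g' → ∃ b ∈ R a g', φ b (φ v a) ≠ φ v a := by
        intro v hv hvR
        by_contra hc
        push Not at hc
        apply hvR
        have hsub : ∀ b ∈ R a g', v⁻¹ * b * v ∈ R a g' := fun b hb =>
          Subgroup.mem_inf.2 ⟨mul_mem (mul_mem (inv_mem hv) hb.1) hv, by
            rw [mem_fixer, map_mul, map_mul, MulAut.mul_apply, MulAut.mul_apply, hc b hb,
              ← MulAut.mul_apply, ← map_mul, inv_mul_cancel, map_one, MulAut.one_apply]⟩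
        have hv' := hself a ha g' (hRne g') v⁻¹ (inv_mem hv) (fun b hb => by
          simpa using hsub b hb)
        simpa using inv_mem hv'
      -- elements `y` fixed by `R a g` have no larger stabiliser in the factor
      have hfull : ∀ y : A, y ≠ 1 → (∀ r ∈ R a g, φ r y = y) → ∀ z ∈ cj g T, φ z y = y → z ∈ R a g := by
        intro y hy1 hyfix z hz hzy
        have hle : R a g ≤ R y g := fun r hr => Subgroup.mem_inf.2 ⟨hr.1, hyfix r hr⟩
        have := Subgroup.eq_of_le_of_card_ge hle (hmaxR y hy1 g g)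
        exact this.ge (Subgroup.mem_inf.2 ⟨hz, hzy⟩)
      have hxcomm : ∀ v ∈ cj g' T, φ x (φ v w) = φ v w := fun v hv => by
        rw [← app_mul, hcomm x hxT v hv, app_mul, hxw]
      have hfixu : ∀ v ∈ cj g' T, ∀ r ∈ R a g, φ r (φ v a) = φ v a := fun v hv r hr => by
        rw [← MulAut.mul_apply, ← map_mul, hcomm r hr.1 v hv, map_mul, MulAut.mul_apply,
          (mem_fixer φ).1 hr.2]
      have hfixd : ∀ v ∈ cj g' T, ∀ v' ∈ cj g' T, ∀ r ∈ R a g,
          φ r (φ v a * (φ v' a)⁻¹) = φ v a * (φ v' a)⁻¹ := fun v hv v' hv' r hr => by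
        rw [map_mul, map_inv, hfixu v hv r hr, hfixu v' hv' r hr]
      constructor
      · -- move the second summand: fix it, move `a`
        obtain ⟨b, hb, hbm⟩ := hmv u⁻¹ (inv_mem hu) (fun h => huR (by simpa using inv_mem h))
        set b' := u * b * u⁻¹ with hb'
        have hb'T : b' ∈ cj g' T := mul_mem (mul_mem hu hb.1) (inv_mem hu)
        have hfix2 : φ b' (φ (t * u) a) = φ (t * u) a := by
          have e : b' * (t * u) = t * u * b := by
            rw [hb', ← mul_assoc, ← hcomm t ht (u * b * u⁻¹) hb'T]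
            group
          rw [← MulAut.mul_apply, ← map_mul, e, map_mul, MulAut.mul_apply, (mem_fixer φ).1 hb.2]
        have hy1 : φ b' a * a⁻¹ ≠ 1 := by
          intro e
          apply hbm
          rw [mul_inv_eq_one, hb', app_mul, app_mul] at e
          have := congrArg (fun z => φ u⁻¹ z) e
          simp only [app_inv_self] at this
          exact this
        refine hfull _ hy1 ?_ x hxT ?_
        · intro r hr
          have h1 := hfixd b' hb'T 1 (one_mem _) r hr
          rwa [map_one, MulAut.one_apply] at h1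
        · have e : φ b' a * a⁻¹ = φ b' w * w⁻¹ := by
            rw [hw, map_mul (φ b'), hfix2, mul_inv_rev]
            group
          rw [e, map_mul, map_inv, hxcomm b' hb'T, hxw]
      · obtain ⟨b, hb, hbm⟩ := hmv u hu huR
        have hy1 : φ b (φ u a) * (φ u a)⁻¹ ≠ 1 := fun e => hbm (mul_inv_eq_one.1 e)
        refine hfull _ hy1 (fun r hr => ?_) _ (mul_mem (mul_mem (inv_mem ht) hxT) ht) ?_
        · have h1 := hfixd (b * u) (mul_mem hb.1 hu) u hu r hr
          rwa [app_mul] at h1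
        · have e : φ t (φ b (φ u a) * (φ u a)⁻¹) = φ b w * w⁻¹ := by
            have hbt : φ b (φ t (φ u a)) = φ t (φ b (φ u a)) := by
              rw [← app_mul, ← hcomm t ht b hb.1, app_mul]
            rw [hw, map_mul (φ b), (mem_fixer φ).1 hb.2, app_mul, hbt, map_mul (φ t), map_inv]
            rw [mul_inv, mul_mul_mul_comm, mul_inv_cancel, one_mul]
          rw [app_mul, app_mul, e]
          have h2 : φ x (φ b w * w⁻¹) = φ b w * w⁻¹ := by rw [map_mul, map_inv, hxcomm b hb.1, hxw]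
          rw [h2, ← e, app_inv_self]
    · obtain ⟨hx1, hx2⟩ := hx
      refine Subgroup.mem_inf.2 ⟨hx1.1, ?_⟩
      rw [mem_fixer, hw, map_mul, (mem_fixer φ).1 hx1.2, ← MulAut.mul_apply, ← map_mul]
      have e : x * (t * u) = t * u * (t⁻¹ * x * t) := by
        calc x * (t * u) = t * ((t⁻¹ * x * t) * u) := by group
          _ = t * (u * (t⁻¹ * x * t)) := by
            rw [hcomm _ (mul_mem (mul_mem (inv_mem ht) hx1.1) ht) u hu]
          _ = t * u * (t⁻¹ * x * t) := by group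
      rw [e, map_mul, MulAut.mul_apply, (mem_fixer φ).1 hx2.2]
  -- the second factor and the involution
  obtain ⟨g₂, hg₂⟩ := hT.exists_other hN.2.2 hTN
  have hone : cj 1 T = T := by ext z; simp [mem_cj]
  have hne₂ : cj g₂ T ≠ cj 1 T := by rwa [hone]
  have hnotall : ∀ g : H, ∃ s ∈ cj g T, s ∉ R a g ∧ s * s = 1 := by
    intro g
    by_contra hc
    push Not at hc
    obtain ⟨s₀, hs₀, hs₀1, hs₀2⟩ := hTinv _ (hfac g)
    let I : Subgroup H := Subgroup.closure {s | s ∈ cj g T ∧ s * s = 1}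
    have hIT : I ≤ cj g T := (Subgroup.closure_le _).2 fun s hs => hs.1
    have hIR : I ≤ R a g := (Subgroup.closure_le _).2 fun s hs => by
      by_contra h
      exact hc s hs.1 h hs.2
    rcases (hfac g).eq_bot_or_eq hIT (fun x hx k hk => by
        have hmap : I.map (MulAut.conj x).toMonoidHom ≤ I := by
          rw [MonoidHom.map_closure, Subgroup.closure_le]
          rintro _ ⟨s, hs, rfl⟩
          refine Subgroup.subset_closure ⟨mul_mem (mul_mem hx hs.1) (inv_mem hx), ?_⟩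
          show x * s * x⁻¹ * (x * s * x⁻¹) = 1
          calc _ = x * (s * s) * x⁻¹ := by group
            _ = 1 := by rw [hs.2]; group
        exact hmap ⟨k, hk, rfl⟩) with h | h
    · exact hs₀1 (Subgroup.mem_bot.1 (h ▸ Subgroup.subset_closure ⟨hs₀, hs₀2⟩))
    · -- the whole factor fixes `a`, hence so does `N`
      have hall : ∀ g' : H, cj g' T ≤ fixer φ a := by
        intro g' y hy'
        obtain ⟨k, hk, e⟩ := hmove a ha g g'
        rw [← e, mem_cj] at hy'
        have := mul_mem (mul_mem hk ((hIR (h ▸ hy' : k⁻¹ * y * k ∈ I)).2)) (inv_mem hk)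
        simpa [mul_assoc] using this
      exact hN.2.1 (hy.corefree a ha N hN.1 ((hT.generate hN.2.2).ge.trans (iSup_le hall)))
  obtain ⟨s, hs, hsR, hs2⟩ := hnotall 1
  have hsi : s⁻¹ = s := inv_eq_of_mul_eq_one_right hs2
  -- `R ∩ sRs = 1`
  have hD : ∀ x ∈ R a 1, s⁻¹ * x * s ∈ R a 1 → x = 1 := by
    intro x hx hx'
    by_contra hx1
    obtain ⟨u, hu, huR, -⟩ := hnotall g₂
    obtain ⟨hw1, hw⟩ := hkey 1 g₂ hne₂ s hs hsR u hu huR
    have hne : R (a * φ (s * u) a) 1 ≠ ⊥ := fun e =>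
      hx1 (Subgroup.mem_bot.1 (e ▸ (hw x).2 ⟨hx, hx'⟩))
    have hsin := hself _ hw1 1 hne s hs fun y hy' => by
      obtain ⟨h1, h2⟩ := (hw y).1 hy'
      refine (hw _).2 ⟨by rwa [hsi] at h2 ⊢, ?_⟩
      have : s⁻¹ * (s * y * s⁻¹) * s = y := by group
      rwa [this]
    exact hsR ((hw s).1 hsin).1
  obtain ⟨k, hk, hke⟩ := hmove a ha 1 g₂
  set u := k * s * k⁻¹ with hu_def
  have hu : u ∈ cj g₂ T := hke ▸ conj_mem_cj hs
  have huR : u ∉ R a g₂ := fun h => hsR ((hRmap a 1 g₂ k hk hke s).2 h)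
  have hTI : ∀ t ∈ cj 1 T, t ∉ R a 1 → ∀ x ∈ R a 1, t⁻¹ * x * t ∈ R a 1 → x = 1 := by
    intro t ht htR x hx hx'
    obtain ⟨hw1, hw⟩ := hkey 1 g₂ hne₂ t ht htR u hu huR
    obtain ⟨hw1', hw'⟩ := hkey g₂ 1 (Ne.symm hne₂) u hu huR t ht htR
    have hwe : a * φ (u * t) a = a * φ (t * u) a := by
      rw [((hfac 1).eq_or_commute (hfac g₂)).resolve_left hne₂ t ht u hu]
    rw [hwe] at hw'
    have hbot : R (a * φ (t * u) a) g₂ = ⊥ := by
      rw [Subgroup.eq_bot_iff_forall]
      intro y hy'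
      obtain ⟨h1, h2⟩ := (hw' y).1 hy'
      have h1' : k * (k⁻¹ * y * k) * k⁻¹ ∈ R a g₂ := by simpa [mul_assoc] using h1
      have h2' : k * (s⁻¹ * (k⁻¹ * y * k) * s) * k⁻¹ ∈ R a g₂ := by
        have e : k * (s⁻¹ * (k⁻¹ * y * k) * s) * k⁻¹ = u⁻¹ * y * u := by rw [hu_def]; group
        rwa [e]
      have := hD _ ((hRmap a 1 g₂ k hk hke _).2 h1') ((hRmap a 1 g₂ k hk hke _).2 h2')
      simpa [mul_assoc] using congrArg (fun z => k * z * k⁻¹) this
    have h1 := hcard _ hw1 1 g₂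
    rw [hbot, Subgroup.card_bot] at h1
    have := Subgroup.eq_bot_of_card_le _ h1
    exact Subgroup.mem_bot.1 (this ▸ (hw x).2 ⟨hx, hx'⟩)
  -- Frobenius
  let U : Subgroup H := cj 1 T
  let C : Subgroup U := (R a 1).subgroupOf U
  have hFC : Cfsg.IsFrobeniusComplement C := by
    refine ⟨?_, ?_, ?_⟩
    · rw [Ne, Subgroup.subgroupOf_eq_bot, disjoint_iff, inf_eq_left.2 (inf_le_left : R a 1 ≤ U)]
      exact hRne 1
    · intro e
      exact hsR ((e ▸ Subgroup.mem_top (⟨s, hs⟩ : U) : (⟨s, hs⟩ : U) ∈ C))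
    · intro g hg
      rw [Subgroup.eq_bot_iff_forall]
      rintro x ⟨hx, hx'⟩
      have hx' : (MulAut.conj g)⁻¹ • x ∈ C := Subgroup.mem_pointwise_smul_iff_inv_smul_mem.1 hx'
      apply Subtype.ext
      refine hTI g g.2 hg x hx ?_
      simpa [C, Subgroup.mem_subgroupOf, mul_assoc] using hx'
  obtain ⟨K, -, hKn, hKc⟩ := Cfsg.Agent.Frobenius.exists_frobeniusKernel_subgroup hFC
  haveI : IsSimpleGroup U := (hfac 1).simple
  rcases hKn.eq_bot_or_eq_top with e | e
  · rw [e] at hKc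
    exact hFC.2.1 (Subgroup.isComplement'_bot_left.1 hKc)
  · rw [e] at hKc
    exact hFC.1 (Subgroup.isComplement'_top_left.1 hKc)

end Cfsg.Agent.Perm.AffineExtreme
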