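import Cfsg.Agent.S0265
import Cfsg.Agent.S0813
import Cfsg.Agent.S1304
import Cfsg.Agent.Lib.LinearGroup.Generation
import Mathlib.LinearAlgebra.Matrix.SpecialLinearGroup
import Mathlib.Data.ZMod.Basic
import Mathlib.LinearAlgebra.Matrix.Notation

/-!
# Basic facts on `SL(2,5)`
-/

set_option autoImplicit false
set_option linter.style.haveILetI false

namespace Cfsg.Agent.Perm.SLTwoFive

abbrev SL25 := Matrix.SpecialLinearGroup (Fin 2) (ZMod 5)

instance : Fact (Nat.Prime 5) := ⟨by norm_num⟩

theorem card_eq : Nat.card SL25 = 120 := by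
  rw [Nat.card_eq_fintype_card]
  decide +kernel

theorem commutator_eq_top : commutator SL25 = ⊤ := by
  refine Cfsg.Agent.LinearGroup.commutator_SL_eq_top' fun _ => ⟨2, ?_, ?_⟩ <;> decide

/-- `|Aut SL(2,5)|` divides `120`. -/
theorem card_mulAut_dvd : Nat.card (MulAut SL25) ∣ 120 := by
  let π : MulAut SL25 →* MulAut (Matrix.ProjectiveSpecialLinearGroup (Fin 2) (ZMod 5)) :=
    MonoidHom.mk' (fun φ => QuotientGroup.congr (Subgroup.center SL25) (Subgroup.center SL25) φ
        (Subgroup.characteristic_iff_map_eq.1 inferInstance φ)) fun φ ψ => by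
      apply MulEquiv.ext
      intro x
      induction x using QuotientGroup.induction_on with
      | H g => rfl
  have hπ : Function.Injective π := by
    rw [injective_iff_map_eq_one]
    intro φ hφ
    apply MulEquiv.ext
    refine S1304.result commutator_eq_top φ fun g => ?_
    have h := congrArg (fun σ : MulAut (Matrix.ProjectiveSpecialLinearGroup (Fin 2) (ZMod 5)) =>
      σ (QuotientGroup.mk g)) hφ
    have h' : (QuotientGroup.mk (φ g) : SL25 ⧸ Subgroup.center SL25) = QuotientGroup.mk g := h
    rw [QuotientGroup.eq] at h'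
    have h'' := Subgroup.mem_center_iff.1 (inv_mem h') (φ g)
    rw [mul_inv_rev, inv_inv] at h''
    have hgg : φ g * g⁻¹ = g⁻¹ * φ g := by
      apply mul_right_cancel (b := φ g)
      rw [mul_assoc]; exact h''
    rw [hgg]
    simpa using inv_mem h'
  have h1 := Subgroup.card_dvd_of_injective π hπ
  have h2 := S0813.result (F := ZMod 5) 5 1 le_rfl (ZMod.card 5) 2 le_rfl (fun _ => by norm_num)
  rw [h2, S0265.result, card_eq] at h1
  simpa using h1

/-- The matrix `i`. -/
def mI : SL25 := ⟨!![0, 1; -1, 0], by decide⟩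

/-- The matrix `j`. -/
def mJ : SL25 := ⟨!![2, 0; 0, 3], by decide⟩

theorem quaternion_pair_eq :
    mI * mI = mJ * mJ ∧ mI * mI ≠ 1 ∧ mI * mI * (mI * mI) = 1 ∧
      mI * mJ = mI * mI * (mJ * mI) := by
  decide +kernel

/-- The matrix `t`. -/
def mT : SL25 := ⟨!![1, 1; 0, 1], by decide⟩

set_option maxRecDepth 8000 in
theorem mul_self_eq_one_of_central :
    ∀ g : SL25, g * mI = mI * g → g * mT = mT * g → g * g = 1 := by
  decide +kernel

end Cfsg.Agent.Perm.SLTwoFive
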