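import Cfsg.Agent.Lib.Perm.RegularNormal
import Cfsg.Agent.Lib.Perm.SharplyTwo

/-!
Normal subgroups of multiply primitive groups (Wielandt, Jordan).
-/

set_option autoImplicit false

namespace Cfsg.Agent.Perm

open MulAction

universe u v

theorem faithfulSMul_ofStabilizer {G : Type u} [Group G] {X : Type v} [MulAction G X]
    [FaithfulSMul G X] (a : X) :
    FaithfulSMul (stabilizer G a) (SubMulAction.ofStabilizer G a) := by
  refine ⟨fun {g h} e => Subtype.ext (FaithfulSMul.eq_of_smul_eq_smul (α := X) fun x => ?_)⟩
  by_cases hx : x = a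
  · subst hx
    rw [g.2, h.2]
  · exact congrArg Subtype.val (e ⟨x, hx⟩)

/-- A multiply transitive faithful action of large enough transitivity has the full order. -/
theorem card_eq_factorial {G : Type u} [Group G] {X : Type v} [MulAction G X] [Finite X]
    [FaithfulSMul G X] {k : ℕ} (hk : IsMultiplyPretransitive G X k) (hkn : k ≤ Nat.card X)
    (h : Nat.card X ≤ k + 1) : Nat.card G = (Nat.card X).factorial := by
  have hinj : Function.Injective (MulAction.toPermHom G X) := MulAction.toPerm_injective
  haveI : Finite G := Finite.of_injective _ hinj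
  have hle : Nat.card G ≤ (Nat.card X).factorial := by
    rw [← Nat.card_perm]; exact Nat.card_le_card_of_injective _ hinj
  obtain ⟨s, -, hs⟩ := Set.exists_subset_card_eq (s := (Set.univ : Set X))
    (show k ≤ Set.univ.ncard by rwa [Set.ncard_univ])
  have h1 := IsMultiplyPretransitive.index_of_fixingSubgroup_mul (G := G) hk hs
  have h2 : (Nat.card X - k).factorial = 1 :=
    Nat.factorial_eq_one.mpr (by omega)
  rw [h2, mul_one] at h1
  refine le_antisymm hle ?_
  rw [← h1]
  exact Nat.le_of_dvd Nat.card_pos (Subgroup.index_dvd_card _)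

/-- In a `k`-primitive group that is not the full symmetric group, or with `k + 2` at most the
degree, a non-regular normal subgroup is `k`-transitive. -/
theorem multiplyPretransitive_of_normal (k : ℕ) :
    ∀ {G : Type u} [Group G] {X : Type v} [MulAction G X] [Finite X] [FaithfulSMul G X],
      1 ≤ k → k ≤ Nat.card X → IsMultiplyPreprimitive G X k →
      (Nat.card G ≠ (Nat.card X).factorial ∨ k + 2 ≤ Nat.card X) →
      ∀ (H : Subgroup G) [H.Normal], (∃ a : X, stabilizer H a ≠ ⊥) →
        IsMultiplyPretransitive H X k := by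
  induction k with
  | zero => intro G _ X _ _ _ h; omega
  | succ k ih =>
    intro G _ X _ _ _ _ hkn hG hcond H _ hnr
    obtain ⟨a, ha⟩ := hnr
    have hE : ((k + 1 : ℕ) : ENat) ≤ ENat.card X := by
      rw [ENat.card_eq_coe_natCard]; exact_mod_cast hkn
    haveI : IsPreprimitive G X :=
      (is_one_preprimitive_iff G X).mp (isMultiplyPreprimitive_of_le G X hG (by omega) hE)
    have hH : H ≠ ⊥ := fun e => ha (by
      rw [Subgroup.eq_bot_iff_forall]
      intro h _
      exact Subtype.ext (Subgroup.mem_bot.mp (e ▸ h.2)))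
    haveI : IsPretransitive H X := isPretransitive_of_normal_ne_bot H hH
    rcases Nat.eq_zero_or_pos k with rfl | hk
    · exact is_one_pretransitive_iff.mpr inferInstance
    haveI := faithfulSMul_ofStabilizer (G := G) a
    haveI hS : IsMultiplyPreprimitive (stabilizer G a) (SubMulAction.ofStabilizer G a) k :=
      haveI := hG; isMultiplyPreprimitive_ofStabilizer G X
    set Ha := H.subgroupOf (stabilizer G a) with hHa
    set Y := SubMulAction.ofStabilizer G a
    have hcY : Nat.card Y = Nat.card X - 1 := SubMulAction.nat_card_ofStabilizer_eq G a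
    have htransfer : IsMultiplyPretransitive Ha Y k → IsMultiplyPretransitive H X (k + 1) := by
      intro hT
      apply (SubMulAction.ofStabilizer.isMultiplyPretransitive (a := a)).mpr
      refine ⟨fun x y => ?_⟩
      let cv : SubMulAction.ofStabilizer H a ↪ Y := ⟨fun z => ⟨z.1, z.2⟩,
        fun z w e => Subtype.ext (congrArg (fun q : Y => (q : X)) e)⟩
      obtain ⟨g, hg⟩ := hT.exists_smul_eq (x.trans cv) (y.trans cv)
      refine ⟨⟨⟨(g : stabilizer G a).1, g.2⟩, (g : stabilizer G a).2⟩, ?_⟩
      ext i
      have := congrArg (fun e : Fin k ↪ Y => ((e i : Y) : X)) hg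
      exact this
    have hHane : Ha ≠ ⊥ := by
      intro e
      apply ha
      rw [Subgroup.eq_bot_iff_forall]
      intro h hh
      have : (⟨(h : G), hh⟩ : stabilizer G a) ∈ Ha := h.2
      rw [e, Subgroup.mem_bot] at this
      exact Subtype.ext (congrArg (fun q : stabilizer G a => (q : G)) this)
    by_cases hnr' : ∃ y : Y, stabilizer Ha y ≠ ⊥
    · refine htransfer (ih hk (by omega) hS ?_ Ha hnr')
      rcases hcond with h | h
      · left
        intro e
        apply h
        rw [card_eq_mul_card_stabilizer a, e, hcY]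
        exact Nat.mul_factorial_pred (by omega)
      · right; omega
    push Not at hnr'
    have hkY : (k : ENat) ≤ ENat.card Y := by
      rw [ENat.card_eq_coe_natCard]; exact_mod_cast (show k ≤ Nat.card Y by omega)
    haveI : IsPreprimitive (stabilizer G a) Y :=
      (is_one_preprimitive_iff _ _).mp (isMultiplyPreprimitive_of_le _ _ hS hk hkY)
    haveI hHat : IsPretransitive Ha Y := isPretransitive_of_normal_ne_bot Ha hHane
    rcases Nat.lt_or_ge k 2 with hk2 | hk2
    · obtain rfl : k = 1 := by omega
      exact htransfer (is_one_pretransitive_iff.mpr hHat)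
    exfalso
    haveI h2X : IsMultiplyPretransitive H X 2 := by
      apply (SubMulAction.ofStabilizer.isMultiplyPretransitive (a := a)).mpr
      rw [is_one_pretransitive_iff]
      refine ⟨fun x y => ?_⟩
      obtain ⟨g, hg⟩ := hHat.exists_smul_eq ⟨x.1, x.2⟩ ⟨y.1, y.2⟩
      exact ⟨⟨⟨(g : stabilizer G a).1, g.2⟩, (g : stabilizer G a).2⟩,
        Subtype.ext (congrArg (fun q : Y => (q : X)) hg)⟩
    rcases Nat.lt_or_ge k 3 with hk3 | hk3
    · -- `k = 2`: `H` is sharply 2-transitive, its translations are normal in `G`
      obtain rfl : k = 2 := by omega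
      have hsharp : ∀ x : Fin 2 ↪ X, stabilizer H x = ⊥ := by
        intro x
        rw [Subgroup.eq_bot_iff_forall]
        intro h hh
        obtain ⟨g, hg⟩ := exists_smul_eq G (x 0) a
        have h0 : (h : G) • x 0 = x 0 := congrArg (fun e : Fin 2 ↪ X => e 0) hh
        have h1 : (h : G) • x 1 = x 1 := congrArg (fun e : Fin 2 ↪ X => e 1) hh
        have hm : g * h * g⁻¹ ∈ H := Subgroup.Normal.conj_mem inferInstance _ h.2 g
        have hs : g * h * g⁻¹ ∈ stabilizer G a := by
          rw [mem_stabilizer_iff, ← hg, mul_smul, mul_smul, inv_smul_smul, h0]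
        have hy : g • x 1 ≠ a := fun e => x.injective.ne (by decide : (1 : Fin 2) ≠ 0)
          (MulAction.injective g (e.trans hg.symm))
        have hb := hnr' ⟨g • x 1, hy⟩
        have : (⟨⟨_, hs⟩, hm⟩ : Ha) = 1 := by
          rw [← Subgroup.mem_bot, ← hb, mem_stabilizer_iff]
          apply Subtype.ext
          show (g * h * g⁻¹) • (g • x 1) = g • x 1
          rw [mul_smul, mul_smul, inv_smul_smul, h1]
        have e2 : g * h * g⁻¹ = 1 := congrArg (fun q : Ha => ((q : stabilizer G a) : G)) this
        exact Subtype.ext (by simpa using e2)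
      obtain ⟨p, j, N, -, -, -, hN, -, -, hNt, hNr, hNmem⟩ :=
        SharplyTwo.exists_translations (G := H) hsharp (by omega)
      let NG : Subgroup G := N.map H.subtype
      haveI : NG.Normal := ⟨fun n hn g => by
        obtain ⟨m, hm, rfl⟩ := Subgroup.mem_map.mp hn
        refine Subgroup.mem_map.mpr
          ⟨⟨g * m * g⁻¹, Subgroup.Normal.conj_mem inferInstance _ m.2 g⟩, (hNmem _).mpr ?_, rfl⟩
        rcases (hNmem m).mp hm with rfl | hm'
        · left; exact Subtype.ext (by simp)
        · right
          intro y hy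
          apply hm' (g⁻¹ • y)
          show (m : G) • g⁻¹ • y = g⁻¹ • y
          have hy' : (g * m * g⁻¹) • y = y := hy
          rw [mul_smul, mul_smul] at hy'
          rw [eq_inv_smul_iff, hy']⟩
      haveI : IsPretransitive NG X := ⟨fun x y => by
        obtain ⟨n, hn⟩ := hNt.exists_smul_eq x y
        exact ⟨⟨((n : H) : G), Subgroup.mem_map.mpr ⟨n, n.2, rfl⟩⟩, hn⟩⟩
      have hreg : ∀ x : X, stabilizer NG x = ⊥ := fun x => stabilizer_subgroup_eq_bot_iff.mpr
        fun n hn e => by
          obtain ⟨m, hm, rfl⟩ := Subgroup.mem_map.mp hn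
          have := stabilizer_subgroup_eq_bot_iff.mp (hNr x) m hm e
          rw [this, map_one]
      have h34 := card_eq_three_or_four_of_regular NG hkn hG hreg
      have hfull := card_eq_factorial hG.isMultiplyPretransitive hkn (by omega)
      rcases hcond with h | h
      · exact h hfull
      · omega
    · -- `k ≥ 3`
      have hS3 : IsMultiplyPreprimitive (stabilizer G a) Y 3 :=
        isMultiplyPreprimitive_of_le _ _ hS hk3 hkY
      have h34 := card_eq_three_or_four_of_regular Ha (by omega) hS3 hnr'
      have hfull := card_eq_factorial hG.isMultiplyPretransitive hkn (by omega)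
      rcases hcond with h | h
      · exact h hfull
      · omega

/-- Jordan: normal subgroups of `k`-transitive groups. -/
theorem jordan_normal {G : Type u} [Group G] {X : Type v} [MulAction G X] [Finite X]
    [FaithfulSMul G X] {k : ℕ} (hk : 1 < k) (hdeg : k < Nat.card X)
    (hG : IsMultiplyPretransitive G X k) (N : Subgroup G) [N.Normal] (hN : N ≠ ⊥) :
    IsMultiplyPretransitive N X (k - 1) ∨
      (k = 3 ∧ IsMulCommutative N ∧ ∀ n ∈ N, n ^ 2 = 1) := by
  obtain ⟨j, rfl⟩ : ∃ j, k = j + 1 := ⟨k - 1, by omega⟩
  rw [Nat.add_sub_cancel]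
  have hE : ((j + 1 : ℕ) : ENat) ≤ ENat.card X := by
    rw [ENat.card_eq_coe_natCard]; exact_mod_cast hdeg.le
  haveI := hG
  have hP : IsMultiplyPreprimitive G X j :=
    isMultiplyPreprimitive_of_isMultiplyPretransitive_succ G X hE
  by_cases hnr : ∃ a : X, stabilizer N a ≠ ⊥
  · exact Or.inl (multiplyPretransitive_of_normal j (by omega) (by omega) hP (Or.inr (by omega)) N hnr)
  push Not at hnr
  have hEj : (j : ENat) ≤ ENat.card X := by
    rw [ENat.card_eq_coe_natCard]; exact_mod_cast (show j ≤ Nat.card X by omega)
  haveI : IsPreprimitive G X :=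
    (is_one_preprimitive_iff G X).mp (isMultiplyPreprimitive_of_le G X hP (by omega) hEj)
  haveI : IsPretransitive N X := isPretransitive_of_normal_ne_bot N hN
  rcases Nat.lt_or_ge j 2 with h2 | h2
  · obtain rfl : j = 1 := by omega
    exact Or.inl (is_one_pretransitive_iff.mpr inferInstance)
  haveI : Nonempty X := (Nat.card_pos_iff.mp (by omega)).1
  rcases Nat.lt_or_ge j 3 with h3 | h3
  · obtain rfl : j = 2 := by omega
    haveI := hP
    rcases card_eq_three_or_sq_eq_one N hnr with h | h
    · omega
    · exact Or.inr ⟨rfl, isMulCommutative_of_sq_eq_one h, h⟩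
  · exfalso
    have hP3 := isMultiplyPreprimitive_of_le G X hP h3 hEj
    have := card_eq_three_or_four_of_regular N (by omega) hP3 hnr
    omega

end Cfsg.Agent.Perm
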