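import Cfsg.Agent.Lib.Perm.MinimalNormal
import Cfsg.Agent.Lib.Perm.NormalSubgroup
import Cfsg.Agent.Lib.Frobenius.Kernel

/-!
Burnside's theorem on minimal normal subgroups of 2-transitive groups.
-/

set_option autoImplicit false

namespace Cfsg.Agent.Perm

open MulAction
open scoped Pointwise

variable {G : Type*} [Group G] {X : Type*} [MulAction G X]

/-- A group in which all non-identity elements have the same order has prime exponent. -/
theorem exists_prime_of_orderOf_eq {H : Type*} [Group H] [Finite H] [Nontrivial H]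
    (h : ∀ a b : H, a ≠ 1 → b ≠ 1 → orderOf a = orderOf b) :
    ∃ p : ℕ, p.Prime ∧ ∀ a : H, a ^ p = 1 := by
  obtain ⟨p, hp, hd⟩ := Nat.exists_prime_and_dvd (Finite.one_lt_card (α := H)).ne'
  haveI : Fact p.Prime := ⟨hp⟩
  obtain ⟨a, ha⟩ := exists_prime_orderOf_dvd_card' p hd
  refine ⟨p, hp, fun b => ?_⟩
  rcases eq_or_ne b 1 with rfl | hb
  · exact one_pow p
  · have ha1 : a ≠ 1 := fun e => by rw [e, orderOf_one] at ha; exact hp.ne_one ha.symm
    rw [← ha, h a b ha1 hb]
    exact pow_orderOf_eq_one b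

/-- A normal, minimal normal, finite, non-trivial subgroup in which all non-identity elements
have the same order is abelian. -/
theorem isMulCommutative_of_orderOf_eq (N : Subgroup G) [N.Normal] [Finite N] (hN : N ≠ ⊥)
    (hmin : ∀ L : Subgroup G, L.Normal → L ≤ N → L = ⊥ ∨ L = N)
    (h : ∀ a b : N, a ≠ 1 → b ≠ 1 → orderOf a = orderOf b) : IsMulCommutative N := by
  haveI : Nontrivial N := (Subgroup.nontrivial_iff_ne_bot N).mpr hN
  obtain ⟨p, hp, hpow⟩ := exists_prime_of_orderOf_eq h
  haveI : Fact p.Prime := ⟨hp⟩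
  have hNp : IsPGroup p N := fun x => ⟨1, by simpa using hpow x⟩
  let Z : Subgroup G := (Subgroup.center N).map N.subtype
  haveI : Z.Normal := inferInstanceAs ((Subgroup.center N).map N.subtype).Normal
  rcases hmin Z inferInstance (Subgroup.map_subtype_le _) with e | e
  · exfalso
    have := hNp.bot_lt_center
    rw [(Subgroup.map_eq_bot_iff_of_injective _ N.subtype_injective).mp e] at this
    exact lt_irrefl _ this
  · refine ⟨⟨fun a b => ?_⟩⟩
    have ha : (a : G) ∈ Z := e.symm ▸ a.2
    obtain ⟨z, hz, hza⟩ := Subgroup.mem_map.mp ha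
    have : z = a := Subtype.ext hza
    exact (Subgroup.mem_center_iff.mp (this ▸ hz) b).symm

variable [Finite X] [FaithfulSMul G X]

/-- A transitive normal subgroup of a 2-transitive group, not primitive, has no non-identity
element fixing two points. -/
theorem two_fixed_eq_one_of_imprimitive [IsMultiplyPretransitive G X 2] (N : Subgroup G) [N.Normal]
    [IsPretransitive N X] (himp : ¬ IsPreprimitive N X) :
    ∀ n ∈ N, ∀ a b : X, a ≠ b → n • a = a → n • b = b → n = 1 := by
  classical
  have h2 : ∀ {a b c d : X}, a ≠ b → c ≠ d → ∃ g : G, g • a = c ∧ g • b = d :=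
    fun {a b c d} => is_two_pretransitive_iff.mp inferInstance
  let Λ : X → X → Set X := fun a b => {x | ∀ B : Set X, IsBlock N B → a ∈ B → b ∈ B → x ∈ B}
  have hblock : ∀ a b, IsBlock N (Λ a b) := by
    intro a b
    have : Λ a b = ⋂ B : {B : Set X // IsBlock N B ∧ a ∈ B ∧ b ∈ B}, (B : Set X) := by
      ext x
      simp only [Set.mem_iInter, Subtype.forall, and_imp]
      exact Iff.rfl
    rw [this]
    exact IsBlock.iInter fun B => B.2.1
  have hmem : ∀ a b, a ∈ Λ a b ∧ b ∈ Λ a b :=
    fun a b => ⟨fun B _ h _ => h, fun B _ _ h => h⟩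
  have hmin : ∀ a b c d, c ∈ Λ a b → d ∈ Λ a b → Λ c d ⊆ Λ a b :=
    fun a b c d hc hd x hx => hx _ (hblock a b) hc hd
  have htrans : ∀ (g : G) a b x, x ∈ Λ a b → g • x ∈ Λ (g • a) (g • b) := by
    intro g a b x hx B hB ha hb
    have hB' : IsBlock N (g⁻¹ • B) := by
      rw [isBlock_iff_smul_eq_or_disjoint]
      intro n
      let n' : N := ⟨g * n * g⁻¹, Subgroup.Normal.conj_mem inferInstance _ n.2 g⟩
      have e : n • g⁻¹ • B = g⁻¹ • (n' • B) := by
        show (n : G) • g⁻¹ • B = g⁻¹ • (g * (n : G) * g⁻¹) • B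
        rw [smul_smul, smul_smul]
        congr 1
        group
      rw [e]
      rcases isBlock_iff_smul_eq_or_disjoint.mp hB n' with h | h
      · exact Or.inl (by rw [h])
      · exact Or.inr (Set.disjoint_smul_set.mpr h)
    have := hx _ hB' (Set.mem_inv_smul_set_iff.mpr ha) (Set.mem_inv_smul_set_iff.mpr hb)
    exact Set.mem_inv_smul_set_iff.mp this
  have hcard : ∀ a b c d, a ≠ b → c ≠ d → (Λ a b).ncard = (Λ c d).ncard := by
    have key : ∀ (g : G) a b, Λ (g • a) (g • b) = g • Λ a b := by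
      intro g a b
      ext x
      rw [Set.mem_smul_set_iff_inv_smul_mem]
      constructor
      · intro hx
        have := htrans g⁻¹ _ _ x hx
        rwa [inv_smul_smul, inv_smul_smul] at this
      · intro hx
        have := htrans g _ _ _ hx
        rwa [smul_inv_smul] at this
    intro a b c d hab hcd
    obtain ⟨g, h1, h2⟩ := h2 hab hcd
    rw [← h1, ← h2, key, Set.ncard_smul_set]
  have hline : ∀ a b c d, a ≠ b → c ≠ d → c ∈ Λ a b → d ∈ Λ a b → Λ c d = Λ a b :=
    fun a b c d hab hcd hc hd =>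
      Set.eq_of_subset_of_ncard_le (hmin a b c d hc hd) (hcard a b c d hab hcd).le
  obtain ⟨B, hB, hBnt⟩ : ∃ B : Set X, IsBlock N B ∧ ¬ IsTrivialBlock B := by
    by_contra h
    push Not at h
    exact himp ⟨fun {B} hB => h B hB⟩
  rw [IsTrivialBlock, not_or, Set.not_subsingleton_iff] at hBnt
  obtain ⟨⟨a₀, ha₀, b₀, hb₀, hab₀⟩, hBu⟩ := hBnt
  have hproper : ∀ a b : X, a ≠ b → Λ a b ≠ Set.univ := by
    intro a b hab e
    apply hBu
    refine Set.eq_univ_of_univ_subset ?_
    intro x _
    have : Λ a₀ b₀ = Set.univ := (Set.eq_univ_iff_ncard _).mpr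
      (by rw [hcard a₀ b₀ a b hab₀ hab, e, Set.ncard_univ])
    have hx : x ∈ Λ a₀ b₀ := this ▸ Set.mem_univ x
    exact hx B hB ha₀ hb₀
  intro n hn a b hab ha hb
  have hfix : ∀ u v w : X, n • u = u → v ∈ Λ u w → n • v ∈ Λ u w := by
    intro u v w hu hv
    have h1 := (hblock u w).smul_eq_of_mem (g := ⟨n, hn⟩) (hmem u w).1
      (by show n • u ∈ Λ u w; rw [hu]; exact (hmem u w).1)
    rw [← h1]
    exact Set.smul_mem_smul_set (s := Λ u w) (a := (⟨n, hn⟩ : N)) hv
  have houtside : ∀ u v : X, u ≠ v → n • u = u → n • v = v →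
      ∀ c, c ∉ Λ u v → n • c = c := by
    intro u v huv hu hv c hc
    have huc : u ≠ c := fun e => hc (e ▸ (hmem u v).1)
    have hvc : v ≠ c := fun e => hc (e ▸ (hmem u v).2)
    by_contra hne
    have e1 : Λ c (n • c) = Λ u c :=
      hline u c c (n • c) huc (Ne.symm hne) (hmem u c).2 (hfix u c c hu (hmem u c).2)
    have e2 : Λ c (n • c) = Λ v c :=
      hline v c c (n • c) hvc (Ne.symm hne) (hmem v c).2 (hfix v c c hv (hmem v c).2)
    apply hc
    have hvm : v ∈ Λ u c := by rw [← e1, e2]; exact (hmem v c).1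
    rw [hline u c u v huc huv (hmem u c).1 hvm]
    exact (hmem u c).2
  refine FaithfulSMul.eq_of_smul_eq_smul (α := X) fun c => ?_
  rw [one_smul]
  by_cases hc : c ∈ Λ a b
  · rcases eq_or_ne c a with rfl | hca
    · exact ha
    obtain ⟨d, hd⟩ := (Set.ne_univ_iff_exists_notMem _).mp (hproper a b hab)
    have hda : a ≠ d := fun e => hd (e ▸ (hmem a b).1)
    refine houtside a d hda ha (houtside a b hab ha hb d hd) c fun hc' => hd ?_
    rw [← hline a b a c hab hca.symm (hmem a b).1 hc,
      hline a d a c hda hca.symm (hmem a d).1 hc']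
    exact (hmem a d).2
  · exact houtside a b hab ha hb c hc

/-- Burnside: a non-abelian minimal normal subgroup of a 2-transitive group is simple and
primitive. -/
theorem burnside_minimal_normal [IsMultiplyPretransitive G X 2] (N : Subgroup G) [N.Normal]
    (hN : N ≠ ⊥) (hmin : ∀ L : Subgroup G, L.Normal → L ≤ N → L = ⊥ ∨ L = N)
    (hnab : ¬ IsMulCommutative N) : IsSimpleGroup N ∧ IsPreprimitive N X := by
  classical
  have hinj : Function.Injective (MulAction.toPermHom G X) := MulAction.toPerm_injective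
  haveI : Finite G := Finite.of_injective _ hinj
  haveI : IsPreprimitive G X := isPreprimitive_of_is_two_pretransitive inferInstance
  haveI : IsPretransitive N X := isPretransitive_of_normal_ne_bot N hN
  obtain ⟨n₀, hn₀, a, ha⟩ := exists_moved_of_ne_bot (X := X) hN
  haveI : Nontrivial N := (Subgroup.nontrivial_iff_ne_bot N).mpr hN
  have hnr : ∀ x : X, stabilizer N x ≠ ⊥ := by
    intro x hx
    apply hnab
    refine isMulCommutative_of_orderOf_eq N hN hmin ?_
    intro u v hu hv
    have hux : (u : G) • x ≠ x := fun e =>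
      hu (Subtype.ext (stabilizer_subgroup_eq_bot_iff.mp hx u u.2 e))
    have hvx : (v : G) • x ≠ x := fun e =>
      hv (Subtype.ext (stabilizer_subgroup_eq_bot_iff.mp hx v v.2 e))
    obtain ⟨h, hh, e⟩ := exists_mem_stabilizer_smul_eq (G := G) hux hvx
    have : h * u * h⁻¹ = v := regular_unique hx (Subgroup.Normal.conj_mem inferInstance _ u.2 h) v.2
      (by rw [conj_smul_base hh, e])
    rw [← Subgroup.orderOf_coe u, ← Subgroup.orderOf_coe v, ← this, orderOf_conj]
  have hNprim : IsPreprimitive N X := by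
    by_contra himp
    have h2f := two_fixed_eq_one_of_imprimitive N himp
    set H := stabilizer N a with hH
    have hHF : Cfsg.IsFrobeniusComplement H := by
      refine ⟨hnr a, fun e => ?_, fun g hg => ?_⟩
      · have : (⟨n₀, hn₀⟩ : N) ∈ H := e ▸ Subgroup.mem_top _
        exact ha this
      · rw [Subgroup.eq_bot_iff_forall]
        intro k hk
        obtain ⟨hk1, hk2⟩ := Subgroup.mem_inf.mp hk
        rw [Cfsg.Agent.Frobenius.mem_conj_smul] at hk2
        have hk2' : ((g : G)⁻¹ * k * g) • a = a := hk2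
        rw [mul_smul, mul_smul, inv_smul_eq_iff] at hk2'
        exact Subtype.ext (h2f k k.2 a (g • a) (fun e => hg e.symm) hk1 hk2')
    obtain ⟨K, hK, -, hKc⟩ := Cfsg.Agent.Frobenius.exists_frobeniusKernel_subgroup hHF
    have hKmem : ∀ k : N, k ∈ K ↔ k = 1 ∨ ∀ x : X, (k : G) • x ≠ x := by
      intro k
      rw [← SetLike.mem_coe, hK]
      refine or_congr Iff.rfl ⟨fun h x hx => ?_, fun h g hg => ?_⟩
      · obtain ⟨g, rfl⟩ := exists_smul_eq N a x
        apply h g
        rw [Cfsg.Agent.Frobenius.mem_conj_smul]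
        show ((g : G)⁻¹ * k * g) • a = a
        rw [mul_smul, mul_smul, inv_smul_eq_iff]
        exact hx
      · rw [Cfsg.Agent.Frobenius.mem_conj_smul] at hg
        have hg' : ((g : G)⁻¹ * k * g) • a = a := hg
        rw [mul_smul, mul_smul, inv_smul_eq_iff] at hg'
        exact h _ hg'
    let KG : Subgroup G := K.map N.subtype
    have hKGn : KG.Normal := ⟨fun k hk g => by
      obtain ⟨m, hm, rfl⟩ := Subgroup.mem_map.mp hk
      refine Subgroup.mem_map.mpr
        ⟨⟨g * m * g⁻¹, Subgroup.Normal.conj_mem inferInstance _ m.2 g⟩, (hKmem _).mpr ?_, rfl⟩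
      rcases (hKmem m).mp hm with rfl | hm'
      · left; exact Subtype.ext (by simp)
      · right
        intro x hx
        apply hm' (g⁻¹ • x)
        have hx' : (g * m * g⁻¹) • x = x := hx
        rw [mul_smul, mul_smul] at hx'
        rw [eq_inv_smul_iff]
        exact hx'⟩
    rcases hmin KG hKGn (Subgroup.map_subtype_le _) with e | e
    · rw [Subgroup.map_eq_bot_iff_of_injective _ N.subtype_injective] at e
      rw [e] at hKc
      exact hHF.2.1 (Subgroup.isComplement'_bot_left.mp hKc)
    · obtain ⟨h, hh, hh1⟩ : ∃ h ∈ H, h ≠ 1 := Cfsg.Agent.Frobenius.exists_ne_one_mem hHF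
      have : (h : G) ∈ KG := e.symm ▸ h.2
      obtain ⟨k, hk, hke⟩ := Subgroup.mem_map.mp this
      obtain rfl : k = h := Subtype.ext hke
      exact ((hKmem k).mp hk).elim hh1 (fun h => h a hh)
  refine ⟨?_, hNprim⟩
  haveI : FaithfulSMul N X :=
    ⟨fun {u v} e => Subtype.ext (FaithfulSMul.eq_of_smul_eq_smul (α := X) fun x => e x)⟩
  haveI := hNprim
  -- a minimal normal subgroup of `N`
  obtain ⟨T, ⟨hTn, hT⟩, hTmin⟩ := (Set.toFinite {T : Subgroup N | T.Normal ∧ T ≠ ⊥}).exists_minimal
    ⟨⊤, inferInstance, top_ne_bot⟩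
  have hTmin' : ∀ L : Subgroup N, L.Normal → L ≤ T → L = ⊥ ∨ L = T := fun L hL hle =>
    or_iff_not_imp_left.mpr fun hL0 => le_antisymm hle (hTmin ⟨hL, hL0⟩ hle)
  let Tc : G → Subgroup N := fun g => T.comap (MulAut.conjNormal g).toMonoidHom
  by_cases hall : ∀ g : G, Tc g = T
  · -- `T` is normal in `G`
    have hTG : (T.map N.subtype).Normal := ⟨fun k hk g => by
      obtain ⟨t, ht, rfl⟩ := Subgroup.mem_map.mp hk
      refine Subgroup.mem_map.mpr ⟨MulAut.conjNormal g t, ?_, by simp⟩
      have := (hall g).symm ▸ ht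
      exact this⟩
    rcases hmin _ hTG (Subgroup.map_subtype_le _) with e | e
    · exact absurd ((Subgroup.map_eq_bot_iff_of_injective _ N.subtype_injective).mp e) hT
    · have hTtop : T = ⊤ := by
        rw [eq_top_iff]
        intro n _
        have : (n : G) ∈ T.map N.subtype := e.symm ▸ n.2
        obtain ⟨t, ht, hte⟩ := Subgroup.mem_map.mp this
        exact (Subtype.ext hte : t = n) ▸ ht
      exact ⟨fun L hL => hTtop ▸ hTmin' L hL (hTtop ▸ le_top)⟩
  exfalso
  push Not at hall
  obtain ⟨g₀, hg₀⟩ := hall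
  haveI := hTn
  have hTcn : ∀ g, (Tc g).Normal := fun g => Subgroup.Normal.comap hTn _
  have hTcard : ∀ g, Nat.card (Tc g) = Nat.card T := fun g => by
    exact Nat.card_congr ((MulAut.conjNormal g).toEquiv.subtypeEquiv fun x => Iff.rfl)
  have hTc0 : ∀ g, Tc g ≠ ⊥ := fun g e => hT <| Subgroup.card_eq_one.mp <| by
    rw [← hTcard g, e, Subgroup.card_bot]
  set T' := Tc g₀ with hT'
  haveI : T'.Normal := hTcn g₀
  have hdisj : ∀ S : Subgroup N, S.Normal → Nat.card S = Nat.card T → S ≠ T → T ⊓ S = ⊥ := by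
    intro S hS hc hne
    haveI := hS
    rcases hTmin' (T ⊓ S) inferInstance inf_le_left with e | e
    · exact e
    · exact absurd (Subgroup.eq_of_le_of_card_ge (inf_eq_left.mp e) hc.le).symm hne
  have hd' := hdisj T' inferInstance (hTcard g₀) hg₀
  have hc := commute_of_normal_disjoint hd'
  haveI hTt : IsPretransitive T X := isPretransitive_of_normal_ne_bot T hT
  haveI hT't : IsPretransitive T' X := isPretransitive_of_normal_ne_bot T' (hTc0 g₀)
  have hTr : ∀ x : X, stabilizer T x = ⊥ := fun x =>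
    stabilizer_eq_bot_of_commute (M := T') (fun m hm n hn => hc n hn m hm) x
  -- a normal subgroup centralising `T` lies in `T'`
  have hle : ∀ S : Subgroup N, (∀ t ∈ T, ∀ s ∈ S, t * s = s * t) → S ≤ T' := by
    intro S hS s hs
    obtain ⟨t', ht', e⟩ := subgroup_exists_smul_eq (N := T') a (s • a)
    have : t'⁻¹ * s = 1 := eq_one_of_commute (M := T) (fun t ht => by
      rw [mul_assoc, ← hS t ht s hs, ← mul_assoc]
      have h1 : Commute t t' := hc t ht t' ht'
      rw [← h1.inv_right.eq, mul_assoc]) (x := a) (by rw [mul_smul, inv_smul_eq_iff]; exact e.symm)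
    rw [inv_mul_eq_one] at this
    exact this ▸ ht'
  -- the orders of elements of `T` are all equal
  have hord : ∀ t ∈ T, ∀ t' ∈ T', t • a = t' • a → orderOf t = orderOf t' := by
    intro t ht t' ht' e
    have hpow : ∀ i : ℕ, t ^ i • a = t' ^ i • a := by
      intro i
      induction i with
      | zero => simp
      | succ i ih =>
        rw [pow_succ, mul_smul, e, ← mul_smul, (hc _ (pow_mem ht i) t' ht' : _), mul_smul, ih,
          ← mul_smul, ← pow_succ']
    have hT'r : stabilizer T' a = ⊥ := stabilizer_eq_bot_of_commute (M := T) (fun m hm n hn => (hc m hm n hn).symm) a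
    apply Nat.dvd_antisymm <;> apply orderOf_dvd_of_pow_eq_one
    · refine regular_unique (hTr a) (pow_mem ht _) (one_mem _) ?_
      rw [hpow, pow_orderOf_eq_one]
    · refine regular_unique hT'r (pow_mem ht' _) (one_mem _) ?_
      rw [← hpow, pow_orderOf_eq_one]
  have hall' : ∀ u v : T, u ≠ 1 → v ≠ 1 → orderOf u = orderOf v := by
    intro u v hu hv
    have hmove : ∀ w : T, w ≠ 1 → (w : N) • a ≠ a := fun w hw e =>
      hw (Subtype.ext (stabilizer_subgroup_eq_bot_iff.mp (hTr a) w w.2 e))
    obtain ⟨h, hh, e⟩ := exists_mem_stabilizer_smul_eq (G := G)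
      (x := a) (y := ((u : N) : G) • a) (z := ((v : N) : G) • a) (hmove u hu) (hmove v hv)
    let w : N := MulAut.conjNormal h (u : N)
    have hw : w • a = (v : N) • a := by
      show ((w : N) : G) • a = _
      rw [MulAut.conjNormal_apply, conj_smul_base hh, e]
      rfl
    have hwo : orderOf w = orderOf (u : N) := MulEquiv.orderOf_eq _ _
    rw [← Subgroup.orderOf_coe u, ← Subgroup.orderOf_coe v, ← hwo]
    have hwS : w ∈ Tc h⁻¹ := by
      show MulAut.conjNormal h⁻¹ (MulAut.conjNormal h (u : N)) ∈ T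
      rw [← MulAut.mul_apply, ← map_mul, inv_mul_cancel, map_one]
      exact u.2
    by_cases hS : Tc h⁻¹ = T
    · rw [regular_unique (hTr a) (hS ▸ hwS) v.2 hw]
    · have hsub : Tc h⁻¹ ≤ T' := hle _ (commute_of_normal_disjoint (M := T) (N := Tc h⁻¹)
        (hdisj _ (hTcn _) (hTcard _) hS))
      exact (hord v v.2 w (hsub hwS) hw.symm).symm
  have hab := isMulCommutative_of_orderOf_eq T hT hTmin' hall'
  apply hg₀
  exact (Subgroup.eq_of_le_of_card_ge (hle T fun t ht s hs =>
    congrArg Subtype.val (hab.is_comm.comm (⟨t, ht⟩ : T) ⟨s, hs⟩)) (hTcard g₀).le).symm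

end Cfsg.Agent.Perm
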