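import Cfsg.Agent.Lib.Perm.Basic

/-!
The centraliser in the symmetric group of a transitive permutation group.
-/

set_option autoImplicit false

namespace Cfsg.Agent.Perm

open MulAction

section Abstract

variable {G : Type*} [Group G] {α : Type*} [MulAction G α] [IsPretransitive G α]

/-- If two points have the same stabiliser there is a permutation commuting with the action
that moves one to the other. -/
theorem exists_commuting_perm_of_stabilizer_eq {a b : α}
    (h : stabilizer G a = stabilizer G b) :
    ∃ c : Equiv.Perm α, (∀ (g : G) (z : α), g • c z = c (g • z)) ∧ c a = b := by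
  choose t ht using fun z : α => exists_smul_eq G a z
  choose u hu using fun z : α => exists_smul_eq G b z
  have key : ∀ g₁ g₂ : G, g₁ • a = g₂ • a ↔ g₁ • b = g₂ • b := by
    intro g₁ g₂
    have hc : ∀ x : α, g₁ • x = g₂ • x ↔ g₂⁻¹ * g₁ ∈ stabilizer G x := fun x => by
      rw [mem_stabilizer_iff, mul_smul, inv_smul_eq_iff]
    rw [hc, hc, h]
  let c : Equiv.Perm α :=
    { toFun := fun z => t z • b
      invFun := fun z => u z • a
      left_inv := fun z => by
        show u (t z • b) • a = z
        rw [(key (u (t z • b)) (t z)).mpr (hu _), ht]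
      right_inv := fun z => by
        show t (u z • a) • b = z
        rw [(key (t (u z • a)) (u z)).mp (ht _), hu] }
  refine ⟨c, fun g z => ?_, ?_⟩
  · show g • (t z • b) = t (g • z) • b
    rw [← mul_smul]
    exact (key _ _).mp (by rw [mul_smul, ht, ht])
  · show t a • b = b
    rw [(key (t a) 1).mp (by rw [ht, one_smul]), one_smul]

end Abstract

variable {α : Type*} {G : Subgroup (Equiv.Perm α)} [IsPretransitive G α]

theorem smul_comm_of_mem_centralizer {c : Equiv.Perm α}
    (hc : c ∈ Subgroup.centralizer (G : Set (Equiv.Perm α))) (g : G) (z : α) :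
    g • c z = c (g • z) :=
  congrArg (fun q : Equiv.Perm α => q z) (Subgroup.mem_centralizer_iff.mp hc g g.2)

theorem mem_centralizer_of_smul_comm {c : Equiv.Perm α}
    (hc : ∀ (g : G) (z : α), g • c z = c (g • z)) :
    c ∈ Subgroup.centralizer (G : Set (Equiv.Perm α)) := by
  rw [Subgroup.mem_centralizer_iff]
  intro g hg
  ext z
  exact hc ⟨g, hg⟩ z

theorem exists_commuting_perm {a : α} (h : stabilizer G a = ⊥) (b : α) :
    ∃ c : Equiv.Perm α, (∀ g : G, (g : Equiv.Perm α) * c = c * g) ∧ c a = b := by
  obtain ⟨g, hg⟩ := exists_smul_eq G a b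
  have hb : stabilizer G b = ⊥ := by
    rw [← hg, stabilizer_smul_eq_stabilizer_map_conj, h, Subgroup.map_bot]
  obtain ⟨c, hc, e⟩ := exists_commuting_perm_of_stabilizer_eq (h.trans hb.symm)
  exact ⟨c, fun g => Subgroup.mem_centralizer_iff.mp (mem_centralizer_of_smul_comm hc) g g.2, e⟩

theorem stabilizer_apply_eq {c : Equiv.Perm α}
    (hc : c ∈ Subgroup.centralizer (G : Set (Equiv.Perm α))) (a : α) :
    stabilizer G (c a) = stabilizer G a := by
  ext g
  rw [mem_stabilizer_iff, mem_stabilizer_iff, smul_comm_of_mem_centralizer hc]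
  exact c.injective.eq_iff

theorem mem_normalizer_stabilizer_iff (a : α) (g : G) :
    g ∈ Subgroup.normalizer ((stabilizer G a : Subgroup G) : Set G) ↔
      stabilizer G (g⁻¹ • a) = stabilizer G a := by
  have hk : ∀ k : G, k ∈ stabilizer G (g⁻¹ • a) ↔ g * k * g⁻¹ ∈ stabilizer G a := fun k => by
    rw [mem_stabilizer_iff, mem_stabilizer_iff, mul_smul, mul_smul, ← eq_inv_smul_iff (g := g)]
  rw [Subgroup.mem_normalizer_iff, SetLike.ext_iff]
  exact forall_congr' fun k => by rw [hk k]; exact iff_comm

end Cfsg.Agent.Perm
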