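import Cfsg.Agent.Lib.Perm.DegreeElevenOrders
import Cfsg.Agent.Lib.Perm.ThreeTransitive
import Mathlib.Data.Fintype.CardEmbedding
import Mathlib.GroupTheory.GroupAction.Embedding

/-!
# Groups of order 7920 on 11 points are sharply 4-transitive
-/

set_option autoImplicit false
set_option linter.style.haveILetI false

namespace Cfsg.Agent.Perm.DegreeEleven

open MulAction Equiv

variable {α : Type*} [Fintype α] [DecidableEq α] {H : Subgroup (Perm α)}

omit [Fintype α] [DecidableEq α] in
theorem mem_stabilizer_embedding {k : ℕ} (x : Fin k ↪ α) (h : H) :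
    h ∈ stabilizer H x ↔ ∀ i, h • x i = x i := by
  rw [mem_stabilizer_iff]
  constructor
  · intro e i
    exact congrArg (fun y : Fin k ↪ α => y i) e
  · intro e
    exact Function.Embedding.ext e

omit [DecidableEq α] in
theorem card_eq_descFactorial_mul {k : ℕ} (hk : IsMultiplyPretransitive H α k)
    (x : Fin k ↪ α) :
    Nat.card H = (Fintype.card α).descFactorial k * Nat.card (stabilizer H x) := by
  classical
  have h := @card_eq_mul_card_stabilizer H _ (Fin k ↪ α) _ hk x
  rw [h, Nat.card_eq_fintype_card (α := Fin k ↪ α),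
    Fintype.card_embedding_eq, Fintype.card_fin]

variable (hα : Fintype.card α = 11)
include hα

theorem three_transitive_of_card (hprim : IsPreprimitive H α) (hA : ¬ alternatingGroup α ≤ H)
    (h2 : IsMultiplyPretransitive H α 2) (hcard : Nat.card H = 7920) :
    IsMultiplyPretransitive H α 3 := by
  classical
  haveI := h2
  refine three_transitive_of_stabilizer fun a b c d hab hca hcb hda hdb => ?_
  let e2 : Fin 2 ↪ α := ⟨![a, b], by
    intro i j h
    fin_cases i <;> fin_cases j <;> simp_all [eq_comm]⟩
  set K := stabilizer H e2 with hKdef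
  have hK : ∀ k : H, k ∈ K ↔ k • a = a ∧ k • b = b := fun k => by
    rw [hKdef, mem_stabilizer_embedding]
    exact ⟨fun h => ⟨h 0, h 1⟩, fun h i => by fin_cases i; exacts [h.1, h.2]⟩
  have hK72 : Nat.card K = 72 := by
    have h := card_eq_descFactorial_mul h2 e2
    rw [hcard, hα] at h
    rw [show (11 : ℕ).descFactorial 2 = 110 from rfl, ← hKdef] at h
    omega
  have hKne : ∀ (k : K) (z : α), z ≠ a → z ≠ b → (k : H) • z ≠ a ∧ (k : H) • z ≠ b := by
    intro k z hza hzb
    exact ⟨fun h => hza (smul_left_cancel (k : H) (h.trans ((hK _).1 k.2).1.symm)),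
      fun h => hzb (smul_left_cancel (k : H) (h.trans ((hK _).1 k.2).2.symm))⟩
  have horb : ∀ z, z ≠ a → z ≠ b → ∀ y ∈ orbit K z, y ≠ a ∧ y ≠ b := by
    rintro z hza hzb y ⟨k, rfl⟩
    exact hKne k z hza hzb
  have hsupp : ∀ u : H, u ≠ 1 → 4 ≤ (u : Perm α).support.card := fun u hu =>
    four_le_support hprim hA u.2 (fun h => hu (Subtype.ext h))
  -- a subgroup of order 9 without fixed points outside `a`, `b`
  haveI : Fact (Nat.Prime 3) := ⟨Nat.prime_three⟩
  obtain ⟨R, hR⟩ := Sylow.exists_subgroup_card_pow_prime 3 (n := 2) (G := K)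
    (by rw [hK72]; norm_num)
  have hR3 : IsPGroup 3 R := IsPGroup.of_card hR
  have hsmall : ∀ (r : R), r ≠ 1 → ∀ s : Finset α, (∀ y ∈ s, ((r : K) : H) • y = y) →
      s.card ≤ 7 := by
    intro r hr s hs
    have h4 := hsupp ((r : K) : H) (fun h => hr (Subtype.ext (Subtype.ext h)))
    have hsub : s ⊆ (((r : K) : H) : Perm α).supportᶜ := fun y hy => by
      rw [Finset.mem_compl, Perm.notMem_support]; exact hs y hy
    have := Finset.card_le_card hsub
    rw [Finset.card_compl, hα] at this
    omega
  have hnofix : ∀ z, z ≠ a → z ≠ b → ∃ r : R, r • z ≠ z := by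
    intro z hza hzb
    by_contra hz
    push Not at hz
    haveI : Fintype (fixedPoints R α) := Fintype.ofFinite _
    set F := (fixedPoints R α).toFinset with hF
    have hmemF : ∀ y, y ∈ F ↔ ∀ r : R, r • y = y := fun y => by
      rw [hF, Set.mem_toFinset]; rfl
    have hmod := hR3.card_modEq_card_fixedPoints α
    rw [Nat.card_eq_fintype_card, hα, Nat.card_eq_fintype_card, ← Set.toFinset_card, ← hF] at hmod
    have h3 : ({a, b, z} : Finset α).card = 3 := by
      rw [Finset.card_eq_three]; exact ⟨a, b, z, hab, hza.symm, hzb.symm, rfl⟩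
    have hge : 3 ≤ F.card := by
      rw [← h3]
      apply Finset.card_le_card
      intro y hy
      rw [hmemF]
      intro r
      simp only [Finset.mem_insert, Finset.mem_singleton] at hy
      rcases hy with rfl | rfl | rfl
      · exact ((hK _).1 (r : K).2).1
      · exact ((hK _).1 (r : K).2).2
      · exact hz r
    have hFle : F.card ≤ 11 := hα ▸ F.card_le_univ
    haveI : Nontrivial R := Finite.one_lt_card_iff_nontrivial.1 (by rw [hR]; norm_num)
    obtain ⟨r₀, hr₀⟩ := exists_ne (1 : R)
    have hF7 := hsmall r₀ hr₀ F fun y hy => (hmemF y).1 hy r₀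
    obtain ⟨y, hy⟩ : ∃ y, y ∉ F := by
      by_contra hall
      push Not at hall
      have := hsmall r₀ hr₀ Finset.univ fun y _ => (hmemF y).1 (hall y) r₀
      rw [Finset.card_univ, hα] at this
      omega
    obtain ⟨j, hj⟩ := hR3.card_orbit y
    set Y := (orbit R y).toFinset with hY
    have hYc : Y.card = 3 ^ j := by rw [hY, Set.toFinset_card, ← Nat.card_eq_fintype_card, hj]
    have hdisj : Disjoint F Y := by
      rw [Finset.disjoint_left]
      intro w hwF hwY
      rw [hY, Set.mem_toFinset] at hwY
      obtain ⟨r, rfl⟩ := hwY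
      apply hy
      rw [hmemF] at hwF
      have h5 := hwF r⁻¹
      rw [inv_smul_smul] at h5
      rw [hmemF]
      intro r'
      rw [h5]
      exact hwF r'
    have hle : F.card + Y.card ≤ 11 := by
      rw [← Finset.card_union_of_disjoint hdisj, ← hα]
      exact Finset.card_le_univ _
    have hj1 : j = 1 := by
      rcases j with _ | _ | j
      · exfalso
        apply hy
        rw [hmemF]
        intro r
        have hc : Nat.card (orbit R y) = 1 := by rw [hj, pow_zero]
        haveI : Subsingleton (orbit R y) := Finite.card_le_one_iff_subsingleton.1 hc.le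
        exact congrArg Subtype.val (Subsingleton.elim (⟨r • y, mem_orbit y r⟩ : orbit R y)
          ⟨y, mem_orbit_self y⟩)
      · rfl
      · exfalso
        have : 3 ^ 2 ≤ 3 ^ (j + 1 + 1) := Nat.pow_le_pow_right (by norm_num) (by omega)
        rw [Nat.ModEq] at hmod
        omega
    let f := MulAction.toPermHom R (orbit R y)
    have hker : f.ker ≠ ⊥ := by
      intro hb
      have h1 := Subgroup.card_dvd_of_injective f ((MonoidHom.ker_eq_bot_iff f).1 hb)
      rw [hR, Nat.card_perm, hj, hj1] at h1
      norm_num [Nat.factorial] at h1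
    obtain ⟨⟨g, hg⟩, hg1⟩ := Subgroup.ne_bot_iff_exists_ne_one.1 hker
    have := hsmall g (fun h => hg1 (Subtype.ext h)) (F ∪ Y) fun w hw => by
      rcases Finset.mem_union.1 hw with hw | hw
      · exact (hmemF w).1 hw g
      · rw [hY, Set.mem_toFinset] at hw
        exact congrArg Subtype.val (Equiv.Perm.ext_iff.1 hg ⟨w, hw⟩)
    rw [Finset.card_union_of_disjoint hdisj, hYc, hj1, pow_one] at this
    rw [Nat.ModEq] at hmod
    omega
  have horb3 : ∀ z, z ≠ a → z ≠ b → 3 ∣ Nat.card (orbit K z) := by
    intro z hza hzb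
    let X : SubMulAction R α :=
      { carrier := orbit K z
        smul_mem' := fun r y hy => by
          obtain ⟨k, rfl⟩ := hy
          exact ⟨(r : K) * k, mul_smul (r : K) k z⟩ }
    have h := hR3.card_modEq_card_fixedPoints X
    have h0 : Nat.card (fixedPoints R X) = 0 := by
      rw [Nat.card_eq_zero]
      refine Or.inl ⟨fun ⟨y, hy⟩ => ?_⟩
      obtain ⟨r, hr⟩ := hnofix y (horb z hza hzb y y.2).1 (horb z hza hzb y y.2).2
      exact hr (congrArg Subtype.val (hy r))
    rw [h0] at h
    exact Nat.modEq_zero_iff_dvd.1 h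
  set T : Finset α := ({a, b} : Finset α)ᶜ with hT
  have hmemT : ∀ z, z ∈ T ↔ z ≠ a ∧ z ≠ b := fun z => by simp [hT]
  have hTc : T.card = 9 := by rw [hT, Finset.card_compl, hα, Finset.card_pair hab]
  let Of : α → Finset α := fun z => (orbit K z).toFinset
  have hOf : ∀ z y, y ∈ Of z ↔ y ∈ orbit K z := fun z y => Set.mem_toFinset
  have hOc : ∀ z, (Of z).card = Nat.card (orbit K z) := fun z => by
    rw [Set.toFinset_card, Nat.card_eq_fintype_card]
  have hOsub : ∀ z, z ≠ a → z ≠ b → Of z ⊆ T := fun z hza hzb y hy =>
    (hmemT y).2 (horb z hza hzb y ((hOf _ _).1 hy))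
  have hOdisj : ∀ z w, w ∉ Of z → Disjoint (Of z) (Of w) := by
    intro z w hw
    rw [Finset.disjoint_left]
    intro y hy hy'
    rw [hOf] at hw hy hy'
    apply hw
    rw [← orbit_eq_iff] at hy hy' ⊢
    rw [← hy', hy]
  by_cases h9 : d ∈ Of c
  · obtain ⟨k, hk⟩ := (hOf _ _).1 h9
    exact ⟨k, ((hK _).1 k.2).1, ((hK _).1 k.2).2, hk⟩
  exfalso
  have hbound : ∀ z, z ≠ a → z ≠ b → 1 ≤ (Of z).card ∧ 3 ∣ (Of z).card := fun z hza hzb =>
    ⟨Finset.card_pos.2 ⟨z, (hOf _ _).2 (mem_orbit_self z)⟩, by rw [hOc]; exact horb3 z hza hzb⟩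
  have hsum2 : (Of c).card + (Of d).card ≤ 9 := by
    rw [← Finset.card_union_of_disjoint (hOdisj c d h9), ← hTc]
    exact Finset.card_le_card (Finset.union_subset (hOsub c hca hcb) (hOsub d hda hdb))
  obtain ⟨x, hxa, hxb, hx3⟩ : ∃ x, x ≠ a ∧ x ≠ b ∧ (Of x).card = 3 := by
    have := hbound c hca hcb
    have := hbound d hda hdb
    by_cases h : (Of c).card = 3
    · exact ⟨c, hca, hcb, h⟩
    · exact ⟨d, hda, hdb, by omega⟩
  have huniq : ∀ y, y ≠ a → y ≠ b → (Of y).card = 3 → y ∈ Of x := by
    intro y hya hyb hy3
    by_contra hy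
    have hd := hOdisj x y hy
    obtain ⟨z, hz⟩ : ((T \ Of x) \ Of y).Nonempty := by
      rw [← Finset.card_pos]
      have e1 := Finset.le_card_sdiff (Of x) T
      have e2 := Finset.le_card_sdiff (Of y) (T \ Of x)
      omega
    rw [Finset.mem_sdiff, Finset.mem_sdiff, hmemT] at hz
    obtain ⟨⟨⟨hza, hzb⟩, hzx⟩, hzy⟩ := hz
    have hdz := hOdisj x z hzx
    have hdz' := hOdisj y z hzy
    have hall : Of x ∪ Of y ∪ Of z = T ∧ (Of z).card = 3 := by
      have hd3 : Disjoint (Of x ∪ Of y) (Of z) := Finset.disjoint_union_left.2 ⟨hdz, hdz'⟩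
      have hsub : Of x ∪ Of y ∪ Of z ⊆ T := Finset.union_subset (Finset.union_subset
        (hOsub x hxa hxb) (hOsub y hya hyb)) (hOsub z hza hzb)
      have hc3 := Finset.card_union_of_disjoint hd3
      rw [Finset.card_union_of_disjoint hd] at hc3
      have := Finset.card_le_card hsub
      have := hbound z hza hzb
      exact ⟨Finset.eq_of_subset_of_card_le hsub (by omega), by omega⟩
    let f : K →* Perm (orbit K y) × Perm (orbit K z) :=
      (MulAction.toPermHom K (orbit K y)).prod (MulAction.toPermHom K (orbit K z))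
    have hf : Function.Injective f := by
      rw [injective_iff_map_eq_one]
      intro k hk
      by_contra hk1
      have h4 := hsupp (k : H) (fun h => hk1 (Subtype.ext h))
      have hsub : ((k : H) : Perm α).support ⊆ Of x := by
        intro w hw
        by_contra hwx
        apply Perm.mem_support.1 hw
        show (k : H) • w = w
        by_cases hwT : w ∈ T
        · rw [← hall.1, Finset.mem_union, Finset.mem_union] at hwT
          rcases hwT with (h | h) | h
          · exact absurd h hwx
          · exact congrArg Subtype.val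
              (Equiv.Perm.ext_iff.1 (congrArg Prod.fst hk) ⟨w, (hOf _ _).1 h⟩)
          · exact congrArg Subtype.val
              (Equiv.Perm.ext_iff.1 (congrArg Prod.snd hk) ⟨w, (hOf _ _).1 h⟩)
        · rw [hmemT, not_and_or, not_not, not_not] at hwT
          rcases hwT with rfl | rfl
          · exact ((hK _).1 k.2).1
          · exact ((hK _).1 k.2).2
      have := Finset.card_le_card hsub
      omega
    have h36 := Subgroup.card_dvd_of_injective f hf
    rw [hK72, Nat.card_prod, Nat.card_perm, Nat.card_perm, ← hOc, ← hOc, hy3, hall.2] at h36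
    norm_num [Nat.factorial] at h36
  -- the paired suborbit
  have h2' : ∀ {p q r s : α}, p ≠ q → r ≠ s → ∃ g : H, g • p = r ∧ g • q = s :=
    is_two_pretransitive_iff.1 h2
  obtain ⟨h, hha, hhb⟩ : ∃ h : H, h • a = a ∧ h • b = x := h2' hab hxa.symm
  set v := h⁻¹ • b with hv
  have hhv : h • v = b := smul_inv_smul h b
  have hva : v ≠ a := fun e => hab (by rw [← hha, ← e, hhv])
  have hvb : v ≠ b := fun e => hxb (by rw [← hhb, ← e, hhv]; exact e.symm)
  have hv3 : (Of v).card = 3 := by
    have e : stabilizer K v ≃ stabilizer K x :=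
      { toFun := fun k => ⟨⟨h * ((k : K) : H) * h⁻¹, (hK _).2 ⟨by
            rw [mul_smul, mul_smul, inv_smul_eq_iff.2 hha.symm, ((hK _).1 (k : K).2).1, hha], by
            rw [mul_smul, mul_smul, ← hv, show ((k : K) : H) • v = v from k.2, hhv]⟩⟩, by
          show (h * ((k : K) : H) * h⁻¹) • x = x
          rw [mul_smul, mul_smul, inv_smul_eq_iff.2 hhb.symm, ((hK _).1 (k : K).2).2, hhb]⟩
        invFun := fun k => ⟨⟨h⁻¹ * ((k : K) : H) * h, (hK _).2 ⟨by
            rw [mul_smul, mul_smul, hha, ((hK _).1 (k : K).2).1, inv_smul_eq_iff, hha], by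
            rw [mul_smul, mul_smul, hhb, show ((k : K) : H) • x = x from k.2, inv_smul_eq_iff,
              hhb]⟩⟩, by
          show (h⁻¹ * ((k : K) : H) * h) • v = v
          rw [mul_smul, mul_smul, hhv, ((hK _).1 (k : K).2).2]⟩
        left_inv := fun k => Subtype.ext (Subtype.ext (by simp [mul_assoc]))
        right_inv := fun k => Subtype.ext (Subtype.ext (by simp [mul_assoc])) }
    have h1 := card_orbit_mul_card_stabilizer (G := K) v
    have h2 := card_orbit_mul_card_stabilizer (G := K) x
    rw [Nat.card_congr e, ← h2, ← hOc, ← hOc, hx3] at h1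
    exact Nat.eq_of_mul_eq_mul_right Nat.card_pos h1
  have hvX := huniq v hva hvb hv3
  -- an element of order 3 fixing exactly `a`, `b` and the small suborbit
  let f := (MulAction.toPermHom K (orbit K x)).comp R.subtype
  have hker : f.ker ≠ ⊥ := by
    intro hb
    have h1 := Subgroup.card_dvd_of_injective f ((MonoidHom.ker_eq_bot_iff f).1 hb)
    rw [hR, Nat.card_perm, ← hOc, hx3] at h1
    norm_num [Nat.factorial] at h1
  obtain ⟨⟨g, hg⟩, hg1⟩ := Subgroup.ne_bot_iff_exists_ne_one.1 hker
  set u : H := ((g : K) : H) with hu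
  have hgx : ∀ w ∈ Of x, u • w = w := fun w hw =>
    congrArg Subtype.val (Equiv.Perm.ext_iff.1 hg ⟨w, (hOf _ _).1 hw⟩)
  obtain ⟨hua, hub⟩ := (hK _).1 (g : K).2
  have hu1 : u ≠ 1 := fun h => hg1 (Subtype.ext (Subtype.ext (Subtype.ext h)))
  set A5 := insert a (insert b (Of x)) with hA5
  have hbx : b ∉ Of x := fun hh => (horb x hxa hxb b ((hOf _ _).1 hh)).2 rfl
  have hax : a ∉ Of x := fun hh => (horb x hxa hxb a ((hOf _ _).1 hh)).1 rfl
  have hA5c : A5.card = 5 := by
    rw [hA5, Finset.card_insert_of_notMem, Finset.card_insert_of_notMem hbx, hx3]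
    rw [Finset.mem_insert]
    rintro (e | e)
    exacts [hab e, hax e]
  have hu3 : (u : Perm α) ^ 3 = 1 := by
    have h9 : (g : R) ^ 3 = 1 := by
      by_contra hne
      obtain ⟨j, hj⟩ := IsPGroup.iff_orderOf.1 hR3 g
      have hd := orderOf_dvd_natCard g
      rw [hR, hj] at hd
      have hj2 : j ≤ 2 := (Nat.pow_dvd_pow_iff_le_right (by norm_num)).1 hd
      interval_cases j
      · exact hne (by rw [show (g : R) = 1 from orderOf_eq_one_iff.1 (by rw [hj, pow_zero]), one_pow])
      · exact hne (orderOf_dvd_iff_pow_eq_one.1 (by rw [hj, pow_one]))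
      · have h9 : orderOf (u : Perm α) = 9 := by
          rw [hu, Subgroup.orderOf_coe, Subgroup.orderOf_coe, Subgroup.orderOf_coe, hj]; norm_num
        have hsub : (u : Perm α).support ⊆ A5ᶜ := by
          intro w hw
          rw [Finset.mem_compl, hA5]
          intro hwA
          apply Perm.mem_support.1 hw
          simp only [Finset.mem_insert] at hwA
          rcases hwA with rfl | rfl | h
          exacts [hua, hub, hgx w h]
        have hle := Finset.card_le_card hsub
        rw [Finset.card_compl, hα, hA5c] at hle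
        have h36 : 9 ∣ (u : Perm α).cycleType.lcm := by rw [Perm.lcm_cycleType, h9]
        have hmem : ∀ c ∈ (u : Perm α).cycleType, c ∣ 3 := by
          intro c hc
          have h1 := Perm.dvd_of_mem_cycleType hc
          rw [h9] at h1
          have h2 := Perm.two_le_of_mem_cycleType hc
          have h3 : c ≤ 6 := (Multiset.le_sum_of_mem hc).trans
            (by rw [Perm.sum_cycleType]; omega)
          interval_cases c <;> (revert h1; norm_num)
        exact absurd (Nat.le_of_dvd (by norm_num) (h36.trans (Multiset.lcm_dvd.2 hmem)))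
          (by norm_num)
    have := congrArg (fun r : R => (((r : K) : H) : Perm α)) h9
    exact this
  have hfix : ∀ w, u • w = w → w ∈ A5 := by
    intro w hw
    by_contra hwA
    have hsub : (u : Perm α).support ⊆ (insert w A5)ᶜ := by
      intro y hy
      rw [Finset.mem_compl, hA5]
      intro hyA
      apply Perm.mem_support.1 hy
      simp only [Finset.mem_insert] at hyA
      rcases hyA with rfl | rfl | rfl | hh
      exacts [hw, hua, hub, hgx y hh]
    have hle := Finset.card_le_card hsub
    rw [Finset.card_compl, hα, Finset.card_insert_of_notMem hwA, hA5c] at hle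
    have h4 := hsupp u hu1
    have h3 := dvd_support Nat.prime_three
      (orderOf_eq_prime hu3 (fun h => hu1 (Subtype.ext h)))
    omega
  set O := (Of x).image (h • ·) with hOdef
  have hOb : b ∈ O := Finset.mem_image.2 ⟨v, hvX, hhv⟩
  have hOinv : ∀ w ∈ O, u • w ∈ O := by
    intro w hw
    obtain ⟨y, hy, rfl⟩ := Finset.mem_image.1 hw
    have hk : h⁻¹ * u * h ∈ K := (hK _).2 ⟨by
      rw [mul_smul, mul_smul, hha, hua, inv_smul_eq_iff, hha], by
      rw [mul_smul, mul_smul, hhb, hgx x ((hOf _ _).2 (mem_orbit_self x)), inv_smul_eq_iff, hhb]⟩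
    obtain ⟨k, hk'⟩ := (hOf _ _).1 hy
    have hk'' : (k : H) • x = y := hk'
    refine Finset.mem_image.2 ⟨(h⁻¹ * u * h) • y,
      (hOf _ _).2 ⟨⟨_, hk⟩ * k, ?_⟩, ?_⟩
    · show ((h⁻¹ * u * h) * (k : H)) • x = _
      rw [mul_smul _ (k : H), hk'']
    · rw [mul_smul, mul_smul, smul_inv_smul]
  have hOc3 : O.card = 3 := by
    rw [hOdef, Finset.card_image_of_injective _ (MulAction.injective h), hx3]
  have hOfix : ∀ w ∈ O, u • w = w := by
    intro w hw
    by_contra hne
    have hu3' : u • u • u • w = w := by
      rw [← mul_smul, ← mul_smul, show u * u * u = 1 from Subtype.ext (by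
        rw [Subgroup.coe_mul, Subgroup.coe_mul, Subgroup.coe_one, ← hu3, pow_succ, pow_two]),
        one_smul]
    have h1 : u • u • w ≠ w := fun e => hne (by
      have h5 := congrArg (u • ·) e
      exact h5.symm.trans hu3')
    have h2 : u • u • w ≠ u • w := fun e => hne (MulAction.injective u e)
    have hb0 : ∀ w', u • w' = b → w' = b := fun w' e => MulAction.injective u (e.trans hub.symm)
    have hwb : w ≠ b := fun e => hne (by rw [e, hub])
    have hsub : ({w, u • w, u • u • w, b} : Finset α) ⊆ O := by
      intro y hy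
      simp only [Finset.mem_insert, Finset.mem_singleton] at hy
      rcases hy with rfl | rfl | rfl | rfl
      exacts [hw, hOinv _ hw, hOinv _ (hOinv _ hw), hOb]
    have h4 : ({w, u • w, u • u • w, b} : Finset α).card = 4 := by
      rw [Finset.card_insert_of_notMem, Finset.card_insert_of_notMem,
        Finset.card_insert_of_notMem, Finset.card_singleton]
      · rw [Finset.mem_singleton]; exact fun e => hwb (hb0 _ (hb0 _ e))
      · simp only [Finset.mem_insert, Finset.mem_singleton]
        rintro (e | e)
        exacts [h2 e.symm, hwb (hb0 _ e)]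
      · simp only [Finset.mem_insert, Finset.mem_singleton]
        rintro (e | e | e)
        exacts [hne e.symm, h1 e.symm, hwb e]
    have := Finset.card_le_card hsub
    omega
  set C := insert b (Of x) with hC
  have hCc : C.card = 4 := by rw [hC, Finset.card_insert_of_notMem hbx, hx3]
  have hhC : C.image (h • ·) = C := by
    refine Finset.eq_of_subset_of_card_le ?_
      (by rw [Finset.card_image_of_injective _ (MulAction.injective h)])
    intro y hy
    obtain ⟨w, hw, rfl⟩ := Finset.mem_image.1 hy
    rw [hC, Finset.mem_insert] at hw ⊢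
    rcases hw with rfl | hw
    · exact Or.inr ((hOf _ _).2 (by rw [hhb]; exact mem_orbit_self x))
    · have h5 := hfix _ (hOfix _ (Finset.mem_image.2 ⟨w, hw, rfl⟩))
      rw [hA5, Finset.mem_insert, Finset.mem_insert] at h5
      rcases h5 with h5 | h5
      · exfalso
        exact hax (MulAction.injective h (h5.trans hha.symm) ▸ hw)
      · exact h5
  let S : Subgroup H :=
    { carrier := {k | k • a = a ∧ ∀ z, z ∈ C ↔ k • z ∈ C}
      one_mem' := ⟨one_smul _ _, fun z => by rw [one_smul]⟩
      mul_mem' := fun {p q} hp hq => ⟨by rw [mul_smul, hq.1, hp.1],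
        fun z => by rw [mul_smul, ← hp.2, ← hq.2]⟩
      inv_mem' := fun {p} hp => ⟨by rw [inv_smul_eq_iff, hp.1],
        fun z => by rw [hp.2 (p⁻¹ • z), smul_inv_smul]⟩ }
  have hKS : K ≤ S := by
    intro k hk
    obtain ⟨hka, hkb⟩ := (hK k).1 hk
    refine ⟨hka, fun z => ?_⟩
    rw [hC, Finset.mem_insert, Finset.mem_insert, hOf, hOf]
    refine or_congr ⟨fun e => by rw [e, hkb],
      fun e => MulAction.injective k (e.trans hkb.symm)⟩ ?_
    constructor
    · rintro ⟨k', rfl⟩
      exact ⟨⟨k, hk⟩ * k', mul_smul _ k' x⟩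
    · rintro ⟨k', hk'⟩
      refine ⟨(⟨k, hk⟩ : K)⁻¹ * k', ?_⟩
      show (k⁻¹ * (k' : H)) • x = z
      rw [mul_smul, show (k' : H) • x = k • z from hk', inv_smul_smul]
  have hhS : h ∈ S := by
    refine ⟨hha, fun z => ?_⟩
    constructor
    · intro hz; rw [← hhC]; exact Finset.mem_image.2 ⟨z, hz, rfl⟩
    · intro hz
      rw [← hhC] at hz
      obtain ⟨w, hw, e⟩ := Finset.mem_image.1 hz
      rwa [← MulAction.injective h e]
  have horbS : orbit S b = (C : Set α) := by
    apply Set.Subset.antisymm
    · rintro _ ⟨k, rfl⟩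
      exact (k.2.2 b).1 (Finset.mem_insert_self _ _)
    · intro y hy
      rw [Finset.mem_coe, hC, Finset.mem_insert] at hy
      rcases hy with rfl | hy
      · exact mem_orbit_self _
      · obtain ⟨k, hk⟩ := (hOf _ _).1 hy
        refine ⟨⟨(k : H) * h, mul_mem (hKS k.2) hhS⟩, ?_⟩
        show ((k : H) * h) • b = y
        rw [mul_smul, hhb]
        exact hk
  have hstab : Nat.card (stabilizer S b) = 72 := by
    rw [← hK72]
    exact Nat.card_congr
      { toFun := fun k => ⟨((k : S) : H), (hK _).2 ⟨(k : S).2.1, k.2⟩⟩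
        invFun := fun k => ⟨⟨(k : H), hKS k.2⟩, ((hK _).1 k.2).2⟩
        left_inv := fun _ => rfl
        right_inv := fun _ => rfl }
  have hS := card_orbit_mul_card_stabilizer (G := S) b
  rw [horbS, hstab, Nat.card_coe_set_eq, Set.ncard_coe_finset, hCc] at hS
  have hdvd := Subgroup.card_subgroup_dvd_card S
  rw [← hS, hcard] at hdvd
  norm_num at hdvd

theorem no_double_transposition (hprim : IsPreprimitive H α) (hA : ¬ alternatingGroup α ≤ H)
    (heven : H ≤ alternatingGroup α) (h3 : IsMultiplyPretransitive H α 3)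
    {t : Perm α} (ht : t ∈ H) : t.support.card ≠ 4 := by
  classical
  intro ht4
  let B : Finset (Finset α) := Finset.univ.filter fun s => ∃ u ∈ H, u.support = s ∧ s.card = 4
  have hsmall : ∀ u ∈ H, u ≠ 1 → u.support.card ≤ 4 → u ^ 2 = 1 := by
    intro u hu hu1 hle
    have h4 : u.support.card = 4 := le_antisymm hle (four_le_support hprim hA hu hu1)
    obtain ⟨r, hr, hrd⟩ := Nat.exists_prime_and_dvd
      (fun e => hu1 (orderOf_eq_one_iff.1 e) : orderOf u ≠ 1)
    set w := u ^ (orderOf u / r) with hw
    have hwo : orderOf w = r := orderOf_pow_orderOf_div (orderOf_pos u).ne' hrd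
    have hw4 : w.support.card = 4 := by
      refine le_antisymm ((Finset.card_le_card (Perm.support_pow_le u _)).trans hle)
        (four_le_support hprim hA (pow_mem hu _) ?_)
      intro e
      rw [e, orderOf_one] at hwo
      exact hr.ne_one hwo.symm
    have hr2 : r = 2 := by
      have h1 := dvd_support hr hwo
      rw [hw4] at h1
      exact (Nat.prime_dvd_prime_iff_eq hr Nat.prime_two).1
        (hr.dvd_of_dvd_pow (show r ∣ 2 ^ 2 from h1))
    have hcyc : u.cycleType.sum = 4 := by rw [Perm.sum_cycleType, h4]
    rw [pow_two]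
    have hall : ∀ c ∈ u.cycleType, c = 2 := by
      intro c hc
      have h2 := Perm.two_le_of_mem_cycleType hc
      obtain ⟨rest, hrest⟩ := Multiset.exists_cons_of_mem hc
      rw [hrest, Multiset.sum_cons] at hcyc
      have hsgn := Perm.mem_alternatingGroup.1 (heven hu)
      rw [Perm.sign_of_cycleType, hrest, Multiset.sum_cons, Multiset.card_cons] at hsgn
      have hrest2 : ∀ d ∈ rest, 2 ≤ d := fun d hd =>
        Perm.two_le_of_mem_cycleType (hrest ▸ Multiset.mem_cons_of_mem hd)
      rcases Multiset.empty_or_exists_mem rest with rfl | ⟨d, hd⟩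
      · exfalso
        simp only [Multiset.sum_zero, add_zero] at hcyc
        subst hcyc
        exact absurd hsgn (by simp; decide)
      · have := Multiset.le_sum_of_mem hd
        have := hrest2 d hd
        omega
    have h22 : u ^ 2 = 1 := Perm.pow_prime_eq_one_iff.2 hall
    rw [← pow_two]; exact h22
  have hmemB : ∀ s, s ∈ B ↔ ∃ u ∈ H, u.support = s ∧ s.card = 4 := fun s => by simp [B]
  have hcover : ∀ T : Finset α, T.card = 3 → ∃ s ∈ B, T ⊆ s := by
    intro T hT
    obtain ⟨p, q, r, hpq, hpr, hqr, hTe⟩ := Finset.card_eq_three.1 hT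
    obtain ⟨T0, hT0, hT0c⟩ := Finset.exists_subset_card_eq (show 3 ≤ t.support.card by omega)
    obtain ⟨p0, q0, r0, h01, h02, h12, hT0e⟩ := Finset.card_eq_three.1 hT0c
    rw [MulAction.isMultiplyPretransitive_iff] at h3
    obtain ⟨g, hg⟩ := @h3 ⟨![p0, q0, r0], by
        intro i j h; fin_cases i <;> fin_cases j <;> simp_all [eq_comm]⟩
      ⟨![p, q, r], by intro i j h; fin_cases i <;> fin_cases j <;> simp_all [eq_comm]⟩
    have e0 : (g : Perm α) p0 = p := congrArg (fun e : Fin 3 ↪ α => e 0) hg
    have e1 : (g : Perm α) q0 = q := congrArg (fun e : Fin 3 ↪ α => e 1) hg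
    have e2 : (g : Perm α) r0 = r := congrArg (fun e : Fin 3 ↪ α => e 2) hg
    refine ⟨((g : Perm α) * t * (g : Perm α)⁻¹).support, (hmemB _).2
      ⟨_, mul_mem (mul_mem g.2 ht) (inv_mem g.2), rfl, by rw [Perm.card_support_conj, ht4]⟩, ?_⟩
    intro z hz
    rw [Perm.mem_support]
    have key : ∀ z0, z0 ∈ T0 → (g : Perm α) z0 = z →
        ((g : Perm α) * t * (g : Perm α)⁻¹) z ≠ z := by
      intro z0 hz0 e
      rw [← e]
      simp only [Perm.mul_apply, Perm.coe_inv, Equiv.symm_apply_apply]
      exact fun hh => Perm.mem_support.1 (hT0 hz0) ((g : Perm α).injective hh)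
    rw [hTe] at hz
    simp only [Finset.mem_insert, Finset.mem_singleton] at hz
    rcases hz with rfl | rfl | rfl
    · exact key p0 (by rw [hT0e]; simp) e0
    · exact key q0 (by rw [hT0e]; simp) e1
    · exact key r0 (by rw [hT0e]; simp) e2
  have hinter : ∀ s ∈ B, ∀ s' ∈ B, s ≠ s' → (s ∩ s').card < 3 := by
    intro s hs s' hs' hne
    by_contra hge
    obtain ⟨u, hu, rfl, hu4⟩ := (hmemB _).1 hs
    obtain ⟨u', hu', rfl, hu4'⟩ := (hmemB _).1 hs'
    have hu2 : u ^ 2 = 1 := hsmall u hu (fun e => by simp [e] at hu4) (by omega)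
    have hu2' : u' ^ 2 = 1 := hsmall u' hu' (fun e => by simp [e] at hu4') (by omega)
    have hlt : (u.support ∩ u'.support).card < 4 := by
      rcases Nat.lt_or_ge (u.support ∩ u'.support).card 4 with h | h
      · exact h
      · exfalso
        have e1 := Finset.eq_of_subset_of_card_le (Finset.inter_subset_left (s₂ := u'.support))
          (show u.support.card ≤ _ by omega)
        have e2 := Finset.eq_of_subset_of_card_le (Finset.inter_subset_right (s₁ := u.support))
          (show u'.support.card ≤ _ by omega)
        exact hne (e1.symm.trans e2)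
    have hU : (u.support ∪ u'.support).card = 5 := by
      have := Finset.card_union_add_card_inter u.support u'.support
      omega
    have hne' : u * u' ≠ 1 := by
      intro e
      apply hne
      rw [eq_inv_of_mul_eq_one_left e, Perm.support_inv]
    have hord : (u * u') ^ 2 = 1 := by
      apply hsmall _ (mul_mem hu hu') hne'
      have hle : (u * u').support.card ≤ 5 := hU ▸ Finset.card_le_card
        ((Perm.support_mul_le u u'))
      by_contra h5
      have h5' : (u * u').support.card = 5 := by omega
      set w := u * u' with hw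
      have hwH : w ∈ H := mul_mem hu hu'
      have hwodd : ∀ x, w x ≠ x ∨ x ∉ u.support ∪ u'.support := fun x => by
        by_cases hx : x ∈ u.support ∪ u'.support
        · left
          have he : w.support = u.support ∪ u'.support :=
            Finset.eq_of_subset_of_card_le (Perm.support_mul_le u u') (by omega)
          exact Perm.mem_support.1 (he ▸ hx)
        · exact Or.inr hx
      obtain ⟨r, hr, hrd⟩ := Nat.exists_prime_and_dvd
        (fun e => hne' (orderOf_eq_one_iff.1 e) : orderOf w ≠ 1)
      set w' := w ^ (orderOf w / r) with hw'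
      have hwo : orderOf w' = r := orderOf_pow_orderOf_div (orderOf_pos w).ne' hrd
      have hw'5 : w'.support.card ≤ 5 :=
        (Finset.card_le_card (Perm.support_pow_le w _)).trans hle
      have hw'4 := four_le_support hprim hA (pow_mem hwH _) (show w' ≠ 1 from fun e => by
        rw [e, orderOf_one] at hwo; exact hr.ne_one hwo.symm)
      rcases Nat.lt_or_ge w'.support.card 5 with h | h
      · have hd := dvd_support hr hwo
        have h44 : w'.support.card = 4 := by rw [← hw'] at hw'4; omega
        rw [h44] at hd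
        have hr2 : r = 2 := (Nat.prime_dvd_prime_iff_eq hr Nat.prime_two).1
          (hr.dvd_of_dvd_pow (show r ∣ 2 ^ 2 from hd))
        subst hr2
        have hsgn := Perm.mem_alternatingGroup.1 (heven hwH)
        have hmem : ∀ c ∈ w.cycleType, 2 ≤ c := fun c hc => Perm.two_le_of_mem_cycleType hc
        rw [← Perm.lcm_cycleType] at hrd
        obtain ⟨c, hc, hc2⟩ : ∃ c ∈ w.cycleType, 2 ∣ c := by
          by_contra hno
          push Not at hno
          have hodd : Odd w.cycleType.lcm := by
            have : ∀ (m : Multiset ℕ), (∀ c ∈ m, ¬ 2 ∣ c) → Odd m.lcm := by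
              intro m
              induction m using Multiset.induction_on with
              | empty => intro; simp
              | cons x m ih =>
                intro hx
                rw [Multiset.lcm_cons]
                have h1 : Odd x := Nat.odd_iff.2 (by
                  have := hx x (Multiset.mem_cons_self x m); omega)
                have h2 := ih fun c hc => hx c (Multiset.mem_cons_of_mem hc)
                exact Odd.of_dvd_nat (h1.mul h2) (Nat.lcm_dvd_mul _ _)
            exact this _ hno
          obtain ⟨k, hk⟩ := hodd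
          omega
        obtain ⟨rest, hrest⟩ := Multiset.exists_cons_of_mem hc
        have hsum : c + rest.sum = 5 := by
          rw [← Multiset.sum_cons, ← hrest, Perm.sum_cycleType]; omega
        rw [Perm.sign_of_cycleType, hrest, Multiset.sum_cons, Multiset.card_cons, hsum] at hsgn
        rcases Multiset.empty_or_exists_mem rest with rfl | ⟨d, hd⟩
        · simp at hsum; omega
        · obtain ⟨rest', rfl⟩ := Multiset.exists_cons_of_mem hd
          rw [Multiset.sum_cons] at hsum
          have := hmem d (hrest ▸ Multiset.mem_cons_of_mem (Multiset.mem_cons_self _ _))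
          have := hmem c hc
          rcases Multiset.empty_or_exists_mem rest' with rfl | ⟨e, he⟩
          · exact absurd hsgn (by simp; decide)
          · have := Multiset.le_sum_of_mem he
            have := hmem e (hrest ▸ Multiset.mem_cons_of_mem (Multiset.mem_cons_of_mem he))
            omega
      · have hd := dvd_support hr hwo
        rw [show w'.support.card = 5 by omega] at hd
        have hr5 : r = 5 := (Nat.prime_dvd_prime_iff_eq hr (by norm_num)).1 hd
        subst hr5
        have := support_five hα hprim hA (pow_mem hwH _) hwo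
        rw [← hw'] at this
        omega
    have hcomm : ∀ x, u (u' x) = u' (u x) := by
      have e : u * u' = u' * u := by
        have h1 : u⁻¹ = u := inv_eq_of_mul_eq_one_right (by rw [← pow_two]; exact hu2)
        have h2 : u'⁻¹ = u' := inv_eq_of_mul_eq_one_right (by rw [← pow_two]; exact hu2')
        calc u * u' = (u * u')⁻¹ := (inv_eq_of_mul_eq_one_right (by rw [← pow_two]; exact hord)).symm
          _ = u' * u := by rw [mul_inv_rev, h1, h2]
      exact fun x => Perm.congr_fun e x
    obtain ⟨z, hz⟩ := Finset.card_eq_one.1 (show (u.support \ u'.support).card = 1 by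
      rw [Finset.card_sdiff, Finset.inter_comm]; omega)
    have hzz : z ∈ u.support ∧ z ∉ u'.support :=
      Finset.mem_sdiff.1 (hz ▸ Finset.mem_singleton_self z)
    have hmem : u z ∈ u.support \ u'.support := by
      rw [Finset.mem_sdiff]
      refine ⟨Perm.apply_mem_support.2 hzz.1, ?_⟩
      rw [Perm.notMem_support, ← hcomm, Perm.notMem_support.1 hzz.2]
    rw [hz, Finset.mem_singleton] at hmem
    exact Perm.mem_support.1 hzz.1 hmem
  have hcount : (Finset.univ.powersetCard 3 : Finset (Finset α)).card = B.card * 4 := by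
    have e : (Finset.univ.powersetCard 3 : Finset (Finset α)) =
        B.biUnion fun s => s.powersetCard 3 := by
      ext T
      rw [Finset.mem_powersetCard_univ, Finset.mem_biUnion]
      simp only [Finset.mem_powersetCard]
      exact ⟨fun hT => (hcover T hT).imp fun s hs => ⟨hs.1, hs.2, hT⟩,
        fun ⟨s, _, _, h⟩ => h⟩
    rw [e, Finset.card_biUnion]
    · rw [Finset.sum_const_nat fun s hs => ?_]
      rw [Finset.card_powersetCard, ((hmemB s).1 hs).choose_spec.2.2]
      rfl
    · intro s hs s' hs' hne
      rw [Function.onFun, Finset.disjoint_left]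
      intro T hT hT'
      rw [Finset.mem_powersetCard] at hT hT'
      have := Finset.card_le_card (Finset.subset_inter hT.1 hT'.1)
      have := hinter s hs s' hs' hne
      omega
  rw [Finset.card_powersetCard, Finset.card_univ, hα] at hcount
  norm_num [Nat.choose] at hcount
  omega

/-- A group of even permutations of order 7920 on 11 points is sharply 4-transitive. -/
theorem sharply_four_transitive (hprim : IsPreprimitive H α) (hA : ¬ alternatingGroup α ≤ H)
    (heven : H ≤ alternatingGroup α) (h2 : IsMultiplyPretransitive H α 2)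
    (hcard : Nat.card H = 7920) :
    IsMultiplyPretransitive H α 4 ∧ ∀ x : Fin 4 ↪ α, stabilizer H x = ⊥ := by
  classical
  have h3 := three_transitive_of_card hα hprim hA h2 hcard
  have hstab : ∀ x : Fin 4 ↪ α, stabilizer H x = ⊥ := by
    intro x
    rw [Subgroup.eq_bot_iff_forall]
    intro u hu
    rw [mem_stabilizer_embedding] at hu
    set x3 : Fin 3 ↪ α := Fin.castSuccEmb.trans x with hx3
    have hu3 : u ∈ stabilizer H x3 := by
      rw [mem_stabilizer_embedding]
      exact fun i => hu _
    have h8 : Nat.card (stabilizer H x3) = 8 := by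
      have h := card_eq_descFactorial_mul h3 x3
      rw [hcard, hα] at h
      rw [show (11 : ℕ).descFactorial 3 = 990 from rfl] at h
      omega
    have hd : orderOf u ∣ 2 ^ 3 := by
      rw [show (2 : ℕ) ^ 3 = 8 from rfl, ← h8, ← Subgroup.orderOf_mk u hu3]
      exact orderOf_dvd_natCard _
    obtain ⟨i, -, hi⟩ := (Nat.dvd_prime_pow Nat.prime_two).1 hd
    by_contra hu1
    obtain ⟨j, rfl⟩ : ∃ j, i = j + 1 := by
      refine ⟨i - 1, ?_⟩
      rcases i with _ | i
      · rw [pow_zero, orderOf_eq_one_iff] at hi; exact absurd hi hu1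
      · omega
    set w : Perm α := (u : Perm α) ^ 2 ^ j with hw
    have hwH : w ∈ H := pow_mem u.2 _
    have hwo : orderOf w = 2 := by
      rw [hw, orderOf_pow_of_dvd (by positivity)
        (by rw [Subgroup.orderOf_coe, hi]; exact pow_dvd_pow 2 (by omega)),
        Subgroup.orderOf_coe, hi, pow_succ, Nat.mul_div_cancel_left _ (by positivity)]
    have hle : w.support.card ≤ 7 := by
      have hsub : w.support ⊆ (Finset.univ.image x)ᶜ := by
        intro y hy
        rw [Finset.mem_compl, Finset.mem_image]
        rintro ⟨k, -, rfl⟩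
        exact Perm.mem_support.1 hy (Perm.pow_apply_eq_self_of_apply_eq_self (hu k) _)
      have := Finset.card_le_card hsub
      rw [Finset.card_compl, hα, Finset.card_image_of_injective _ x.injective,
        Finset.card_univ, Fintype.card_fin] at this
      exact this
    rcases support_involution hα (u := w) (by rw [← hwo, pow_orderOf_eq_one])
        (Perm.mem_alternatingGroup.1 (heven hwH)) with h | h | h
    · rw [Finset.card_eq_zero, Perm.support_eq_empty_iff] at h
      rw [h, orderOf_one] at hwo
      exact absurd hwo (by norm_num)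
    · exact no_double_transposition hα hprim hA heven h3 hwH h
    · omega
  refine ⟨?_, hstab⟩
  have hcardX : Nat.card (Fin 4 ↪ α) = 7920 := by
    rw [Nat.card_eq_fintype_card, Fintype.card_embedding_eq, Fintype.card_fin, hα]
    rfl
  haveI : Nonempty (Fin 4 ↪ α) := (Nat.card_pos_iff.1 (by omega)).1
  obtain ⟨x₀⟩ := (inferInstance : Nonempty (Fin 4 ↪ α))
  have hsurj : Function.Surjective (fun g : H => g • x₀) := by
    have hinj : Function.Injective (fun g : H => g • x₀) := by
      intro g g' e
      have hmem : g'⁻¹ * g ∈ stabilizer H x₀ := by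
        rw [mem_stabilizer_embedding]
        intro i
        rw [mul_smul, inv_smul_eq_iff]
        exact congrArg (fun y : Fin 4 ↪ α => y i) e
      rw [hstab x₀, Subgroup.mem_bot, inv_mul_eq_one] at hmem
      exact hmem.symm
    exact (Nat.bijective_iff_injective_and_card _).2 ⟨hinj, by rw [hcard, hcardX]⟩ |>.2
  rw [MulAction.isMultiplyPretransitive_iff]
  intro x y
  obtain ⟨g, rfl⟩ := hsurj x
  obtain ⟨g', rfl⟩ := hsurj y
  refine ⟨g' * g⁻¹, Function.Embedding.ext fun i => ?_⟩
  show (g' * g⁻¹) • g • x₀ i = g' • x₀ i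
  rw [mul_smul, inv_smul_smul]

end Cfsg.Agent.Perm.DegreeEleven
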