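import Cfsg.Agent.Lib.Perm.PrimeDegreeOrders
import Cfsg.Agent.PermB.JordanPrime
import Mathlib.GroupTheory.Perm.Cycle.Type
import Mathlib.GroupTheory.SpecificGroups.Cyclic

/-!
# Orders of transitive groups of even permutations of 11 points
-/

set_option autoImplicit false
set_option linter.style.haveILetI false

namespace Cfsg.Agent.Perm.DegreeEleven

open MulAction Equiv Cfsg.Agent.Perm.PrimeDeg

theorem sign_reflection : ∀ b : ZMod 11, Equiv.Perm.sign (Equiv.subLeft b) = -1 := by decide

variable {α : Type*} [Fintype α] [DecidableEq α] {H : Subgroup (Perm α)}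

theorem four_le_support (hprim : IsPreprimitive H α) (hA : ¬ alternatingGroup α ≤ H)
    {u : Perm α} (hu : u ∈ H) (hu1 : u ≠ 1) : 4 ≤ u.support.card := by
  by_contra h
  exact hA (PermB.alternating_le_of_small_support H hprim hu hu1 (by omega))

theorem dvd_support {u : Perm α} {r : ℕ} (hr : r.Prime) (ho : orderOf u = r) :
    r ∣ u.support.card := by
  obtain ⟨n, hn⟩ := Perm.cycleType_prime_order (σ := u) (by rw [ho]; exact hr)
  rw [← Perm.sum_cycleType, hn, Multiset.sum_replicate, ho, smul_eq_mul]
  exact dvd_mul_left r _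

theorem no_prime_cycle (hprim : IsPreprimitive H α) (hA : ¬ alternatingGroup α ≤ H) {r : ℕ}
    (hr : r.Prime) (hrn : r + 3 ≤ Fintype.card α) {u : Perm α} (hu : u ∈ H) (ho : orderOf u = r) :
    2 * r ≤ u.support.card := by
  by_contra h
  have hc : u.IsCycle := Perm.isCycle_of_prime_order (by rw [ho]; exact hr) (by rw [ho]; omega)
  exact hA (PermB.jordan_prime_cycle H hprim hr hrn hc (by rw [← hc.orderOf, ho]) hu)

variable (hα : Fintype.card α = 11)
include hα

theorem support_involution {u : Perm α} (hu : u ^ 2 = 1) (heven : Perm.sign u = 1) :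
    u.support.card = 0 ∨ u.support.card = 4 ∨ u.support.card = 8 := by
  have h := Perm.sign_of_pow_two_eq_one hu
  rw [heven, Perm.card_fixedPoints, hα] at h
  have hs : u.cycleType.sum = u.support.card := Perm.sum_cycleType u
  have hle : u.support.card ≤ 11 := hα ▸ u.support.card_le_univ
  have h2 : 2 ∣ u.support.card := by
    rcases eq_or_ne u 1 with rfl | h1
    · simp
    · exact dvd_support Nat.prime_two (orderOf_eq_prime hu h1)
  rw [hs] at h
  obtain ⟨m, hm⟩ := h2
  have hm5 : m ≤ 5 := by omega
  rw [hm] at h ⊢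
  interval_cases m <;> first | omega | (exfalso; revert h; decide)

theorem not_seven (hprim : IsPreprimitive H α) (hA : ¬ alternatingGroup α ≤ H) :
    ¬ 7 ∣ Nat.card H := by
  intro h
  haveI : Fact (Nat.Prime 7) := ⟨by norm_num⟩
  obtain ⟨u, hu⟩ := exists_prime_orderOf_dvd_card' (G := H) 7 h
  have := no_prime_cycle hprim hA (r := 7) (by norm_num) (by omega) u.2
    (by rw [Subgroup.orderOf_coe, hu])
  have hle : (u : Perm α).support.card ≤ 11 := hα ▸ Finset.card_le_univ _
  omega

theorem support_five (hprim : IsPreprimitive H α) (hA : ¬ alternatingGroup α ≤ H) {u : Perm α}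
    (hu : u ∈ H) (ho : orderOf u = 5) : u.support.card = 10 := by
  have h1 := no_prime_cycle hprim hA (by norm_num : Nat.Prime 5) (by omega) hu ho
  have hle : u.support.card ≤ 11 := hα ▸ u.support.card_le_univ
  obtain ⟨m, hm⟩ := dvd_support (by norm_num : Nat.Prime 5) ho
  omega

theorem not_twentyfive (hprim : IsPreprimitive H α) (hA : ¬ alternatingGroup α ≤ H) :
    ¬ 25 ∣ Nat.card H := by
  intro h
  haveI : Fact (Nat.Prime 5) := ⟨by norm_num⟩
  obtain ⟨R, hR⟩ := Sylow.exists_subgroup_card_pow_prime 5 (n := 2) (G := H) (by norm_num; exact h)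
  norm_num at hR
  have hR5 : IsPGroup 5 R := IsPGroup.of_card (n := 2) (by rw [hR]; norm_num)
  haveI : Nontrivial R := Finite.one_lt_card_iff_nontrivial.1 (by omega)
  obtain ⟨r, hr⟩ := exists_ne (1 : R)
  obtain ⟨x, hx⟩ : ∃ x : α, r • x ≠ x := by
    by_contra hne
    push Not at hne
    exact hr (eq_of_smul_eq_smul (α := α) fun x => (hne x).trans (one_smul R x).symm)
  obtain ⟨k, hk⟩ := hR5.card_orbit x
  have hle : Nat.card (orbit R x) ≤ 11 := by
    rw [← hα, ← Nat.card_eq_fintype_card]
    exact Nat.card_le_card_of_injective _ Subtype.val_injective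
  have hk1 : k = 1 := by
    rcases k with _ | _ | k
    · exfalso
      haveI : Subsingleton (orbit R x) := Finite.card_le_one_iff_subsingleton.1 (by omega)
      exact hx (congrArg Subtype.val
        (Subsingleton.elim (⟨r • x, mem_orbit x r⟩ : orbit R x) ⟨x, mem_orbit_self x⟩))
    · rfl
    · exfalso
      have : 5 ^ 2 ≤ 5 ^ (k + 1 + 1) := Nat.pow_le_pow_right (by norm_num) (by omega)
      omega
  rw [hk1, pow_one] at hk
  classical
  let f := MulAction.toPermHom R (orbit R x)
  have hker : f.ker ≠ ⊥ := by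
    intro hb
    have h1 := Subgroup.card_dvd_of_injective f ((MonoidHom.ker_eq_bot_iff f).1 hb)
    rw [hR, Nat.card_perm, hk] at h1
    norm_num [Nat.factorial] at h1
  obtain ⟨⟨g, hg⟩, hg1⟩ := Subgroup.ne_bot_iff_exists_ne_one.1 hker
  have hg1' : ((g : H) : Perm α) ≠ 1 := fun h0 => hg1 (Subtype.ext (Subtype.ext (Subtype.ext h0)))
  have hsub : (((g : H) : Perm α)).support ⊆ ((orbit R x).toFinset)ᶜ := by
    intro y hy
    rw [Finset.mem_compl, Set.mem_toFinset]
    intro hyX
    exact Perm.mem_support.1 hy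
      (congrArg Subtype.val (Equiv.Perm.ext_iff.1 hg ⟨y, hyX⟩))
  have hsupp : (((g : H) : Perm α)).support.card ≤ 6 := by
    refine (Finset.card_le_card hsub).trans ?_
    rw [Finset.card_compl, hα, Set.toFinset_card, ← Nat.card_eq_fintype_card, hk]
  obtain ⟨j, hj⟩ := IsPGroup.iff_orderOf.1 hR5 g
  have hj0 : j ≠ 0 := by
    rintro rfl
    rw [pow_zero, orderOf_eq_one_iff] at hj
    exact hg1 (Subtype.ext hj)
  obtain ⟨i, rfl⟩ := Nat.exists_eq_succ_of_ne_zero hj0
  set u : Perm α := ((g : H) : Perm α) ^ 5 ^ i with hu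
  have ho : orderOf u = 5 := by
    rw [hu, orderOf_pow_of_dvd (by positivity)
      (by rw [Subgroup.orderOf_coe, Subgroup.orderOf_coe, hj]; exact pow_dvd_pow 5 (by omega)),
      Subgroup.orderOf_coe, Subgroup.orderOf_coe, hj, Nat.succ_eq_add_one, pow_succ,
      Nat.mul_div_cancel_left _ (by positivity)]
  have huH : u ∈ H := pow_mem (g : H).2 _
  have h10 := support_five hα hprim hA huH ho
  have := Finset.card_le_card (Perm.support_pow_le ((g : H) : Perm α) (5 ^ i))
  rw [← hu] at this
  omega

theorem card_centralizer_five (hprim : IsPreprimitive H α) (hA : ¬ alternatingGroup α ≤ H)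
    (heven : H ≤ alternatingGroup α) (q : H) (hq : orderOf q = 5) :
    Nat.card (Subgroup.centralizer (Subgroup.zpowers q : Set H)) = 5 := by
  set C := Subgroup.centralizer (Subgroup.zpowers q : Set H) with hC
  have hqC : q ∈ C := by
    rw [hC, Subgroup.mem_centralizer_iff]
    rintro _ ⟨k, rfl⟩
    exact ((Commute.refl q).zpow_left k).eq
  have h5 : 5 ∣ Nat.card C := by
    rw [← hq, ← Subgroup.orderOf_mk q hqC]
    exact orderOf_dvd_natCard _
  have honly : ∀ {d : ℕ}, d.Prime → d ∣ Nat.card C → d = 5 := by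
    intro r hr hrd
    haveI := Fact.mk hr
    obtain ⟨c, hc⟩ := exists_prime_orderOf_dvd_card' (G := C) r hrd
    set u : Perm α := ((c : H) : Perm α) with hu
    set v : Perm α := (q : Perm α) with hv
    have huo : orderOf u = r := by rw [hu, Subgroup.orderOf_coe, Subgroup.orderOf_coe, hc]
    have hvo : orderOf v = 5 := by rw [hv, Subgroup.orderOf_coe, hq]
    have hcomm : ∀ x, u (v x) = v (u x) := fun x => by
      have := (Subgroup.mem_centralizer_iff.1 c.2 q (Subgroup.mem_zpowers q)).symm
      exact Perm.congr_fun (congrArg Subtype.val this) x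
    have hv10 := support_five hα hprim hA q.2 hvo
    have hv1 : v.supportᶜ.card = 1 := by rw [Finset.card_compl, hα, hv10]
    obtain ⟨z, hz⟩ := Finset.card_eq_one.1 hv1
    have hzfix : ∀ x, v x = x ↔ x = z := fun x => by
      rw [← Perm.notMem_support, ← Finset.mem_compl, hz, Finset.mem_singleton]
    have huz : u z = z := (hzfix _).1 (by rw [← hcomm, (hzfix z).2 rfl])
    let X : SubMulAction (Subgroup.zpowers v) α :=
      { carrier := {x | u x = x}
        smul_mem' := fun w x hx => by
          obtain ⟨_, k, rfl⟩ := w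
          show u ((v ^ k) x) = (v ^ k) x
          have hk : Commute u (v ^ k) := Commute.zpow_right (Equiv.ext hcomm) k
          have hx' : u x = x := hx
          rw [← Perm.mul_apply, hk.eq, Perm.mul_apply, hx'] }
    have hP : IsPGroup 5 (Subgroup.zpowers v) :=
      IsPGroup.of_card (n := 1) (by rw [Nat.card_zpowers, hvo, pow_one])
    haveI : Fact (Nat.Prime 5) := ⟨by norm_num⟩
    have hmod := hP.card_modEq_card_fixedPoints X
    have hfix1 : Nat.card (fixedPoints (Subgroup.zpowers v) X) = 1 := by
      rw [Nat.card_eq_one_iff_unique]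
      refine ⟨⟨fun x y => ?_⟩, ⟨⟨⟨z, huz⟩, fun w => ?_⟩⟩⟩
      · apply Subtype.ext
        apply Subtype.ext
        rw [(hzfix _).1 (congrArg Subtype.val (x.2 ⟨v, Subgroup.mem_zpowers v⟩)),
          (hzfix _).1 (congrArg Subtype.val (y.2 ⟨v, Subgroup.mem_zpowers v⟩))]
      · apply Subtype.ext
        obtain ⟨_, k, rfl⟩ := w
        exact Perm.zpow_apply_eq_self_of_apply_eq_self ((hzfix z).2 rfl) k
    rw [hfix1] at hmod
    have hXcard : Nat.card X = 11 - u.support.card := by
      rw [← hα, ← Finset.card_compl, ← Nat.card_eq_finsetCard]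
      exact Nat.card_congr (Equiv.subtypeEquivRight fun x => by
        rw [Finset.mem_compl, Perm.notMem_support]; rfl)
    have hle : u.support.card ≤ 11 := hα ▸ u.support.card_le_univ
    have hpos : u.support.card ≠ 0 := by
      rw [Ne, Finset.card_eq_zero, Perm.support_eq_empty_iff]
      rintro h1
      rw [h1, orderOf_one] at huo
      exact hr.ne_one huo.symm
    rw [hXcard, Nat.ModEq] at hmod
    have hsupp : u.support.card = 5 ∨ u.support.card = 10 := by omega
    have hr5 : r = 5 ∨ r = 2 := by
      have hd := dvd_support hr huo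
      rcases hsupp with h | h <;> rw [h] at hd
      · exact Or.inl ((Nat.prime_dvd_prime_iff_eq hr (by norm_num)).1 hd)
      · rcases hr.dvd_mul.1 (show r ∣ 2 * 5 from hd) with h2 | h2
        · exact Or.inr ((Nat.prime_dvd_prime_iff_eq hr Nat.prime_two).1 h2)
        · exact Or.inl ((Nat.prime_dvd_prime_iff_eq hr (by norm_num)).1 h2)
    refine hr5.resolve_right fun h2 => ?_
    subst h2
    have := support_involution hα (u := u) (by rw [← huo, pow_orderOf_eq_one])
      (Perm.mem_alternatingGroup.1 (heven (c : H).2))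
    omega
  have hpow := Nat.eq_prime_pow_of_unique_prime_dvd (Nat.card_pos (α := C)).ne' honly
  set k := (Nat.card C).primeFactorsList.length
  rcases Nat.lt_or_ge k 2 with hk | hk
  · interval_cases k
    · rw [hpow] at h5; norm_num at h5
    · simpa using hpow
  · exact absurd ((pow_dvd_pow 5 hk).trans (hpow ▸ Subgroup.card_subgroup_dvd_card C))
      (by norm_num; exact not_twentyfive hα hprim hA)

theorem five_mod (hprim : IsPreprimitive H α) (hA : ¬ alternatingGroup α ≤ H)
    (heven : H ≤ alternatingGroup α) {n : ℕ} (hn : Nat.card H = 55 * n) : n % 5 ≠ 3 := by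
  haveI : Fact (Nat.Prime 5) := ⟨by norm_num⟩
  obtain ⟨q, hq⟩ := exists_prime_orderOf_dvd_card' (G := H) 5 ⟨11 * n, by rw [hn]; ring⟩
  set Q := Subgroup.zpowers q with hQ
  have hQc : Nat.card Q = 5 := by rw [hQ, Nat.card_zpowers, hq]
  let P : Sylow 5 H := (IsPGroup.of_card (n := 1) (by rw [hQc, pow_one]) : IsPGroup 5 Q).toSylow
    (by
      intro hd
      apply not_twentyfive hα hprim hA
      rw [← Q.card_mul_index, hQc]
      exact Nat.mul_dvd_mul_left 5 hd)
  have hm : Nat.card (Sylow 5 H) * Nat.card (Subgroup.normalizer (Q : Set H)) = Nat.card H := by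
    rw [P.card_eq_index_normalizer]
    exact Subgroup.index_mul_card _
  have hmod : Nat.card (Sylow 5 H) % 5 = 1 :=
    Nat.mod_eq_of_modEq (card_sylow_modEq_one 5 H) (by norm_num)
  set N := Subgroup.normalizer (Q : Set H) with hN
  have hNdvd : Nat.card N ∣ 5 * 4 := by
    let f := Subgroup.normalizerMonoidHom Q
    have h1 : Nat.card N = Nat.card f.ker * Nat.card f.range := by
      rw [← Subgroup.index_ker f, mul_comm]
      exact (Subgroup.index_mul_card f.ker).symm
    rw [h1]
    refine mul_dvd_mul ?_ ?_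
    · rw [Subgroup.normalizerMonoidHom_ker]
      rw [← card_centralizer_five hα hprim hA heven q hq]
      refine (Nat.card_congr (Subgroup.subgroupOfEquivOfLe ?_).toEquiv).dvd
      intro c hc
      rw [Subgroup.mem_normalizer_iff]
      intro h
      constructor
      · intro hh
        rw [← Subgroup.mem_centralizer_iff.1 hc h hh, mul_inv_cancel_right]
        exact hh
      · intro hh
        have := Subgroup.mem_centralizer_iff.1 hc _ hh
        have e : c * h * c⁻¹ = h := by
          have h3 : c * h * c⁻¹ * c = c * (c * h * c⁻¹) := this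
          rw [inv_mul_cancel_right] at h3
          exact (mul_left_cancel h3).symm
        rwa [e] at hh
    · refine (Subgroup.card_subgroup_dvd_card _).trans ?_
      rw [IsCyclic.card_mulAut, hQc, Nat.totient_prime (by norm_num)]
  have hN5 : 5 ∣ Nat.card N := by
    have := Subgroup.card_dvd_of_le (Subgroup.le_normalizer : Q ≤ N)
    rwa [hQc] at this
  obtain ⟨c, hc⟩ := hN5
  rw [hc] at hNdvd hm
  have hc4 : c ∣ 4 := Nat.dvd_of_mul_dvd_mul_left (by norm_num) hNdvd
  have h3 : c ≠ 3 := by rintro rfl; norm_num at hc4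
  have hc' : c ≤ 4 := Nat.le_of_dvd (by norm_num) hc4
  rw [hn] at hm
  have e : Nat.card (Sylow 5 H) * c = 11 * n := by linarith
  set m := Nat.card (Sylow 5 H)
  have : c ≠ 0 := by rintro rfl; norm_num at hc4
  interval_cases c <;> omega

/-- The order of a non-solvable transitive group of even permutations of 11 points. -/
theorem card_cases [IsPretransitive H α] (hH : ¬ Group.IsSolvable H)
    (heven : H ≤ alternatingGroup α) (hA : ¬ alternatingGroup α ≤ H) :
    Nat.card H = 660 ∨ Nat.card H = 7920 := by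
  haveI : Fact (Nat.Prime 11) := ⟨by norm_num⟩
  haveI : Nontrivial α := Fintype.one_lt_card_iff_nontrivial.mp (by omega)
  have hprim : IsPreprimitive H α :=
    IsPreprimitive.of_prime_card (by rw [Nat.card_eq_fintype_card, hα]; norm_num)
  have h2 : IsMultiplyPretransitive H α 2 :=
    (Cfsg.Agent.FGS80.Burnside.isSolvable_or_two_transitive (G := H) hα).resolve_left hH
  set P : Sylow 11 H := default
  set N := Subgroup.normalizer ((P : Subgroup H) : Set H)
  have hN11 : 11 ∣ Nat.card N := by
    have := Subgroup.card_dvd_of_le (Subgroup.le_normalizer : (P : Subgroup H) ≤ N)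
    rwa [card_sylow hα P] at this
  have hNdvd : Nat.card N ∣ 110 := card_normalizer_dvd hα P
  have hodd : ¬ Even (Nat.card N) := by
    intro he
    obtain ⟨τ, e, t, b, -, -, ht⟩ := exists_reflection hα (by norm_num) P he
    have hperm : ((t : H) : Equiv.Perm α) = (e.symm.trans (Equiv.subLeft b)).trans e := by
      ext x
      obtain ⟨i, rfl⟩ := e.surjective x
      show t • e i = _
      simp [ht]
    have hs : Equiv.Perm.sign ((t : H) : Equiv.Perm α) = 1 :=
      Equiv.Perm.mem_alternatingGroup.mp (heven t.2)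
    rw [hperm, Equiv.Perm.sign_symm_trans_trans] at hs
    rw [sign_reflection] at hs
    exact absurd hs (by decide)
  have hN55 : Nat.card N = 55 := by
    have hne : Nat.card N ≠ 11 := card_normalizer_ne_prime hα hH P
    rw [Nat.even_iff] at hodd
    obtain ⟨c, hc⟩ := hN11
    have : c ∣ 10 := by
      rw [hc] at hNdvd
      exact (Nat.mul_dvd_mul_iff_left (show 0 < 11 by norm_num)).mp (show 11 * c ∣ 11 * 10 from hNdvd)
    have : c ≤ 10 := Nat.le_of_dvd (by norm_num) this
    interval_cases c <;> omega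
  obtain ⟨n, hn, hn11⟩ := exists_card_eq_mul P
  rw [show Nat.card (Subgroup.normalizer ((P : Subgroup H) : Set H)) = 55 from hN55, mul_comm] at hn
  have h55 : 55 * n ∣ 19958400 := by
    have h0 := hn ▸ Subgroup.card_dvd_of_le heven
    rw [nat_card_alternatingGroup, Nat.card_eq_fintype_card, hα] at h0
    norm_num [Nat.factorial] at h0
    exact h0
  have h5n : ¬ 5 ∣ n := fun ⟨k, hk⟩ =>
    not_twentyfive hα hprim hA ⟨11 * k, by rw [hn, hk]; ring⟩
  have h7n : ¬ 7 ∣ n := fun h => not_seven hα hprim hA (hn ▸ dvd_mul_of_dvd_right h 55)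
  have h11n : ¬ 11 ∣ n := by omega
  have hdiv : n ∣ 2 ^ 7 * 3 ^ 4 := by
    have h1 : n ∣ (2 ^ 7 * 3 ^ 4) * (5 * 7) := by
      have := Nat.dvd_of_mul_dvd_mul_left (by norm_num : 0 < 55)
        (show 55 * n ∣ 55 * ((2 ^ 7 * 3 ^ 4) * (5 * 7)) by norm_num; exact h55)
      exact this
    have hc5 : n.Coprime 5 := ((by norm_num : Nat.Prime 5).coprime_iff_not_dvd.2 h5n).symm
    have hc7 : n.Coprime 7 := ((by norm_num : Nat.Prime 7).coprime_iff_not_dvd.2 h7n).symm
    exact (hc5.mul_right hc7).dvd_of_dvd_mul_right h1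
  have heven2 : 2 ∣ n := by
    obtain ⟨a, b, hab⟩ := exists_pair_ne α
    haveI := h2
    have h110 : 2 ∣ Nat.card H := by
      rw [card_eq_mul_card_stabilizer (G := H) a, card_stabilizer_two (Ne.symm hab),
        Nat.card_eq_fintype_card, hα]
      exact Dvd.dvd.mul_left (Dvd.dvd.mul_right (by norm_num) _) 11
    rw [hn] at h110
    exact (Nat.Coprime.dvd_mul_left (by norm_num)).1 h110
  have hmod5 := five_mod hα hprim hA heven hn
  obtain ⟨a, b, ha, hb, hab⟩ := exists_dvd_and_dvd_of_dvd_mul hdiv
  obtain ⟨i, hi, rfl⟩ := (Nat.dvd_prime_pow Nat.prime_two).1 ha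
  obtain ⟨j, hj, rfl⟩ := (Nat.dvd_prime_pow Nat.prime_three).1 hb
  subst hab
  rw [hn]
  interval_cases i <;> interval_cases j <;> simp_all

end Cfsg.Agent.Perm.DegreeEleven
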