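import Cfsg.Agent.Lib.Perm.Basic

/-!
Generously transitive groups.
-/

set_option autoImplicit false

namespace Cfsg.Agent.Perm.Generous

open MulAction
open scoped Pointwise

variable {α : Type*} [Fintype α] [DecidableEq α] {G : Subgroup (Equiv.Perm α)} {k : ℕ}
  (hgen : ∀ s : Finset α, s.card = k + 1 → ∀ σ : Equiv.Perm ↥s,
    ∃ g ∈ G, ∀ x : ↥s, g (x : α) = σ x)

include hgen

theorem exists_apply_eq {s : Finset α} (hs : s.card = k + 1) {π : Equiv.Perm α}
    (hπ : ∀ x, x ∈ s ↔ π x ∈ s) : ∃ g ∈ G, ∀ x ∈ s, g x = π x := by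
  obtain ⟨g, hg, e⟩ := hgen s hs (π.subtypePerm fun x => (hπ x).symm)
  exact ⟨g, hg, fun x hx => e ⟨x, hx⟩⟩

theorem multiplyTransitive (hk : k < Fintype.card α) : IsMultiplyPretransitive G α k := by
  rw [MulAction.isMultiplyPretransitive_iff]
  suffices ∀ (d : ℕ) (x y : Fin k ↪ α), (Finset.univ.filter fun i => x i ≠ y i).card ≤ d →
      ∃ g : G, g • x = y from fun x y => this _ x y le_rfl
  intro d
  induction d with
  | zero =>
    intro x y h
    refine ⟨1, ?_⟩
    ext i
    simp only [Nat.le_zero, Finset.card_eq_zero, Finset.filter_eq_empty_iff, Finset.mem_univ,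
      ne_eq, not_not, true_implies] at h
    show x i = y i
    exact h (x := i)
  | succ d ih =>
    intro x y h
    by_cases hall : ∀ i, x i = y i
    · exact ⟨1, by ext i; exact hall i⟩
    push Not at hall
    obtain ⟨i, hi⟩ := hall
    have hcard : (insert (y i) (Finset.univ.map x)).card ≤ k + 1 :=
      (Finset.card_insert_le _ _).trans (by simp)
    obtain ⟨s, hsub, hs⟩ := Finset.exists_superset_card_eq hcard (by omega)
    have hxs : ∀ j, x j ∈ s := fun j => hsub (by simp)
    have hys : y i ∈ s := hsub (by simp)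
    let π := Equiv.swap (x i) (y i)
    have hπ : ∀ z, z ∈ s ↔ π z ∈ s := by
      intro z
      simp only [π, Equiv.swap_apply_def]
      split_ifs with h1 h2
      · simp [h1, hxs i, hys]
      · simp [h2, hxs i, hys]
      · rfl
    obtain ⟨g, hg, hgs⟩ := exists_apply_eq hgen hs hπ
    have hgx : ∀ j, ((⟨g, hg⟩ : G) • x) j = π (x j) := fun j => hgs _ (hxs j)
    have hlt : (Finset.univ.filter fun j => ((⟨g, hg⟩ : G) • x) j ≠ y j) ⊂
        Finset.univ.filter fun j => x j ≠ y j := by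
      refine ⟨fun j hj => ?_, fun hsub' => ?_⟩
      · simp only [Finset.mem_filter, Finset.mem_univ, true_and, hgx] at hj ⊢
        intro e
        apply hj
        by_cases hji : j = i
        · exact absurd (hji ▸ e) hi
        · rw [e]
          refine Equiv.swap_apply_of_ne_of_ne (fun e' => ?_) (y.injective.ne hji)
          exact hji (x.injective (e.trans e'))
      · have := hsub' (show i ∈ Finset.univ.filter fun j => x j ≠ y j by simp [hi])
        simp [hgx, π] at this
    have := Finset.card_lt_card hlt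
    obtain ⟨g', hg'⟩ := ih ((⟨g, hg⟩ : G) • x) y (by omega)
    exact ⟨g' * ⟨g, hg⟩, by ext j; exact congrArg (fun e : Fin k ↪ α => e j) hg'⟩

theorem exists_fixing {s : Finset α} (hs : s.card = k) {a b : α} (ha : a ∉ s) (_hb : b ∉ s)
    (h : ∃ g ∈ G, g • s = s ∧ g a = b) : ∃ g ∈ G, (∀ x ∈ s, g x = x) ∧ g a = b := by
  obtain ⟨g, hg, hgs, hab⟩ := h
  have hmem : ∀ x, x ∈ s ↔ g x ∈ s := fun x => by
    conv_rhs => rw [← hgs]
    exact (Finset.smul_mem_smul_finset_iff g).symm
  let π : Equiv.Perm α := Equiv.Perm.ofSubtype (g.subtypePerm fun x => (hmem x).symm)⁻¹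
  have hπa : π a = a := Equiv.Perm.ofSubtype_apply_of_not_mem _ ha
  have hπs : ∀ x ∈ s, π x ∈ s ∧ g (π x) = x := fun x hx => by
    have e : π x = ((g.subtypePerm fun x => (hmem x).symm)⁻¹ ⟨x, hx⟩ : α) := Equiv.Perm.ofSubtype_apply_coe _ ⟨x, hx⟩
    rw [e]
    refine ⟨Subtype.mem _, ?_⟩
    have := congrArg Subtype.val ((g.subtypePerm fun x => (hmem x).symm).apply_symm_apply ⟨x, hx⟩)
    exact this
  have hins : ∀ x, x ∈ insert a s ↔ π x ∈ insert a s := by
    intro x
    rcases eq_or_ne x a with rfl | hxa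
    · simp [hπa]
    · by_cases hxs : x ∈ s
      · simp [hxs, (hπs x hxs).1]
      · rw [show π x = x from Equiv.Perm.ofSubtype_apply_of_not_mem _ hxs]
  obtain ⟨h', hh', he⟩ := exists_apply_eq hgen
    (by rw [Finset.card_insert_of_notMem ha, hs]) hins
  refine ⟨g * h', G.mul_mem hg hh', fun x hx => ?_, ?_⟩
  · rw [Equiv.Perm.mul_apply, he x (Finset.mem_insert_of_mem hx), (hπs x hx).2]
  · rw [Equiv.Perm.mul_apply, he a (Finset.mem_insert_self _ _), hπa, hab]

theorem exists_dvd_card_orbit (hk : k < Fintype.card α) {p : ℕ} (hp : p.Prime) (hpk : p ≤ k)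
    (Γ : Finset α) (hΓ : Γ.card = k) (f : Fin p → α) (hf : ∀ i, f i ∉ Γ)
    (hdist : ∀ i j, i ≠ j → f j ∉ orbit (fixingSubgroup G (Γ : Set α)) (f i)) :
    ∃ i, p ∣ Nat.card (orbit (fixingSubgroup G (Γ : Set α)) (f i)) := by
  by_contra hall
  push Not at hall
  haveI : Fact p.Prime := ⟨hp⟩
  set S := fixingSubgroup G (Γ : Set α) with hS
  obtain ⟨T, hTΓ, hT⟩ := Finset.exists_subset_card_eq (hΓ ▸ hpk : p ≤ Γ.card)
  obtain ⟨σ, hσ⟩ := exists_prime_orderOf_dvd_card' (G := Equiv.Perm T) p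
    (by rw [Nat.card_perm, Nat.card_eq_fintype_card, Fintype.card_coe, hT]
        exact Nat.dvd_factorial hp.pos le_rfl)
  let π : Equiv.Perm α := Equiv.Perm.ofSubtype σ
  have hπout : ∀ x ∉ T, π x = x := fun x hx => Equiv.Perm.ofSubtype_apply_of_not_mem _ hx
  have hπo : orderOf π = p := by
    rw [← hσ]; exact orderOf_injective _ Equiv.Perm.ofSubtype_injective σ
  have hπin : ∀ x ∈ T, π x ∈ T := fun x hx => by
    rw [show π x = (σ ⟨x, hx⟩ : α) from Equiv.Perm.ofSubtype_apply_coe σ ⟨x, hx⟩]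
    exact Subtype.mem _
  have hπT : ∀ x, x ∈ T ↔ π x ∈ T := fun x =>
    ⟨hπin x, fun h => by_contra fun hx => hx (hπout x hx ▸ h)⟩
  have hπΓ : ∀ x, x ∈ Γ ↔ π x ∈ Γ := fun x => by
    by_cases hx : x ∈ T
    · simp [hTΓ hx, hTΓ ((hπT x).mp hx)]
    · rw [hπout x hx]
  obtain ⟨a, ha⟩ : ∃ a, a ∉ Γ := by
    by_contra h
    push Not at h
    rw [Finset.eq_univ_of_forall h, Finset.card_univ] at hΓ
    omega
  obtain ⟨g₀, hg₀, hg₀e⟩ := exists_apply_eq hgen
    (show (insert a Γ).card = k + 1 by rw [Finset.card_insert_of_notMem ha, hΓ])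
    (π := π) (fun x => by
      rcases eq_or_ne x a with rfl | hxa
      · simp [hπout x (fun h => ha (hTΓ h))]
      · by_cases hx : x ∈ Γ
        · simp [hx, (hπΓ x).mp hx]
        · rw [hπout x (fun h => hx (hTΓ h))])
  let g₁ : G := ⟨g₀, hg₀⟩
  have hg₁ : ∀ x ∈ Γ, g₁ • x = π x := fun x hx => hg₀e x (Finset.mem_insert_of_mem hx)
  have hg₁Γ : g₁ • (Γ : Set α) = Γ := by
    apply Set.eq_of_subset_of_ncard_le (ht := Set.toFinite _)
    · rintro _ ⟨x, hx, rfl⟩
      show g₁ • x ∈ (Γ : Set α)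
      rw [hg₁ x hx]; exact (hπΓ x).mp hx
    · rw [Set.ncard_smul_set]
  -- elements of the set stabiliser normalise `S`
  have hnorm : ∀ u : G, u • (Γ : Set α) = Γ → S.map (MulAut.conj u).toMonoidHom = S :=
    fun u hu => SubMulAction.fixingSubgroup_map_conj_eq hu
  obtain ⟨P⟩ := (inferInstance : Nonempty (Sylow p S))
  let PG : Subgroup G := (P : Subgroup S).map S.subtype
  have hPcard : Nat.card PG = Nat.card (P : Subgroup S) :=
    Subgroup.card_map_of_injective S.subtype_injective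
  have hPmax : ∀ Q : Subgroup G, IsPGroup p Q → Q ≤ S → Nat.card Q ≤ Nat.card PG := by
    intro Q hQ hQS
    have hQ' : IsPGroup p (Q.subgroupOf S) := hQ.comap_subtype
    obtain ⟨P', hP'⟩ := hQ'.exists_le_sylow
    rw [hPcard, P.card_eq_multiplicity, ← P'.card_eq_multiplicity,
      ← Nat.card_congr (Subgroup.subgroupOfEquivOfLe hQS).toEquiv]
    exact Subgroup.card_le_of_le hP'
  -- Frattini
  obtain ⟨v, hv, hvP⟩ : ∃ v ∈ S, (PG.map (MulAut.conj g₁).toMonoidHom).map
      (MulAut.conj v).toMonoidHom = PG := by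
    let P₁ : Subgroup G := PG.map (MulAut.conj g₁).toMonoidHom
    have hP₁S : P₁ ≤ S := (Subgroup.map_mono (Subgroup.map_subtype_le _)).trans (hnorm g₁ hg₁Γ).le
    have hc1 : Nat.card P₁ = Nat.card PG :=
      Subgroup.card_map_of_injective (MulAut.conj g₁).injective
    let P₂ : Sylow p S := Sylow.ofCard (P₁.subgroupOf S) (by
      rw [Nat.card_congr (Subgroup.subgroupOfEquivOfLe hP₁S).toEquiv, hc1, hPcard,
        P.card_eq_multiplicity])
    obtain ⟨v, hv⟩ := exists_smul_eq S P₂ P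
    refine ⟨v, v.2, ?_⟩
    show P₁.map (MulAut.conj (v : G)).toMonoidHom = PG
    have hv' : ((P₁.subgroupOf S).map (MulAut.conj v).toMonoidHom) = (P : Subgroup S) := by
      rw [← hv]; rfl
    calc P₁.map (MulAut.conj (v : G)).toMonoidHom
        = ((P₁.subgroupOf S).map S.subtype).map (MulAut.conj (v : G)).toMonoidHom := by
          rw [Subgroup.map_subgroupOf_eq_of_le hP₁S]
      _ = ((P₁.subgroupOf S).map (MulAut.conj v).toMonoidHom).map S.subtype := by
          rw [Subgroup.map_map, Subgroup.map_map]; rfl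
      _ = PG := by rw [hv']
  let g₂ : G := v * g₁
  have hg₂ : ∀ x ∈ Γ, g₂ • x = π x := fun x hx => by
    rw [mul_smul, hg₁ x hx]
    exact (mem_fixingSubgroup_iff G).mp hv _ ((hπΓ x).mp hx)
  have hg₂n : g₂ ∈ Subgroup.normalizer (PG : Set G) := by
    have : PG.map (MulAut.conj g₂).toMonoidHom = PG := by
      have e : (MulAut.conj g₂).toMonoidHom =
          (MulAut.conj v).toMonoidHom.comp (MulAut.conj g₁).toMonoidHom := by
        ext x
        simp [g₂, mul_assoc]
      rw [e, ← Subgroup.map_map]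
      exact hvP
    rw [Subgroup.mem_normalizer_iff]
    intro x
    constructor
    · intro hx
      have h := Subgroup.mem_map_of_mem (MulAut.conj g₂).toMonoidHom hx
      rw [this] at h
      simpa using h
    · intro hx
      rw [← this, Subgroup.mem_map] at hx
      obtain ⟨w, hw, e⟩ := hx
      have : w = x := by simpa using e
      exact this ▸ hw
  -- the p-part
  obtain ⟨e, m, hm, hem⟩ := Nat.exists_eq_pow_mul_and_not_dvd (orderOf_pos g₂).ne' p hp.ne_one
  let g := g₂ ^ m
  have hgΓ : ∀ n : ℕ, ∀ x ∈ Γ, g₂ ^ n • x = (π ^ n) x ∧ (π ^ n) x ∈ Γ := by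
    intro n
    induction n with
    | zero => intro x hx; simp [hx]
    | succ n ih =>
      intro x hx
      obtain ⟨h1, h2⟩ := ih x hx
      rw [pow_succ', mul_smul, h1, hg₂ _ h2, pow_succ', Equiv.Perm.mul_apply]
      exact ⟨rfl, (hπΓ _).mp h2⟩
  have hgS : g ∉ S := by
    intro hgS
    have hπm : π ^ m = 1 := by
      ext x
      by_cases hx : x ∈ Γ
      · rw [← (hgΓ m x hx).1]; exact (mem_fixingSubgroup_iff G).mp hgS x hx
      · rw [Equiv.Perm.coe_one, id_eq]
        exact Equiv.Perm.pow_apply_eq_self_of_apply_eq_self (hπout x fun h => hx (hTΓ h)) m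
    exact hm (hπo ▸ orderOf_dvd_of_pow_eq_one hπm)
  have hgp : IsPGroup p (Subgroup.zpowers g) := by
    refine IsPGroup.of_card_dvd_pow (n := e) ?_
    rw [Nat.card_zpowers]
    exact orderOf_dvd_of_pow_eq_one
      (by rw [← pow_mul, mul_comm m, ← hem]; exact pow_orderOf_eq_one g₂)
  let Q : Subgroup G := PG ⊔ Subgroup.zpowers g
  have hQp : IsPGroup p Q := IsPGroup.to_sup_of_normal_left'
    (P.2.map S.subtype) hgp (Subgroup.zpowers_le.mpr (pow_mem hg₂n m))
  have hQgt : Nat.card PG < Nat.card Q := by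
    by_contra hle
    push Not at hle
    have := Subgroup.eq_of_le_of_card_ge (le_sup_left : PG ≤ Q) hle
    apply hgS
    have hg : g ∈ PG := this ▸ Subgroup.mem_sup_right (Subgroup.mem_zpowers g)
    exact Subgroup.map_subtype_le _ hg
  have hQΓ : Q ≤ stabilizer G (Γ : Set α) := by
    refine sup_le ((Subgroup.map_subtype_le _).trans (fixingSubgroup_le_stabilizer G _)) ?_
    rw [Subgroup.zpowers_le]
    refine pow_mem ?_ m
    rw [mem_stabilizer_iff]
    apply Set.eq_of_subset_of_ncard_le (ht := Set.toFinite _)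
    · rintro _ ⟨x, hx, rfl⟩
      show g₂ • x ∈ (Γ : Set α)
      rw [hg₂ x hx]; exact (hπΓ x).mp hx
    · rw [Set.ncard_smul_set]
  have horb : ∀ i (q : Q) y, y ∈ orbit S (f i) → (q : G) • y ∈ orbit S (f i) := by
    intro i q y hy
    have hq : (q : G) • (Γ : Set α) = Γ := hQΓ q.2
    obtain ⟨⟨w, hw⟩, rfl⟩ := hy
    have hu : ((q : G) * w) • (Γ : Set α) = Γ := by
      rw [mul_smul, (fixingSubgroup_le_stabilizer G _ hw : w • (Γ : Set α) = Γ), hq]
    obtain ⟨r, hr, hrs, hre⟩ := exists_fixing hgen hΓ (hf i)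
      (b := (((q : G) * w : G) : Equiv.Perm α) (f i)) (fun h => by
        have h' : ((q : G) * w) • f i ∈ ((q : G) * w) • (Γ : Set α) := by rw [hu]; exact h
        exact hf i (Set.smul_mem_smul_set_iff.mp h'))
      ⟨_, SetLike.coe_mem _, by
        apply Finset.coe_injective
        rw [Finset.coe_smul_finset]; exact hu, rfl⟩
    refine ⟨⟨⟨r, hr⟩, (mem_fixingSubgroup_iff G).mpr fun x hx => hrs x hx⟩, ?_⟩
    show r (f i) = _
    rw [hre]
    exact mul_smul (q : G) w (f i)
  have hfix : ∀ i, ∃ c ∈ orbit S (f i), ∀ q : Q, (q : G) • c = c := by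
    intro i
    let A : SubMulAction Q α := ⟨orbit S (f i), fun q y hy => horb i q y hy⟩
    obtain ⟨⟨c, hc⟩, hcf⟩ := hQp.nonempty_fixed_point_of_prime_not_dvd_card A
      (by exact hall i)
    exact ⟨c, hc, fun q => congrArg Subtype.val (hcf q)⟩
  choose c hc hcfix using hfix
  have hcinj : Function.Injective c := fun i j h => by
    by_contra hne
    apply hdist i j hne
    rw [← orbit_eq_iff.mpr (h ▸ hc i : c j ∈ orbit S (f i)), orbit_eq_iff.mpr (hc j)]
    exact mem_orbit_self _
  let Γ' : Finset α := (Γ \ T) ∪ Finset.univ.map ⟨c, hcinj⟩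
  have hΓ' : Γ'.card = k := by
    rw [Finset.card_union_of_disjoint, Finset.card_sdiff_of_subset hTΓ, Finset.card_map,
      Finset.card_univ, Fintype.card_fin, hT, hΓ]
    · omega
    · rw [Finset.disjoint_left]
      intro x hx hx'
      obtain ⟨i, -, rfl⟩ := Finset.mem_map.mp hx'
      obtain ⟨⟨w, hw⟩, hwe⟩ := hc i
      have hcΓ : c i ∈ Γ := (Finset.mem_sdiff.mp hx).1
      have : w • f i ∈ w • (Γ : Set α) := by
        rw [(fixingSubgroup_le_stabilizer G _ hw : w • (Γ : Set α) = Γ),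
          show w • f i = c i from hwe]
        exact hcΓ
      exact hf i (Set.smul_mem_smul_set_iff.mp this)
  have hQ' : Q ≤ fixingSubgroup G (Γ' : Set α) := by
    intro q hq
    rw [mem_fixingSubgroup_iff]
    intro x hx
    rcases Finset.mem_union.mp hx with h | h
    · obtain ⟨hxΓ, hxT⟩ := Finset.mem_sdiff.mp h
      have hle : Q ≤ stabilizer G x := by
        refine sup_le (fun u hu => (mem_fixingSubgroup_iff G).mp
          (Subgroup.map_subtype_le _ hu) x hxΓ) ?_
        rw [Subgroup.zpowers_le]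
        refine pow_mem ?_ m
        rw [mem_stabilizer_iff, hg₂ x hxΓ, hπout x hxT]
      exact hle hq
    · obtain ⟨i, -, rfl⟩ := Finset.mem_map.mp h
      exact hcfix i ⟨q, hq⟩
  -- move `Γ'` to `Γ`
  haveI := multiplyTransitive hgen hk
  let x' : Fin k ↪ α := (Γ'.equivFinOfCardEq hΓ').symm.toEmbedding.trans (Function.Embedding.subtype _)
  let y' : Fin k ↪ α := (Γ.equivFinOfCardEq hΓ).symm.toEmbedding.trans (Function.Embedding.subtype _)
  obtain ⟨w, hw⟩ := exists_smul_eq G x' y'
  have hwΓ : w • (Γ' : Set α) = Γ := by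
    apply Set.eq_of_subset_of_ncard_le (ht := Set.toFinite _)
    · rintro _ ⟨z, hz, rfl⟩
      obtain ⟨i, hi⟩ := (Γ'.equivFinOfCardEq hΓ').symm.surjective ⟨z, hz⟩
      have : w • z = y' i := by
        rw [← hw]
        show w • z = w • x' i
        congr 1
        exact (congrArg Subtype.val hi).symm
      show w • z ∈ (Γ : Set α)
      rw [this]
      exact Subtype.mem _
    · rw [Set.ncard_smul_set, Set.ncard_coe_finset, Set.ncard_coe_finset, hΓ, hΓ']
  have h1 := hPmax (Q.map (MulAut.conj w).toMonoidHom) (hQp.map _) (by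
    rw [show S = (fixingSubgroup G (Γ' : Set α)).map (MulAut.conj w).toMonoidHom from
      (SubMulAction.fixingSubgroup_map_conj_eq hwΓ).symm]
    exact Subgroup.map_mono hQ')
  rw [Subgroup.card_map_of_injective (MulAut.conj w).injective] at h1
  omega

end Cfsg.Agent.Perm.Generous
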