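import Mathlib

/-!
Certificates for subgroups of `GL(2,p)` given by generators, regular on non-zero vectors.
-/

set_option autoImplicit false

namespace Cfsg.Agent.Perm.MatClosure

/-- A `2 × 2` matrix with natural number entries. -/
abbrev Quad := ℕ × ℕ × ℕ × ℕ

/-- Product of matrices, reduced modulo `p`. -/
def mulQ (p : ℕ) : Quad → Quad → Quad
  | (a, b, c, d), (a', b', c', d') =>
    ((a * a' + b * c') % p, (a * b' + b * d') % p, (c * a' + d * c') % p, (c * b' + d * d') % p)

/-- Scalar times a matrix, reduced modulo `p`. -/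
def smulQ (p s : ℕ) : Quad → Quad
  | (a, b, c, d) => (s * a % p, s * b % p, s * c % p, s * d % p)

/-- All entries are reduced. -/
def redQ (p : ℕ) : Quad → Bool
  | (a, b, c, d) => decide (a < p) && decide (b < p) && decide (c < p) && decide (d < p)

/-- The determinant is one modulo `p`. -/
def detOneQ (p : ℕ) : Quad → Bool
  | (a, b, c, d) => decide (a * d % p = (b * c + 1) % p)

/-- `x - 1` is invertible modulo `p`. -/
def fpfQ (p : ℕ) : Quad → Bool
  | (a, b, c, d) => decide ((a + p - 1) * (d + p - 1) % p ≠ b * c % p)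

/-- The list generated from the identity by a script of (parent, generator) steps. -/
def buildQ (p : ℕ) (gs : List Quad) : List (ℕ × ℕ) → List Quad :=
  List.foldl (fun acc s => acc ++ [mulQ p (acc.getD s.1 (1, 0, 0, 1)) (gs.getD s.2 (1, 0, 0, 1))])
    [(1, 0, 0, 1)]

variable {p : ℕ}

/-- The matrix over `ZMod p`. -/
def toMat (p : ℕ) : Quad → Matrix (Fin 2) (Fin 2) (ZMod p)
  | (a, b, c, d) => !![(a : ZMod p), (b : ZMod p); (c : ZMod p), (d : ZMod p)]

theorem toMat_mulQ (x y : Quad) : toMat p (mulQ p x y) = toMat p x * toMat p y := by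
  obtain ⟨a, b, c, d⟩ := x
  obtain ⟨a', b', c', d'⟩ := y
  simp only [toMat, mulQ, Matrix.mul_fin_two, ZMod.natCast_mod]
  push_cast
  rfl

theorem toMat_smulQ (s : ℕ) (x : Quad) : toMat p (smulQ p s x) = (s : ZMod p) • toMat p x := by
  obtain ⟨a, b, c, d⟩ := x
  simp only [toMat, smulQ, ZMod.natCast_mod]
  ext i j
  fin_cases i <;> fin_cases j <;> simp

theorem toMat_one : toMat p (1, 0, 0, 1) = 1 := by
  simp [toMat, Matrix.one_fin_two]

theorem redQ_smulQ (hp : 0 < p) (s : ℕ) (x : Quad) : redQ p (smulQ p s x) = true := by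
  obtain ⟨a, b, c, d⟩ := x
  simp [redQ, smulQ, Nat.mod_lt _ hp]

theorem eq_of_toMat_eq {x y : Quad} (hx : redQ p x = true) (hy : redQ p y = true)
    (h : toMat p x = toMat p y) : x = y := by
  obtain ⟨a, b, c, d⟩ := x
  obtain ⟨a', b', c', d'⟩ := y
  simp only [redQ, Bool.and_eq_true, decide_eq_true_eq] at hx hy
  have key : ∀ u v : ℕ, u < p → v < p → (u : ZMod p) = (v : ZMod p) → u = v := fun u v hu hv e => by
    have := congrArg ZMod.val e
    rwa [ZMod.val_natCast, ZMod.val_natCast, Nat.mod_eq_of_lt hu, Nat.mod_eq_of_lt hv] at this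
  have h00 := key a a' hx.1.1.1 hy.1.1.1 (congrFun (congrFun h 0) 0)
  have h01 := key b b' hx.1.1.2 hy.1.1.2 (congrFun (congrFun h 0) 1)
  have h10 := key c c' hx.1.2 hy.1.2 (congrFun (congrFun h 1) 0)
  have h11 := key d d' hx.2 hy.2 (congrFun (congrFun h 1) 1)
  simp [h00, h01, h10, h11]

variable [Fact p.Prime]

theorem det_ne_zero_of_fpfQ {x : Quad} (h : fpfQ p x = true) : (toMat p x - 1).det ≠ 0 := by
  obtain ⟨a, b, c, d⟩ := x
  simp only [fpfQ, decide_eq_true_eq] at h
  intro h0
  apply h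
  have hp := (Fact.out : p.Prime).one_le
  rw [Matrix.det_fin_two] at h0
  simp [toMat] at h0
  rw [← ZMod.natCast_eq_natCast_iff']
  push_cast [Nat.cast_sub (show 1 ≤ a + p by omega), Nat.cast_sub (show 1 ≤ d + p by omega)]
  rw [ZMod.natCast_self]
  linear_combination h0

/-- The main certificate lemma. -/
theorem closure_regular (gs : List Quad) (c m : ℕ) (script : List (ℕ × ℕ))
    (S : Set (Matrix.GeneralLinearGroup (Fin 2) (ZMod p)))
    (hS1 : ∀ g ∈ S, (∃ q ∈ gs, (g : Matrix (Fin 2) (Fin 2) (ZMod p)) = toMat p q) ∨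
      (g : Matrix (Fin 2) (Fin 2) (ZMod p)) = (c : ZMod p) • 1)
    (hS2 : ∀ q ∈ gs, ∃ g ∈ S, (g : Matrix (Fin 2) (Fin 2) (ZMod p)) = toMat p q)
    (hS3 : m = 1 ∨ ∃ g ∈ S, (g : Matrix (Fin 2) (Fin 2) (ZMod p)) = (c : ZMod p) • 1)
    (hm : 0 < m) (hcm : c ^ m % p = 1)
    (hclosed : ((buildQ p gs script).all fun x => gs.all fun q =>
      (buildQ p gs script).contains (mulQ p x q)) = true)
    (hred : ((buildQ p gs script).all (redQ p)) = true)
    (hnodup : (buildQ p gs script).Nodup)
    (hdistinct : (((List.range m).drop 1).all fun j => decide (c ^ (2 * j) % p ≠ 1)) = true ∧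
      (m = 1 ∨ ((buildQ p gs script).all (detOneQ p)) = true))
    (hfpf : ((buildQ p gs script).all fun x => (List.range m).all fun j =>
      fpfQ p (smulQ p (c ^ j) x) || (decide (x = (1, 0, 0, 1)) && decide (j = 0))) = true)
    (hcard : (buildQ p gs script).length * m + 1 = p * p) :
    Nat.card (Subgroup.closure S) = p * p - 1 ∧
      ∀ v w : Fin 2 → ZMod p, v ≠ 0 → w ≠ 0 → ∃! h : Subgroup.closure S,
        Matrix.mulVec ((h : Matrix.GeneralLinearGroup (Fin 2) (ZMod p)) :
          Matrix (Fin 2) (Fin 2) (ZMod p)) v = w := by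
  set L := buildQ p gs script with hL
  have hp0 : 0 < p := (Fact.out : p.Prime).pos
  let H := Subgroup.closure S
  -- generated
  have hgen : ∀ x ∈ L, ∃ g ∈ H, (g : Matrix (Fin 2) (Fin 2) (ZMod p)) = toMat p x := by
    suffices ∀ (l : List (ℕ × ℕ)) (acc : List Quad),
        (∀ x ∈ acc, ∃ g ∈ H, (g : Matrix (Fin 2) (Fin 2) (ZMod p)) = toMat p x) →
        ∀ x ∈ List.foldl (fun acc s => acc ++ [mulQ p (acc.getD s.1 (1, 0, 0, 1))
          (gs.getD s.2 (1, 0, 0, 1))]) acc l,
          ∃ g ∈ H, (g : Matrix (Fin 2) (Fin 2) (ZMod p)) = toMat p x from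
      this script [(1, 0, 0, 1)] (by
        intro x hx
        obtain rfl := List.mem_singleton.mp hx
        exact ⟨1, one_mem _, by simp [toMat_one]⟩)
    intro l
    induction l with
    | nil => intro acc h x hx; exact h x hx
    | cons s l ih =>
      intro acc h
      refine ih _ fun x hx => ?_
      rcases List.mem_append.mp hx with hx | hx
      · exact h x hx
      · obtain rfl := List.mem_singleton.mp hx
        have hget : ∀ (M : List Quad),
            (∀ x ∈ M, ∃ g ∈ H, (g : Matrix (Fin 2) (Fin 2) (ZMod p)) = toMat p x) →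
            ∀ i, ∃ g ∈ H, (g : Matrix (Fin 2) (Fin 2) (ZMod p)) = toMat p (M.getD i (1, 0, 0, 1)) := by
          intro M hM i
          rcases lt_or_ge i M.length with hi | hi
          · rw [List.getD_eq_getElem _ _ hi]; exact hM _ (List.getElem_mem hi)
          · rw [List.getD_eq_default _ _ hi]; exact ⟨1, one_mem _, by simp [toMat_one]⟩
        obtain ⟨g₁, hg₁, e₁⟩ := hget acc h s.1
        obtain ⟨g₂, hg₂, e₂⟩ := hget gs (fun q hq => by
          obtain ⟨g, hg, e⟩ := hS2 q hq
          exact ⟨g, Subgroup.subset_closure hg, e⟩) s.2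
        exact ⟨g₁ * g₂, mul_mem hg₁ hg₂, by rw [Matrix.GeneralLinearGroup.coe_mul, toMat_mulQ, e₁, e₂]⟩
  have hscal : ∀ j < m, ∃ g ∈ H, (g : Matrix (Fin 2) (Fin 2) (ZMod p)) = (c : ZMod p) ^ j • 1 := by
    rcases hS3 with rfl | ⟨g, hg, e⟩
    · intro j hj
      exact ⟨1, one_mem _, by simp [Nat.lt_one_iff.mp hj]⟩
    · intro j _
      exact ⟨g ^ j, pow_mem (Subgroup.subset_closure hg) j, by
        rw [Units.val_pow_eq_pow_val, e, smul_pow, one_pow]⟩
  have hone : (1, 0, 0, 1) ∈ L := by
    have : ∀ (l : List (ℕ × ℕ)) (acc : List Quad), (1, 0, 0, 1) ∈ acc →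
        (1, 0, 0, 1) ∈ List.foldl (fun acc s => acc ++ [mulQ p (acc.getD s.1 (1, 0, 0, 1))
          (gs.getD s.2 (1, 0, 0, 1))]) acc l := by
      intro l
      induction l with
      | nil => exact fun acc h => h
      | cons s l ih => exact fun acc h => ih _ (List.mem_append.mpr (Or.inl h))
    exact this script _ (List.mem_singleton.mpr rfl)
  have hcm' : (c : ZMod p) ^ m = 1 := by
    have := congrArg (Nat.cast : ℕ → ZMod p) hcm
    rwa [ZMod.natCast_mod, Nat.cast_pow, Nat.cast_one] at this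
  -- every element is a scalar times a listed matrix
  have hform : ∀ g ∈ H, ∃ j < m, ∃ x ∈ L,
      (g : Matrix (Fin 2) (Fin 2) (ZMod p)) = (c : ZMod p) ^ j • toMat p x := by
    intro g hg
    have hfin : g ∈ Submonoid.closure S := by
      rw [← Subgroup.closure_toSubmonoid_of_finite]
      exact hg
    induction hfin using Submonoid.closure_induction_right with
    | one => exact ⟨0, hm, _, hone, by simp [toMat_one]⟩
    | mul_right g hgm y hy ih =>
      obtain ⟨j, hj, x, hx, e⟩ := ih ((mul_mem_cancel_right (Subgroup.subset_closure hy)).mp hg)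
      rcases hS1 y hy with ⟨q, hq, ey⟩ | ey
      · refine ⟨j, hj, mulQ p x q, ?_, ?_⟩
        · simpa using (List.all_eq_true.mp (List.all_eq_true.mp hclosed x hx) q hq)
        · rw [Matrix.GeneralLinearGroup.coe_mul, e, ey, toMat_mulQ, Matrix.smul_mul]
      · refine ⟨(j + 1) % m, Nat.mod_lt _ hm, x, hx, ?_⟩
        rw [Matrix.GeneralLinearGroup.coe_mul, e, ey, ← pow_eq_pow_mod (j + 1) hcm', pow_succ,
          Matrix.mul_smul, mul_one, smul_smul, mul_comm]
  have hsm : ∀ j x, toMat p (smulQ p (c ^ j) x) = (c : ZMod p) ^ j • toMat p x := fun j x => by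
    rw [toMat_smulQ, Nat.cast_pow]
  have hinj : ∀ j < m, ∀ l < m, ∀ x ∈ L, ∀ y ∈ L,
      (c : ZMod p) ^ j • toMat p x = (c : ZMod p) ^ l • toMat p y → j = l ∧ x = y := by
    have aux : ∀ j < m, ∀ l < m, j ≤ l → ∀ x ∈ L, ∀ y ∈ L,
        (c : ZMod p) ^ j • toMat p x = (c : ZMod p) ^ l • toMat p y → j = l ∧ x = y := by
      intro j _ l hl hjl x hx y hy e
      obtain ⟨d, rfl⟩ := Nat.exists_eq_add_of_le hjl
      have hc0 : (c : ZMod p) ≠ 0 := fun h0 => by
        rw [h0, zero_pow hm.ne'] at hcm'; exact zero_ne_one hcm'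
      rw [pow_add, ← smul_smul] at e
      have e' := smul_right_injective _ (pow_ne_zero j hc0) e
      rcases Nat.eq_zero_or_pos d with rfl | hd
      · rw [pow_zero, one_smul] at e'
        exact ⟨rfl, eq_of_toMat_eq (List.all_eq_true.mp hred x hx) (List.all_eq_true.mp hred y hy) e'⟩
      · exfalso
        have hd' : d < m := by omega
        have hdets : ∀ z ∈ L, (toMat p z).det = 1 := by
          intro z hz
          rcases hdistinct.2 with h | h
          · omega
          have := List.all_eq_true.mp h z hz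
          obtain ⟨za, zb, zc, zd⟩ := z
          simp only [detOneQ, decide_eq_true_eq] at this
          rw [← ZMod.natCast_eq_natCast_iff'] at this
          push_cast at this
          rw [Matrix.det_fin_two]
          simp [toMat]
          linear_combination this
        have hdd := congrArg Matrix.det e'
        rw [Matrix.det_smul, hdets x hx, hdets y hy, mul_one, Fintype.card_fin, ← pow_mul] at hdd
        have hmem : d ∈ (List.range m).drop 1 := by
          rw [List.mem_iff_getElem]
          refine ⟨d - 1, by simp; omega, ?_⟩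
          simp; omega
        have := List.all_eq_true.mp hdistinct.1 d hmem
        rw [decide_eq_true_eq] at this
        apply this
        have h1 : ((c ^ (2 * d) : ℕ) : ZMod p) = ((1 : ℕ) : ZMod p) := by
          push_cast; rw [mul_comm 2 d]; exact hdd.symm
        rw [ZMod.natCast_eq_natCast_iff'] at h1
        rw [h1]
        exact Nat.one_mod_eq_one.mpr (Fact.out : p.Prime).ne_one
    intro j hj l hl x hx y hy e
    rcases le_total j l with h | h
    · exact aux j hj l hl h x hx y hy e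
    · obtain ⟨h1, h2⟩ := aux l hl j hj h y hy x hx e.symm
      exact ⟨h1.symm, h2.symm⟩
  have hex : ∀ q : Fin m × Fin L.length, ∃ g : H, ((g : Matrix.GeneralLinearGroup (Fin 2) (ZMod p)) :
      Matrix (Fin 2) (Fin 2) (ZMod p)) = (c : ZMod p) ^ (q.1 : ℕ) • toMat p L[(q.2 : ℕ)] := by
    intro q
    obtain ⟨a, ha, ea⟩ := hgen _ (List.getElem_mem q.2.2)
    obtain ⟨b, hb, eb⟩ := hscal q.1 q.1.2
    exact ⟨⟨b * a, mul_mem hb ha⟩, by
      rw [Matrix.GeneralLinearGroup.coe_mul, ea, eb, Matrix.smul_mul, one_mul]⟩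
  choose Φ hΦ using hex
  have hΦb : Function.Bijective Φ := by
    constructor
    · rintro ⟨j, i⟩ ⟨l, k⟩ e
      have := hΦ (j, i)
      rw [e, hΦ] at this
      obtain ⟨h1, h2⟩ := hinj j j.2 l l.2 _ (List.getElem_mem i.2) _ (List.getElem_mem k.2) this.symm
      exact Prod.ext (Fin.ext h1) (Fin.ext ((hnodup.getElem_inj_iff).mp h2))
    · rintro ⟨g, hg⟩
      obtain ⟨j, hj, x, hx, e⟩ := hform g hg
      obtain ⟨i, hi, rfl⟩ := List.mem_iff_getElem.mp hx
      exact ⟨(⟨j, hj⟩, ⟨i, hi⟩), Subtype.ext (Units.ext ((hΦ _).trans e.symm))⟩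
  have hcardH : Nat.card H = p * p - 1 := by
    rw [← Nat.card_congr (Equiv.ofBijective Φ hΦb)]
    simp only [Nat.card_prod, Nat.card_fin]
    have hmul : m * L.length = L.length * m := Nat.mul_comm _ _
    omega
  refine ⟨hcardH, fun v w hv hw => ?_⟩
  have hfree : ∀ g : H, Matrix.mulVec ((g : Matrix.GeneralLinearGroup (Fin 2) (ZMod p)) :
      Matrix (Fin 2) (Fin 2) (ZMod p)) v = v → g = 1 := by
    rintro ⟨g, hg⟩ e
    obtain ⟨j, hj, x, hx, eg⟩ := hform g hg
    have hdet : ((g : Matrix (Fin 2) (Fin 2) (ZMod p)) - 1).det = 0 :=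
      Matrix.exists_mulVec_eq_zero_iff.mp ⟨v, hv, by
        rw [Matrix.sub_mulVec, Matrix.one_mulVec, e, sub_self]⟩
    have hb := List.all_eq_true.mp (List.all_eq_true.mp hfpf x hx) j (List.mem_range.mpr hj)
    rcases Bool.or_eq_true _ _ ▸ hb with h | h
    · exact absurd hdet (by rw [eg, ← hsm]; exact det_ne_zero_of_fpfQ h)
    · simp only [Bool.and_eq_true, decide_eq_true_eq] at h
      obtain ⟨rfl, rfl⟩ := h
      exact Subtype.ext (Units.ext (by simpa [toMat_one] using eg))
  let orb : H → {u : Fin 2 → ZMod p // u ≠ 0} := fun g =>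
    ⟨Matrix.mulVec ((g : Matrix.GeneralLinearGroup (Fin 2) (ZMod p)) :
      Matrix (Fin 2) (Fin 2) (ZMod p)) v, fun h0 => hv (by
        have h1 := congrArg (Matrix.mulVec ((((g : Matrix.GeneralLinearGroup (Fin 2) (ZMod p)))⁻¹ :
          Matrix.GeneralLinearGroup (Fin 2) (ZMod p)) : Matrix (Fin 2) (Fin 2) (ZMod p))) h0
        rwa [Matrix.mulVec_mulVec, ← Matrix.GeneralLinearGroup.coe_mul, inv_mul_cancel,
          Units.val_one, Matrix.one_mulVec, Matrix.mulVec_zero] at h1)⟩
  have horb : Function.Bijective orb := by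
    refine (Nat.bijective_iff_injective_and_card _).mpr ⟨fun g g' e => ?_, ?_⟩
    · have e' := congrArg Subtype.val e
      have := hfree (g'⁻¹ * g) (by
        rw [Subgroup.coe_mul, Matrix.GeneralLinearGroup.coe_mul, ← Matrix.mulVec_mulVec,
          show Matrix.mulVec _ v = _ from e', Matrix.mulVec_mulVec,
          ← Matrix.GeneralLinearGroup.coe_mul, ← Subgroup.coe_mul, inv_mul_cancel]
        simp)
      rw [inv_mul_eq_one] at this
      exact this.symm
    · classical
      rw [hcardH, Nat.card_eq_fintype_card, Fintype.card_subtype_compl, Fintype.card_subtype_eq,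
        Fintype.card_fun, ZMod.card, Fintype.card_fin, pow_two]
  obtain ⟨g, hg⟩ := horb.2 ⟨w, hw⟩
  exact ⟨g, congrArg Subtype.val hg, fun g' hg' => horb.1 (Subtype.ext (hg'.trans (congrArg Subtype.val hg).symm))⟩

end Cfsg.Agent.Perm.MatClosure
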