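import Mathlib.LinearAlgebra.FiniteDimensional.Defs
import Mathlib.LinearAlgebra.FiniteDimensional.Lemmas
import Mathlib.LinearAlgebra.Dimension.Finrank
import Mathlib.FieldTheory.Finiteness
import Mathlib.FieldTheory.Finite.Basic
import Mathlib.FieldTheory.Fixed
import Mathlib.RingTheory.IntegralDomain
import Mathlib.RingTheory.Adjoin.Basic
import Mathlib.GroupTheory.SpecificGroups.Cyclic
import Mathlib.GroupTheory.Subgroup.Centralizer
import Mathlib.GroupTheory.Solvable

/-!
# Linear groups regular on non-zero vectors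

For a linear group `H` over `ZMod p` regular on non-zero vectors and a normal abelian subgroup
`A`, the algebra generated by `A` is a field.
-/

set_option autoImplicit false
set_option linter.style.haveILetI false

namespace Cfsg.Agent.Perm.NearField

variable {p : ℕ} [Fact p.Prime] {V : Type*} [AddCommGroup V] [Module (ZMod p) V]

/-- `H` is regular on the non-zero vectors. -/
abbrev Reg (H : Subgroup (V ≃ₗ[ZMod p] V)) : Prop :=
  ∀ v w : V, v ≠ 0 → w ≠ 0 → ∃! h : H, (h : V ≃ₗ[ZMod p] V) v = w

/-- No cyclic normal subgroup of `H` is irreducible. -/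
abbrev NoIrredCyclic (H : Subgroup (V ≃ₗ[ZMod p] V)) : Prop :=
  ∀ A : Subgroup H, A.Normal → IsCyclic A → ∃ W : Submodule (ZMod p) V,
    W ≠ ⊥ ∧ W ≠ ⊤ ∧ ∀ a ∈ A, ∀ v ∈ W, ((a : H) : V ≃ₗ[ZMod p] V) v ∈ W

variable {H : Subgroup (V ≃ₗ[ZMod p] V)}

/-- The elements of `H` as endomorphisms. -/
def act (H : Subgroup (V ≃ₗ[ZMod p] V)) : H →* Module.End (ZMod p) V where
  toFun h := ((h : V ≃ₗ[ZMod p] V) : V →ₗ[ZMod p] V)
  map_one' := rfl
  map_mul' _ _ := rfl

@[simp] theorem act_apply (h : H) (v : V) : act H h v = (h : V ≃ₗ[ZMod p] V) v := rfl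

theorem act_injective : Function.Injective (act H) := fun _ _ hab =>
  Subtype.ext (LinearEquiv.toLinearMap_injective hab)

theorem act_inv_apply (h : H) (v : V) : act H h⁻¹ (act H h v) = v := by
  have := congrArg (fun f : Module.End (ZMod p) V => f v) (map_mul (act H) h⁻¹ h)
  rw [inv_mul_cancel, map_one] at this
  exact this.symm

theorem act_apply_inv (h : H) (v : V) : act H h (act H h⁻¹ v) = v := by
  have := act_inv_apply h⁻¹ v
  rwa [inv_inv] at this

theorem eq_one_of_fixed (hreg : Reg H) {h : H} {v : V} (hv : v ≠ 0)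
    (he : act H h v = v) : h = 1 :=
  (hreg v v hv hv).unique he rfl

theorem exists_act (hreg : Reg H) {v w : V} (hv : v ≠ 0) (hw : w ≠ 0) :
    ∃ h : H, act H h v = w := (hreg v w hv hw).exists

theorem act_ne_zero (h : H) {v : V} (hv : v ≠ 0) : act H h v ≠ 0 :=
  fun h0 => hv ((h : V ≃ₗ[ZMod p] V).map_eq_zero_iff.1 h0)

theorem card_eq (hreg : Reg H) [Finite V] [Nontrivial V] :
    Nat.card V = Nat.card H + 1 := by
  classical
  obtain ⟨v, hv⟩ := exists_ne (0 : V)
  let f : H → {w : V // w ≠ 0} := fun h => ⟨act H h v, act_ne_zero h hv⟩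
  have hf : Function.Bijective f := by
    refine ⟨fun a b hab => ?_, fun w => ?_⟩
    · exact (hreg v _ hv (act_ne_zero b hv)).unique (congrArg Subtype.val hab) rfl
    · obtain ⟨h, hh⟩ := exists_act hreg hv w.2
      exact ⟨h, Subtype.ext hh⟩
  rw [Nat.card_congr (Equiv.ofBijective f hf), Nat.card_congr (Equiv.optionSubtypeNe (0 : V)).symm,
    Finite.card_option]

theorem finite_of_reg (_hreg : Reg H) [Finite V] : Finite H :=
  Finite.of_injective (fun h : H => ((h : V ≃ₗ[ZMod p] V) : V → V))
    fun _ _ hab => Subtype.ext (DFunLike.coe_injective hab)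

theorem NoIrredCyclic.nontrivial (hI : NoIrredCyclic H) : Nontrivial V := by
  obtain ⟨W, hW0, -, -⟩ := hI ⊥ inferInstance inferInstance
  obtain ⟨w, -, hw⟩ := (Submodule.ne_bot_iff W).1 hW0
  exact nontrivial_of_ne w 0 hw

/-- The algebra generated by a subgroup of `H`. -/
def invAlg (A : Subgroup H) : Subalgebra (ZMod p) (Module.End (ZMod p) V) :=
  Algebra.adjoin (ZMod p) (act H '' (A : Set H))

variable {A : Subgroup H}

theorem act_mem_invAlg {a : H} (ha : a ∈ A) : act H a ∈ invAlg A :=
  Algebra.subset_adjoin (Set.mem_image_of_mem _ ha)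

theorem commute_of_centralizes {h : Module.End (ZMod p) V}
    (hc : ∀ a ∈ A, Commute h (act H a)) {e : Module.End (ZMod p) V} (he : e ∈ invAlg A) :
    Commute h e :=
  Algebra.commute_of_mem_adjoin_of_forall_mem_commute he (by rintro _ ⟨a, ha, rfl⟩; exact hc a ha)

theorem invAlg_comm (hA : IsMulCommutative A) {e f : Module.End (ZMod p) V}
    (he : e ∈ invAlg A) (hf : f ∈ invAlg A) : Commute e f := by
  refine commute_of_centralizes (fun a ha => ?_) hf
  refine (commute_of_centralizes (h := act H a) (fun b hb => ?_) he).symm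
  exact Commute.map (congrArg Subtype.val (hA.is_comm.comm ⟨a, ha⟩ ⟨b, hb⟩)) (act H)

theorem apply_mem_of_invariant {W : Submodule (ZMod p) V}
    (hW : ∀ a ∈ A, ∀ v ∈ W, act H a v ∈ W) {e : Module.End (ZMod p) V} (he : e ∈ invAlg A) :
    ∀ v ∈ W, e v ∈ W := by
  induction he using Algebra.adjoin_induction with
  | mem x hx => obtain ⟨a, ha, rfl⟩ := hx; exact hW a ha
  | algebraMap r => exact fun v hv => W.smul_mem r hv
  | add x y _ _ ihx ihy => exact fun v hv => W.add_mem (ihx v hv) (ihy v hv)
  | mul x y _ _ ihx ihy => exact fun v hv => ihx _ (ihy v hv)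

theorem conj_mem_invAlg (hAn : A.Normal) (h : H) {e : Module.End (ZMod p) V}
    (he : e ∈ invAlg A) : act H h * e * act H h⁻¹ ∈ invAlg A := by
  have h1 : act H h * act H h⁻¹ = 1 := by rw [← map_mul, mul_inv_cancel, map_one]
  have h2 : act H h⁻¹ * act H h = 1 := by rw [← map_mul, inv_mul_cancel, map_one]
  induction he using Algebra.adjoin_induction with
  | mem x hx =>
    obtain ⟨a, ha, rfl⟩ := hx
    rw [← map_mul, ← map_mul]
    exact act_mem_invAlg (hAn.conj_mem a ha h)
  | algebraMap r =>
    rw [← Algebra.commutes, mul_assoc, h1, mul_one]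
    exact Subalgebra.algebraMap_mem _ r
  | add x y _ _ ihx ihy => rw [mul_add, add_mul]; exact add_mem ihx ihy
  | mul x y _ _ ihx ihy =>
    have : act H h * (x * y) * act H h⁻¹ =
        (act H h * x * act H h⁻¹) * (act H h * y * act H h⁻¹) := by
      simp only [mul_assoc]
      rw [← mul_assoc (act H h⁻¹) (act H h), h2, one_mul]
    rw [this]
    exact mul_mem ihx ihy

/-- The map `e ↦ e v`. -/
def evalAt (A : Subgroup H) (v : V) : invAlg A →ₗ[ZMod p] V where
  toFun e := (e : Module.End (ZMod p) V) v
  map_add' _ _ := rfl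
  map_smul' _ _ := rfl

@[simp] theorem evalAt_apply (v : V) (e : invAlg A) :
    evalAt A v e = (e : Module.End (ZMod p) V) v := rfl

theorem mem_range_evalAt_self (v : V) : v ∈ LinearMap.range (evalAt A v) := ⟨1, rfl⟩

theorem range_evalAt_le {W : Submodule (ZMod p) V} (hW : ∀ a ∈ A, ∀ v ∈ W, act H a v ∈ W)
    {v : V} (hv : v ∈ W) : LinearMap.range (evalAt A v) ≤ W := by
  rintro _ ⟨e, rfl⟩
  exact apply_mem_of_invariant hW e.2 v hv

theorem range_evalAt_invariant (v : V) :
    ∀ a ∈ A, ∀ w ∈ LinearMap.range (evalAt A v), act H a w ∈ LinearMap.range (evalAt A v) := by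
  rintro a ha _ ⟨e, rfl⟩
  exact ⟨⟨act H a, act_mem_invAlg ha⟩ * e, rfl⟩

theorem exists_inverse_at [Finite V] (hreg : Reg H) (hAn : A.Normal)
    {u : V} (hu : u ≠ 0) {e : Module.End (ZMod p) V} (he : e ∈ invAlg A) (heu : e u ≠ 0) :
    ∃ f ∈ invAlg A, f (e u) = u := by
  obtain ⟨v, hv, hmin⟩ := Set.exists_min_image {v : V | v ≠ 0}
    (fun v => Nat.card (LinearMap.range (evalAt A v))) (Set.toFinite _) ⟨u, hu⟩
  have key : ∀ g ∈ invAlg A, g v ≠ 0 → ∃ f ∈ invAlg A, f (g v) = v := by
    intro g hg hgv
    have hle : LinearMap.range (evalAt A (g v)) ≤ LinearMap.range (evalAt A v) := by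
      rintro _ ⟨f, rfl⟩
      exact ⟨f * ⟨g, hg⟩, rfl⟩
    have heq : LinearMap.range (evalAt A (g v)) = LinearMap.range (evalAt A v) := by
      apply SetLike.coe_injective
      exact Set.eq_of_subset_of_ncard_le hle
        (by rw [← Nat.card_coe_set_eq, ← Nat.card_coe_set_eq]; exact hmin (g v) hgv) (Set.toFinite _)
    obtain ⟨f, hf⟩ := heq ▸ mem_range_evalAt_self (A := A) v
    exact ⟨f, f.2, hf⟩
  obtain ⟨h, rfl⟩ := exists_act hreg hv hu
  have hg : act H h⁻¹ * e * act H h ∈ invAlg A := by
    simpa using conj_mem_invAlg hAn h⁻¹ he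
  obtain ⟨f, hf, hfv⟩ := key _ hg (act_ne_zero (h⁻¹) heu)
  refine ⟨_, conj_mem_invAlg hAn h hf, ?_⟩
  exact congrArg (act H h) hfv

theorem eq_zero_of_apply_eq_zero [Finite V] (hreg : Reg H) (hAn : A.Normal)
    (hA : IsMulCommutative A) {e : Module.End (ZMod p) V} (he : e ∈ invAlg A) (he0 : e ≠ 0)
    {v : V} (hev : e v = 0) : v = 0 := by
  obtain ⟨u, hu⟩ : ∃ u, e u ≠ 0 := by
    by_contra hne
    push Not at hne
    exact he0 (LinearMap.ext hne)
  have hu0 : u ≠ 0 := fun h0 => hu (by rw [h0, map_zero])
  obtain ⟨f, hf, hfu⟩ := exists_inverse_at hreg hAn hu0 he hu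
  have hg : f * e ∈ invAlg A := mul_mem hf he
  have hguv : (f * e) (u + v) = u := by
    simp [Module.End.mul_apply, hfu, hev]
  have hne : (f * e) (u + v) ≠ 0 := by rw [hguv]; exact hu0
  have huv : u + v ≠ 0 := fun h0 => hne (by rw [h0, map_zero])
  obtain ⟨f', hf', hf'u⟩ := exists_inverse_at hreg hAn huv hg hne
  rw [hguv] at hf'u
  have hcomm : f' ((f * e) u) = (f * e) (f' u) :=
    LinearMap.congr_fun (invAlg_comm hA hf' hg).eq u
  have hgu : (f * e) u = u := hfu
  rw [hgu, hf'u, hguv] at hcomm
  simpa using hcomm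

theorem evalAt_injective [Finite V] (hreg : Reg H) (hAn : A.Normal) (hA : IsMulCommutative A)
    {v : V} (hv : v ≠ 0) : Function.Injective (evalAt A v) := by
  rw [injective_iff_map_eq_zero]
  intro e he
  by_contra h0
  exact hv (eq_zero_of_apply_eq_zero hreg hAn hA e.2 (fun h => h0 (Subtype.ext h)) he)

theorem finite_invAlg [Finite V] (A : Subgroup H) : Finite (invAlg A) :=
  Finite.of_injective (fun e : invAlg A => ((e : Module.End (ZMod p) V) : V → V))
    fun _ _ h => Subtype.ext (DFunLike.coe_injective h)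

theorem isField_invAlg [Finite V] [Nontrivial V] (hreg : Reg H) (hAn : A.Normal)
    (hA : IsMulCommutative A) : IsField (invAlg A) := by
  haveI := finite_invAlg A
  refine ⟨⟨0, 1, ?_⟩, fun x y => Subtype.ext (invAlg_comm hA x.2 y.2).eq, ?_⟩
  · obtain ⟨v, hv⟩ := exists_ne (0 : V)
    intro h
    exact hv (by simpa using LinearMap.congr_fun (congrArg Subtype.val h).symm v)
  · intro e he
    have hinj : Function.Injective fun f : invAlg A => e * f := by
      intro f g hfg
      apply Subtype.ext
      refine LinearMap.ext fun x => sub_eq_zero.1 ?_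
      refine eq_zero_of_apply_eq_zero hreg hAn hA e.2 (fun h => he (Subtype.ext h)) ?_
      rw [map_sub, sub_eq_zero]
      exact LinearMap.congr_fun (congrArg Subtype.val hfg) x
    exact (Finite.surjective_of_injective hinj) 1

theorem commute_act_of_mem_centralizer {c : H} (hc : c ∈ Subgroup.centralizer (A : Set H))
    {e : Module.End (ZMod p) V} (he : e ∈ invAlg A) : Commute (act H c) e :=
  commute_of_centralizes
    (fun a ha => (Commute.map (Subgroup.mem_centralizer_iff.1 hc a ha) (act H)).symm) he

/-- Conjugation by `h` as an automorphism of the algebra generated by `A`. -/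
def conjAlg (hAn : A.Normal) (h : H) : invAlg A ≃ₐ[ZMod p] invAlg A :=
  AlgEquiv.ofLinearEquiv
    { toFun := fun e => ⟨act H h * e * act H h⁻¹, conj_mem_invAlg hAn h e.2⟩
      map_add' := fun x y => Subtype.ext (by simp [mul_add, add_mul])
      map_smul' := fun r x => Subtype.ext (by simp)
      invFun := fun e => ⟨act H h⁻¹ * e * act H h, by simpa using conj_mem_invAlg hAn h⁻¹ e.2⟩
      left_inv := fun e => by
        apply Subtype.ext
        refine LinearMap.ext fun x => ?_
        simp only [Module.End.mul_apply]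
        rw [act_inv_apply, act_inv_apply]
      right_inv := fun e => by
        apply Subtype.ext
        refine LinearMap.ext fun x => ?_
        simp only [Module.End.mul_apply]
        rw [act_apply_inv, act_apply_inv] }
    (by
      apply Subtype.ext
      refine LinearMap.ext fun x => ?_
      exact act_apply_inv h x)
    (fun e f => by
      apply Subtype.ext
      refine LinearMap.ext fun x => ?_
      show act H h ((e : Module.End (ZMod p) V) ((f : Module.End (ZMod p) V) (act H h⁻¹ x))) =
        act H h ((e : Module.End (ZMod p) V) (act H h⁻¹ (act H h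
          ((f : Module.End (ZMod p) V) (act H h⁻¹ x)))))
      rw [act_inv_apply])

@[simp] theorem conjAlg_apply (hAn : A.Normal) (h : H) (e : invAlg A) :
    (conjAlg hAn h e : Module.End (ZMod p) V) = act H h * e * act H h⁻¹ := rfl

/-- The conjugation action of `H` on the algebra generated by `A`. -/
def conjHom (hAn : A.Normal) : H →* (invAlg A ≃ₐ[ZMod p] invAlg A) where
  toFun := conjAlg hAn
  map_one' := by
    apply AlgEquiv.ext
    intro e
    exact Subtype.ext (by simp)
  map_mul' g h := by
    apply AlgEquiv.ext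
    intro e
    exact Subtype.ext (by simp [mul_assoc])

theorem ker_conjHom (hAn : A.Normal) :
    (conjHom hAn).ker = Subgroup.centralizer (A : Set H) := by
  ext h
  rw [MonoidHom.mem_ker, Subgroup.mem_centralizer_iff]
  constructor
  · intro hh a ha
    have := congrArg (fun σ : invAlg A ≃ₐ[ZMod p] invAlg A =>
      (σ ⟨act H a, act_mem_invAlg ha⟩ : Module.End (ZMod p) V)) hh
    simp only [conjHom, MonoidHom.coe_mk, OneHom.coe_mk, conjAlg_apply, AlgEquiv.one_apply] at this
    rw [← map_mul, ← map_mul] at this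
    exact (mul_inv_eq_iff_eq_mul.1 (act_injective this)).symm
  · intro hh
    apply AlgEquiv.ext
    intro e
    apply Subtype.ext
    have hc := (commute_act_of_mem_centralizer (Subgroup.mem_centralizer_iff.2 hh) e.2).eq
    show act H h * e * act H h⁻¹ = e
    rw [hc, mul_assoc, ← map_mul, mul_inv_cancel, map_one, mul_one]

section Field

variable [Finite V] [Nontrivial V]

theorem isCyclic_of_abelian_normal (hreg : Reg H) (hAn : A.Normal) (hA : IsMulCommutative A) :
    IsCyclic A := by
  haveI := finite_of_reg hreg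
  letI : Field (invAlg A) := (isField_invAlg hreg hAn hA).toField
  refine isCyclic_of_injective_ringHom
    (((act H).comp A.subtype).codRestrict (invAlg A) fun a => act_mem_invAlg a.2) ?_
  intro a b hab
  exact Subtype.ext (act_injective (congrArg Subtype.val hab))

omit [Nontrivial V] in
theorem card_invAlg (A : Subgroup H) :
    Nat.card (invAlg A) = p ^ Module.finrank (ZMod p) (invAlg A) := by
  haveI := finite_invAlg A
  rw [Module.natCard_eq_pow_finrank (K := ZMod p), Nat.card_zmod]

theorem card_dvd (hreg : Reg H) (hAn : A.Normal) (hA : IsMulCommutative A) :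
    Nat.card A ∣ p ^ Module.finrank (ZMod p) (invAlg A) - 1 := by
  haveI := finite_invAlg A
  letI : Field (invAlg A) := (isField_invAlg hreg hAn hA).toField
  let f : A →* invAlg A :=
    ((act H).comp A.subtype).codRestrict (invAlg A) fun a => act_mem_invAlg a.2
  have hf : Function.Injective f.toHomUnits := fun a b hab =>
    Subtype.ext (act_injective (congrArg (fun u : (invAlg A)ˣ =>
      ((u : invAlg A) : Module.End (ZMod p) V)) hab))
  have := Subgroup.card_dvd_of_injective f.toHomUnits hf
  rwa [Nat.card_units, card_invAlg] at this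

omit [Nontrivial V] in
theorem finrank_range_evalAt (hreg : Reg H) (hAn : A.Normal) (hA : IsMulCommutative A)
    {v : V} (hv : v ≠ 0) :
    Module.finrank (ZMod p) (LinearMap.range (evalAt A v)) =
      Module.finrank (ZMod p) (invAlg A) :=
  LinearMap.finrank_range_of_inj (evalAt_injective hreg hAn hA hv)

omit [Nontrivial V] in
theorem range_evalAt_minimal (hreg : Reg H) (hAn : A.Normal)
    {v : V} (hv : v ≠ 0) (W' : Submodule (ZMod p) V) (hle : W' ≤ LinearMap.range (evalAt A v))
    (hW' : ∀ a ∈ A, ∀ w ∈ W', act H a w ∈ W') :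
    W' = ⊥ ∨ W' = LinearMap.range (evalAt A v) := by
  refine or_iff_not_imp_left.2 fun h0 => le_antisymm hle ?_
  obtain ⟨w, hw, hw0⟩ := (Submodule.ne_bot_iff W').1 h0
  obtain ⟨e, rfl⟩ := hle hw
  obtain ⟨f, hf, hfe⟩ := exists_inverse_at hreg hAn hv e.2 hw0
  refine range_evalAt_le hW' ?_
  have hfe' : f (evalAt A v e) = v := hfe
  rw [← hfe']
  exact apply_mem_of_invariant hW' hf _ hw

theorem finrank_invAlg_lt (hreg : Reg H) (hI : NoIrredCyclic H) (hAn : A.Normal)
    (hA : IsMulCommutative A) :
    Module.finrank (ZMod p) (invAlg A) < Module.finrank (ZMod p) V := by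
  obtain ⟨W, hW0, hW1, hW⟩ := hI A hAn (isCyclic_of_abelian_normal hreg hAn hA)
  obtain ⟨w, hw, hw0⟩ := (Submodule.ne_bot_iff W).1 hW0
  haveI : FiniteDimensional (ZMod p) V := Module.Finite.of_finite
  rw [← finrank_range_evalAt hreg hAn hA hw0]
  exact lt_of_le_of_lt (Submodule.finrank_mono (range_evalAt_le hW hw)) (Submodule.finrank_lt hW1)

theorem range_evalAt_ne_top (hreg : Reg H) (hI : NoIrredCyclic H) (hAn : A.Normal)
    (hA : IsMulCommutative A) {v : V} (hv : v ≠ 0) :
    LinearMap.range (evalAt A v) ≠ ⊤ := by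
  intro h
  have := finrank_invAlg_lt hreg hI hAn hA
  rw [← finrank_range_evalAt hreg hAn hA hv, h, finrank_top] at this
  exact lt_irrefl _ this

theorem sq_card_invAlg_le (hreg : Reg H) (hI : NoIrredCyclic H) (hAn : A.Normal)
    (hA : IsMulCommutative A) : Nat.card (invAlg A) ^ 2 ≤ Nat.card V := by
  haveI := finite_invAlg A
  obtain ⟨v, hv⟩ := exists_ne (0 : V)
  obtain ⟨u, hu⟩ : ∃ u, u ∉ LinearMap.range (evalAt A v) := by
    by_contra hne
    push Not at hne
    exact range_evalAt_ne_top hreg hI hAn hA hv (Submodule.eq_top_iff'.2 hne)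
  let F := (evalAt A v).coprod (evalAt A u)
  have hF : Function.Injective F := by
    rw [injective_iff_map_eq_zero]
    rintro ⟨e, f⟩ hef
    have hsum : evalAt A v e + evalAt A u f = 0 := hef
    rcases eq_or_ne f 0 with rfl | hf
    · rw [map_zero, add_zero] at hsum
      rw [evalAt_injective hreg hAn hA hv (hsum.trans (map_zero _).symm)]
      rfl
    · exfalso
      obtain ⟨g, hg⟩ := (isField_invAlg hreg hAn hA).mul_inv_cancel hf
      apply hu
      refine ⟨-(g * e), ?_⟩
      have hgf : g * f = 1 := ((isField_invAlg hreg hAn hA).mul_comm g f).trans hg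
      have h2 : (g : Module.End (ZMod p) V) (evalAt A v e + evalAt A u f) = 0 := by
        rw [hsum, map_zero]
      rw [map_add] at h2
      have h3 : (g : Module.End (ZMod p) V) (evalAt A u f) = u :=
        LinearMap.congr_fun (congrArg Subtype.val hgf) u
      rw [h3] at h2
      rw [map_neg]
      exact neg_eq_of_add_eq_zero_right h2
  calc Nat.card (invAlg A) ^ 2 = Nat.card (invAlg A × invAlg A) := by rw [Nat.card_prod, sq]
    _ ≤ Nat.card V := Nat.card_le_card_of_injective F hF

theorem card_range_conjHom_le (hreg : Reg H) (hAn : A.Normal) (hA : IsMulCommutative A) :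
    Nat.card (conjHom hAn).range ≤ Module.finrank (ZMod p) (invAlg A) := by
  haveI := finite_invAlg A
  letI : Field (invAlg A) := (isField_invAlg hreg hAn hA).toField
  haveI : FiniteDimensional (ZMod p) (invAlg A) := Module.Finite.of_finite
  refine le_trans ?_ (AlgEquiv.card_le (F := ZMod p) (K := invAlg A))
  rw [← Nat.card_eq_fintype_card]
  exact Nat.card_le_card_of_injective _ Subtype.val_injective

theorem conjHom_comm (hreg : Reg H) (hAn : A.Normal) (hA : IsMulCommutative A) (g h : H) :
    conjHom hAn g * conjHom hAn h = conjHom hAn h * conjHom hAn g := by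
  haveI := finite_invAlg A
  letI : Field (invAlg A) := (isField_invAlg hreg hAn hA).toField
  haveI : FiniteDimensional (ZMod p) (invAlg A) := Module.Finite.of_finite
  obtain ⟨i, hi⟩ := (FiniteField.bijective_frobeniusAlgEquivOfAlgebraic_pow (ZMod p) (invAlg A)).2
    (conjHom hAn g)
  obtain ⟨j, hj⟩ := (FiniteField.bijective_frobeniusAlgEquivOfAlgebraic_pow (ZMod p) (invAlg A)).2
    (conjHom hAn h)
  rw [← hi, ← hj]
  exact (Commute.pow_pow_self _ _ _).eq

/-- The centraliser of a maximal normal abelian subgroup is non-abelian. -/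
theorem centralizer_of_max (hreg : Reg H) (hI : NoIrredCyclic H) (hAn : A.Normal)
    (hA : IsMulCommutative A)
    (hmax : ∀ B : Subgroup H, B.Normal → IsMulCommutative B → A ≤ B → B = A) :
    A < Subgroup.centralizer (A : Set H) ∧
      ¬ IsMulCommutative (Subgroup.centralizer (A : Set H)) := by
  have hle : A ≤ Subgroup.centralizer (A : Set H) := Subgroup.le_centralizer_iff_isMulCommutative.2 hA
  have hne : Subgroup.centralizer (A : Set H) ≠ A := by
    intro hC
    haveI := finite_invAlg A
    haveI := finite_of_reg hreg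
    have h1 : Nat.card H = Nat.card (conjHom hAn).range * Nat.card A := by
      rw [← Subgroup.index_ker, ker_conjHom, hC, Subgroup.index_mul_card]
    have h2 := card_range_conjHom_le hreg hAn hA
    have h3 := card_dvd hreg hAn hA
    have h4 := sq_card_invAlg_le hreg hI hAn hA
    have h5 := card_eq hreg
    rw [card_invAlg] at h4
    set k := Module.finrank (ZMod p) (invAlg A) with hk
    have hq1 : 1 < p ^ k := by
      rw [← card_invAlg]
      haveI : Nontrivial (invAlg A) := ⟨(isField_invAlg hreg hAn hA).exists_pair_ne⟩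
      exact Finite.one_lt_card
    have hk_lt : k < p ^ k := Nat.lt_pow_self (Fact.out : p.Prime).one_lt
    have hA' : Nat.card A ≤ p ^ k - 1 := Nat.le_of_dvd (by omega) h3
    have h6 : Nat.card H ≤ k * (p ^ k - 1) := h1 ▸ Nat.mul_le_mul h2 hA'
    obtain ⟨r, hr⟩ : ∃ r, p ^ k = r + 1 := ⟨p ^ k - 1, by omega⟩
    rw [hr] at h4 hk_lt h6 hq1
    simp only [add_tsub_cancel_right] at h6
    have h7 : k * r ≤ r * r := Nat.mul_le_mul_right r (by omega)
    have h8 : (r + 1) ^ 2 = r * r + 2 * r + 1 := by ring
    omega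
  refine ⟨lt_of_le_of_ne hle (fun h => hne h.symm), fun hc => hne (hmax _ ?_ hc hle)⟩
  rw [← ker_conjHom hAn]
  infer_instance

end Field

/-- A group with an irreducible cyclic normal subgroup is solvable. -/
theorem noIrredCyclic_of_not_isSolvable [Finite V] (hreg : Reg H)
    (hsolv : ¬ Group.IsSolvable H) : NoIrredCyclic H := by
  intro A hAn hAc
  have hA : IsMulCommutative A := IsCyclic.isMulCommutative
  rcases subsingleton_or_nontrivial V with hV | hV
  · exact absurd (Group.isSolvable_of_comm fun a b => Subtype.ext (LinearEquiv.ext fun x =>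
      Subsingleton.elim _ _)) hsolv
  by_contra hirr
  push Not at hirr
  obtain ⟨v, hv⟩ := exists_ne (0 : V)
  have htop : LinearMap.range (evalAt A v) = ⊤ := by
    by_contra htop
    obtain ⟨a, ha, w, hw, hw'⟩ := hirr _
      (fun h0 => hv (by simpa [h0] using mem_range_evalAt_self (A := A) v)) htop
    exact hw' (range_evalAt_invariant v a ha w hw)
  have hCcomm : ∀ c d : Subgroup.centralizer (A : Set H), c * d = d * c := by
    have hsurj : ∀ c : Subgroup.centralizer (A : Set H), ∃ e ∈ invAlg A, act H c = e := by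
      intro c
      obtain ⟨e, he⟩ := htop ▸ (Submodule.mem_top : act H (c : H) v ∈ (⊤ : Submodule (ZMod p) V))
      refine ⟨e, e.2, LinearMap.ext fun x => ?_⟩
      obtain ⟨f, rfl⟩ := htop ▸ (Submodule.mem_top : x ∈ (⊤ : Submodule (ZMod p) V))
      have h1 := LinearMap.congr_fun (commute_act_of_mem_centralizer c.2 f.2).eq v
      have h2 := LinearMap.congr_fun (invAlg_comm hA f.2 e.2).eq v
      simp only [Module.End.mul_apply] at h1 h2
      rw [evalAt_apply, h1, ← he, evalAt_apply, h2]
    intro c d
    obtain ⟨e, he, hce⟩ := hsurj c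
    obtain ⟨f, hf, hdf⟩ := hsurj d
    refine Subtype.ext (act_injective ?_)
    rw [Subgroup.coe_mul, Subgroup.coe_mul, map_mul, map_mul, hce, hdf, (invAlg_comm hA he hf).eq]
  apply hsolv
  haveI : Group.IsSolvable (Subgroup.centralizer (A : Set H)) := Group.isSolvable_of_comm hCcomm
  haveI : Group.IsSolvable (conjHom hAn).range := Group.isSolvable_of_comm <| by
    rintro ⟨_, g, rfl⟩ ⟨_, h, rfl⟩
    exact Subtype.ext (conjHom_comm hreg hAn hA g h)
  refine Group.isSolvable_of_ker_le_range (Subgroup.centralizer (A : Set H)).subtype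
    (conjHom hAn).rangeRestrict ?_
  rw [MonoidHom.ker_rangeRestrict, ker_conjHom, Subgroup.range_subtype]

end Cfsg.Agent.Perm.NearField
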