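import Cfsg.Agent.Lib.Perm.NearFieldStructure
import Cfsg.Agent.FG38.ConjAbNormal
import Cfsg.Agent.Lib.Perm.AutSLTwoFive
import Mathlib.GroupTheory.Index
import Mathlib.Algebra.Group.End
import Mathlib.NumberTheory.Divisors

/-!
# Degrees of exceptional linear groups regular on non-zero vectors
-/

set_option autoImplicit false
set_option linter.style.haveILetI false

namespace Cfsg.Agent.Perm.NearField

open SLTwoFive

theorem mul_self_eq_one : ∀ x : ZMod 3, x ≠ 0 → x * x = 1 := by decide

variable {p : ℕ} [Fact p.Prime] {V : Type*} [AddCommGroup V] [Module (ZMod p) V] [Finite V]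
  {H : Subgroup (V ≃ₗ[ZMod p] V)}

omit [Fact p.Prime] [Finite V] in
theorem arith {q R D : ℕ} (hD : D ∣ q - 1) (h : q ^ 2 - 1 = R * D) (hq : 2 ≤ q) :
    q + 1 ∣ R := by
  obtain ⟨e, he⟩ := hD
  refine ⟨e, ?_⟩
  have h1 : q ^ 2 - 1 = (q + 1) * (q - 1) := by
    have := Nat.sq_sub_sq q 1
    simpa using this
  rw [h1, he] at h
  have hD0 : 0 < D := Nat.pos_of_ne_zero (by rintro rfl; omega)
  apply Nat.eq_of_mul_eq_mul_right hD0
  linarith

omit [Fact p.Prime] [Finite V] in
theorem eq_of_pow_prime {m : ℕ} (h : (p ^ m).Prime) : p ^ m = p := by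
  rw [h.eq_one_of_pow, pow_one]

/-- The case `N ≅ SL(2,5)`. -/
theorem sl_case (hreg : Reg H) [Nontrivial V] {N : Subgroup H} [N.Normal] (e : N ≃* SL25) :
    (p = 11 ∨ p = 19 ∨ p = 29 ∨ p = 59) ∧ Nat.card V = p ^ 2 ∧
      Nat.card (Subgroup.centralizer (N : Set H)) ∣ p - 1 ∧
      Nat.card (MulAut.conjNormal : H →* MulAut N).range ∣ 120 ∧
      IsMulCommutative (Subgroup.centralizer (N : Set H)) := by
  haveI := finite_of_reg hreg
  let f : SL25 →* H := N.subtype.comp e.symm.toMonoidHom
  have hf : Function.Injective f := N.subtype_injective.comp e.symm.injective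
  obtain ⟨q1, q2, q3, q4⟩ := quaternion_pair_eq
  obtain ⟨-, m, hm0, hcV, hD⟩ := quaternion_pair hreg (f mI) (f mJ)
    (by rw [← map_mul, ← map_mul, q1]) (by rw [← map_mul]; exact fun h => q2 (hf (h.trans f.map_one.symm)))
    (by rw [← map_mul, ← map_mul, q3, map_one]) (by rw [← map_mul, ← map_mul, ← map_mul, ← map_mul, q4])
  have hcomm : ∀ d ∈ Subgroup.centralizer (N : Set H), d * f mI = f mI * d ∧ d * f mJ = f mJ * d :=
    fun d hd => ⟨(Subgroup.mem_centralizer_iff.1 hd _ (e.symm mI).2).symm,
      (Subgroup.mem_centralizer_iff.1 hd _ (e.symm mJ).2).symm⟩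
  obtain ⟨hdvd, hDc⟩ := hD _ hcomm
  have hR : Nat.card (MulAut.conjNormal : H →* MulAut N).range ∣ 120 := by
    refine (Subgroup.card_subgroup_dvd_card _).trans ?_
    rw [Nat.card_congr (MulAut.congr e).toEquiv]
    exact card_mulAut_dvd
  have h120 : 120 ∣ Nat.card H := by
    rw [← SLTwoFive.card_eq, ← Nat.card_congr e.toEquiv]
    exact Subgroup.card_subgroup_dvd_card N
  have hV := card_eq hreg
  have hsplit := card_eq_range_mul N
  set q := p ^ m with hq
  have hq2 : 2 ≤ q := (Fact.out : p.Prime).two_le.trans (Nat.le_self_pow hm0 p)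
  have hH : Nat.card H = q ^ 2 - 1 := by omega
  have hdiv : q + 1 ∣ 120 :=
    (arith hdvd (hH ▸ hsplit) hq2).trans hR
  have hq60 : q + 1 ∈ Nat.divisors 120 := Nat.mem_divisors.2 ⟨hdiv, by norm_num⟩
  rw [show Nat.divisors 120 = {1, 2, 3, 4, 5, 6, 8, 10, 12, 15, 20, 24, 30, 40, 60, 120} by
    decide +kernel] at hq60
  simp only [Finset.mem_insert, Finset.mem_singleton, Nat.reduceEqDiff] at hq60
  rw [hH] at h120
  have hprime : q.Prime := by
    have h119 : q ≠ 119 := by
      intro h
      have hpd : p ∣ 119 := h ▸ hq ▸ dvd_pow_self p hm0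
      have hp : p = 7 ∨ p = 17 := by
        have h1 : p ∈ Nat.divisors 119 := Nat.mem_divisors.2 ⟨hpd, by norm_num⟩
        rw [show Nat.divisors 119 = {1, 7, 17, 119} by decide +kernel] at h1
        simp only [Finset.mem_insert, Finset.mem_singleton] at h1
        rcases h1 with h1 | h1 | h1 | h1
        · exact absurd h1 (Fact.out : p.Prime).ne_one
        · exact Or.inl h1
        · exact Or.inr h1
        · subst h1; exact absurd (Fact.out : (119 : ℕ).Prime) (by norm_num)
      have h7 : 7 ∣ p ^ m := by rw [← hq, h]; norm_num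
      have h17 : 17 ∣ p ^ m := by rw [← hq, h]; norm_num
      rcases hp with hp | hp <;> subst hp
      · have := Nat.Prime.dvd_of_dvd_pow (by norm_num) h17; norm_num at this
      · have := Nat.Prime.dvd_of_dvd_pow (by norm_num) h7; norm_num at this
    rcases hq60 with h | h | h | h | h | h | h | h | h | h | h | h | h | h | h | h <;>
      first
      | omega
      | (rw [h]; norm_num; done)
      | (rw [h] at h120; norm_num at h120; done)
  have hpq : q = p := eq_of_pow_prime hprime
  rw [hpq] at hq60 hcV hdvd h120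
  refine ⟨?_, hcV, hdvd, hR, hDc hpq⟩
  rcases hq60 with h | h | h | h | h | h | h | h | h | h | h | h | h | h | h | h <;>
    first
    | omega
    | (subst h; norm_num at h120; done)
    | exact absurd (Fact.out : p.Prime) (by rw [h]; norm_num)

/-- The case `N ≅ Q₈`. -/
theorem quaternion_case (hreg : Reg H) (hI : NoIrredCyclic H) {N : Subgroup H} [N.Normal]
    (e : N ≃* QuaternionGroup 2) :
    (p = 5 ∨ p = 7 ∨ p = 11 ∨ p = 23) ∧ Nat.card V = p ^ 2 ∧
      IsMulCommutative (Subgroup.centralizer (N : Set H)) := by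
  haveI := hI.nontrivial
  haveI := finite_of_reg hreg
  let f : QuaternionGroup 2 →* H := N.subtype.comp e.symm.toMonoidHom
  have hf : Function.Injective f := N.subtype_injective.comp e.symm.injective
  set I : QuaternionGroup 2 := QuaternionGroup.a 1 with hIdef
  set J : QuaternionGroup 2 := QuaternionGroup.xa 0 with hJdef
  have q1 : I * I = J * J := by decide
  have q2 : I * I ≠ 1 := by decide
  have q3 : I * I * (I * I) = 1 := by decide
  have q4 : I * J = I * I * (J * I) := by decide
  obtain ⟨hp2, m, hm0, hcV, hD⟩ := quaternion_pair hreg (f I) (f J)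
    (by rw [← map_mul, ← map_mul, q1]) (by rw [← map_mul]; exact fun h => q2 (hf (h.trans f.map_one.symm)))
    (by rw [← map_mul, ← map_mul, q3, map_one]) (by rw [← map_mul, ← map_mul, ← map_mul, ← map_mul, q4])
  have hcomm : ∀ d ∈ Subgroup.centralizer (N : Set H), d * f I = f I * d ∧ d * f J = f J * d :=
    fun d hd => ⟨(Subgroup.mem_centralizer_iff.1 hd _ (e.symm I).2).symm,
      (Subgroup.mem_centralizer_iff.1 hd _ (e.symm J).2).symm⟩
  obtain ⟨hdvd, hDc⟩ := hD _ hcomm
  have hR : Nat.card (MulAut.conjNormal : H →* MulAut N).range ∣ 24 := by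
    refine (Subgroup.card_subgroup_dvd_card _).trans ?_
    rw [Nat.card_congr (MulAut.congr e).toEquiv, Cfsg.Agent.FG38.card_mulAut_quaternion]
  have hV := card_eq hreg
  have hsplit := card_eq_range_mul N
  set q := p ^ m with hq
  have hq2 : 2 ≤ q := (Fact.out : p.Prime).two_le.trans (Nat.le_self_pow hm0 p)
  have hH : Nat.card H = q ^ 2 - 1 := by omega
  have hdiv : q + 1 ∣ 24 := (arith hdvd (hH ▸ hsplit) hq2).trans hR
  have hqodd : q % 2 = 1 :=
    Nat.odd_iff.1 (((Fact.out : p.Prime).odd_of_ne_two hp2).pow)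
  have hle : q + 1 ≤ 24 := Nat.le_of_dvd (by norm_num) hdiv
  have hqs : q = 3 ∨ q = 5 ∨ q = 7 ∨ q = 11 ∨ q = 23 := by
    obtain ⟨c, hc⟩ := hdiv
    have h23 : q ≤ 23 := by omega
    clear_value q
    interval_cases q <;> omega
  have hprime : q.Prime := by rcases hqs with h | h | h | h | h <;> rw [h] <;> norm_num
  have hpq : q = p := eq_of_pow_prime hprime
  rw [hpq] at hqs hcV hH
  refine ⟨?_, hcV, hDc hpq⟩
  rcases hqs with h | h | h | h | h
  · exfalso
    subst h
    have hH8 : Nat.card H = 8 := by rw [hH]; norm_num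
    have hB : Nat.card (Subgroup.zpowers (f I)) = 4 := by
      rw [Nat.card_zpowers, orderOf_injective f hf, orderOf_eq_iff (by norm_num)]
      decide
    have hidx : (Subgroup.zpowers (f I)).index = 2 := by
      have h5 := (Subgroup.zpowers (f I)).card_mul_index
      rw [hB, hH8] at h5
      omega
    obtain ⟨W, hW0, hW1, hW⟩ := hI _ (Subgroup.normal_of_index_eq_two hidx) inferInstance
    haveI : FiniteDimensional (ZMod 3) V := Module.Finite.of_finite
    have hWr : Module.finrank (ZMod 3) W = 1 := by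
      have h2 : Module.finrank (ZMod 3) V = 2 := by
        have := Module.natCard_eq_pow_finrank (K := ZMod 3) (V := V)
        rw [Nat.card_zmod, hcV] at this
        exact (Nat.pow_right_injective (le_refl 2 |>.trans (by norm_num)) this).symm
      have := Submodule.finrank_lt hW1
      have : Module.finrank (ZMod 3) W ≠ 0 := fun h0 => hW0 (Submodule.finrank_eq_zero.1 h0)
      omega
    obtain ⟨w, hw0, hw⟩ := finrank_eq_one_iff'.1 hWr
    obtain ⟨c, hc⟩ := hw ⟨_, hW _ (Subgroup.mem_zpowers _) _ w.2⟩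
    have hw' : (w : V) ≠ 0 := fun h => hw0 (Subtype.ext h)
    have hcw : act H (f I) (w : V) = c • (w : V) := (congrArg Subtype.val hc).symm
    have hc0 : c ≠ 0 := fun h0 => act_ne_zero (f I) hw' (by rw [hcw, h0, zero_smul])
    have hcc : ∀ x : ZMod 3, x ≠ 0 → x * x = 1 := mul_self_eq_one
    apply q2
    apply hf
    rw [map_one]
    apply eq_one_of_fixed hreg hw'
    rw [map_mul, map_mul, Module.End.mul_apply, hcw, map_smul, hcw, smul_smul, hcc c hc0, one_smul]
  · exact Or.inl h
  · exact Or.inr (Or.inl h)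
  · exact Or.inr (Or.inr (Or.inl h))
  · exact Or.inr (Or.inr (Or.inr h))

end Cfsg.Agent.Perm.NearField
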