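import Cfsg.Agent.Lib.Perm.NearFieldMain
import Mathlib.GroupTheory.Perm.Cycle.Type
import Mathlib.GroupTheory.NoncommCoprod

/-!
# Non-solvable linear groups regular on non-zero vectors

The results take the classification of perfect fixed-point-free automorphism groups as a
hypothesis.
-/

set_option autoImplicit false
set_option linter.style.haveILetI false

namespace Cfsg.Agent.Perm.NearField

open SLTwoFive

universe u

/-- Perfect fixed-point-free automorphism groups are `SL(2,5)`. -/
def PerfectFPF : Prop :=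
  ∀ (K : Type u) [Group K] [Finite K] (G : Subgroup (MulAut K)),
    (∀ φ ∈ G, φ ≠ 1 → ∀ k : K, φ k = k → k = 1) → commutator G = ⊤ → G ≠ ⊥ →
      Nonempty (G ≃* SL25)

variable {p : ℕ} [Fact p.Prime] {V : Type u} [AddCommGroup V] [Module (ZMod p) V] [Finite V]
  {H : Subgroup (V ≃ₗ[ZMod p] V)}

/-- The elements of `H` as automorphisms of the additive group. -/
def toMulAut (H : Subgroup (V ≃ₗ[ZMod p] V)) : H →* MulAut (Multiplicative V) where
  toFun h := AddEquiv.toMultiplicative (h : V ≃ₗ[ZMod p] V).toAddEquiv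
  map_one' := rfl
  map_mul' _ _ := rfl

theorem nonempty_equiv_sl (hZ : PerfectFPF.{u}) (hreg : Reg H) {N : Subgroup H}
    (hperf : commutator N = ⊤) (hne : N ≠ ⊥) : Nonempty (N ≃* SL25) := by
  have hinj : Function.Injective (toMulAut H) := fun a b hab =>
    Subtype.ext (LinearEquiv.ext fun v => congrArg Multiplicative.toAdd
      (DFunLike.congr_fun hab (Multiplicative.ofAdd v)))
  have eN := N.equivMapOfInjective (toMulAut H) hinj
  obtain ⟨e⟩ := hZ (Multiplicative V) (N.map (toMulAut H))
    (by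
      rintro _ ⟨h, -, rfl⟩ h1 k hk
      by_contra hk1
      apply h1
      have hv : (Multiplicative.toAdd k : V) ≠ 0 := fun h0 => hk1 h0
      rw [eq_one_of_fixed hreg hv (congrArg Multiplicative.toAdd hk), map_one])
    (by
      have := congrArg (Subgroup.map eN.toMonoidHom) hperf
      rw [commutator_def, Subgroup.map_commutator, ← MonoidHom.range_eq_map,
        MonoidHom.range_eq_top.2 eN.surjective] at this
      rw [commutator_def]
      exact this)
    (fun h => hne ((Subgroup.map_eq_bot_iff_of_injective _ hinj).1 h))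
  exact ⟨eN.trans e⟩

section Minimal

variable {A N : Subgroup H}
  (hmax : ∀ B : Subgroup H, B.Normal → IsMulCommutative B → A ≤ B → B = A)
  (hAn : A.Normal) (hA : IsMulCommutative A) (hNn : N.Normal)
  (hNle : N ≤ Subgroup.centralizer (A : Set H))
  (hNmin : ∀ M : Subgroup H, M.Normal → M ≤ N → ¬ IsMulCommutative M → M = N)

include hmax hAn hA hNn hNle hNmin

theorem sl_or_quaternion (hZ : PerfectFPF.{u}) (hreg : Reg H) (hNna : ¬ IsMulCommutative N) :
    Nonempty (N ≃* QuaternionGroup 2) ∨ Nonempty (N ≃* SL25) := by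
  rcases perfect_or_quaternion hmax hAn hA hNn hNle hNmin hreg hNna with hperf | h
  · refine Or.inr (nonempty_equiv_sl hZ hreg hperf fun h => hNna ?_)
    subst h
    infer_instance
  · exact Or.inl h

theorem irreducible_and_centralizer (hZ : PerfectFPF.{u}) (hreg : Reg H) (hI : NoIrredCyclic H)
    (hNna : ¬ IsMulCommutative N) :
    (∀ W : Submodule (ZMod p) V, (∀ n ∈ N, ∀ v ∈ W, ((n : H) : V ≃ₗ[ZMod p] V) v ∈ W) →
      W = ⊥ ∨ W = ⊤) ∧ Subgroup.centralizer (N : Set H) = A := by
  haveI := hI.nontrivial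
  haveI := hNn
  obtain ⟨hV, hD⟩ : Nat.card V = p ^ 2 ∧ IsMulCommutative (Subgroup.centralizer (N : Set H)) := by
    rcases sl_or_quaternion hmax hAn hA hNn hNle hNmin hZ hreg hNna with ⟨⟨e⟩⟩ | ⟨⟨e⟩⟩
    · obtain ⟨-, h1, h2⟩ := quaternion_case hreg hI e
      exact ⟨h1, h2⟩
    · obtain ⟨-, h1, -, -, h2⟩ := sl_case hreg e
      exact ⟨h1, h2⟩
  refine ⟨fun W hW => ?_, ?_⟩
  · by_contra hne
    push Not at hne
    haveI : FiniteDimensional (ZMod p) V := Module.Finite.of_finite
    have h2 : Module.finrank (ZMod p) V = 2 := by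
      have := Module.natCard_eq_pow_finrank (K := ZMod p) (V := V)
      rw [Nat.card_zmod, hV] at this
      exact (Nat.pow_right_injective (Fact.out : p.Prime).two_le this).symm
    have hW1 := Submodule.finrank_lt hne.2
    have hW0 : Module.finrank (ZMod p) W ≠ 0 := fun h0 => hne.1 (Submodule.finrank_eq_zero.1 h0)
    obtain ⟨w, hw0, hw⟩ := finrank_eq_one_iff'.1
      (show Module.finrank (ZMod p) W = 1 by omega)
    have hw' : (w : V) ≠ 0 := fun h => hw0 (Subtype.ext h)
    refine hNna ⟨⟨fun a b => Subtype.ext ?_⟩⟩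
    obtain ⟨c, hc⟩ := hw ⟨_, hW _ a.2 _ w.2⟩
    obtain ⟨c', hc'⟩ := hw ⟨_, hW _ b.2 _ w.2⟩
    have ha : act H (a : H) (w : V) = c • (w : V) := (congrArg Subtype.val hc).symm
    have hb : act H (b : H) (w : V) = c' • (w : V) := (congrArg Subtype.val hc').symm
    refine (hreg (w : V) (act H ((b : H) * (a : H)) w) hw' (act_ne_zero _ hw')).unique
      (?_ : act H ((a : H) * (b : H)) w = _) rfl
    rw [map_mul, map_mul, Module.End.mul_apply, Module.End.mul_apply,
      hb, ha, map_smul, map_smul, hb, ha, smul_comm]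
  · exact hmax _ inferInstance hD (Subgroup.le_centralizer_iff.1 hNle)

end Minimal

/-- The structure of non-solvable linear groups regular on non-zero vectors. -/
theorem insoluble_structure (hZ : PerfectFPF.{u}) (hreg : Reg H)
    (hsolv : ¬ Group.IsSolvable H) :
    (Nat.card V = 121 ∧ Nonempty (H ≃* SL25)) ∨
      (Nat.card V = 841 ∧ Nonempty (H ≃* SL25 × Multiplicative (ZMod 7))) ∨
      (Nat.card V = 3481 ∧ Nonempty (H ≃* SL25 × Multiplicative (ZMod 29))) := by
  classical
  haveI := finite_of_reg hreg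
  have hI := noIrredCyclic_of_not_isSolvable hreg hsolv
  haveI := hI.nontrivial
  -- the last term of the derived series
  let n := Function.argmin (fun n : ℕ => Nat.card (derivedSeries H n))
  set N : Subgroup H := derivedSeries H n with hNdef
  haveI hNn : N.Normal := derivedSeries_normal H n
  have hNne : N ≠ ⊥ := fun h => hsolv ((Group.isSolvable_def H).2 ⟨n, h⟩)
  have hperf : commutator N = ⊤ := by
    have h1 : derivedSeries H (n + 1) = N :=
      Subgroup.eq_of_le_of_card_ge (Subgroup.commutator_le_self _)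
        (Function.argmin_le (fun n : ℕ => Nat.card (derivedSeries H n)) (n + 1))
    apply Subgroup.map_injective N.subtype_injective
    rw [Subgroup.map_subtype_commutator, ← derivedSeries_succ, ← MonoidHom.range_eq_map,
      Subgroup.range_subtype]
    exact h1
  obtain ⟨e⟩ := nonempty_equiv_sl hZ hreg hperf hNne
  obtain ⟨hp, hV, hDdvd, hR, -⟩ := sl_case hreg e
  set D := Subgroup.centralizer (N : Set H) with hDdef
  set φ := (MulAut.conjNormal : H →* MulAut N) with hφ
  let f : SL25 →* H := N.subtype.comp e.symm.toMonoidHom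
  have hf : Function.Injective f := N.subtype_injective.comp e.symm.injective
  have hfN : ∀ g, f g ∈ N := fun g => (e.symm g).2
  set t := f (mI * mI) with ht
  have ht1 : t ≠ 1 := fun h => quaternion_pair_eq.2.1 (hf (h.trans f.map_one.symm))
  have ht2 : t * t = 1 := by rw [ht, ← map_mul, quaternion_pair_eq.2.2.1, map_one]
  have htneg := act_eq_neg_one hreg ht2 ht1
  have hinv : ∀ x : H, x * x = 1 → x = 1 ∨ x = t := by
    intro x hx
    by_cases hx1 : x = 1
    · exact Or.inl hx1
    · exact Or.inr (act_injective ((act_eq_neg_one hreg hx hx1).trans htneg.symm))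
  have hcenter : ∀ x ∈ N, x ∈ D → x * x = 1 := by
    intro x hx hxD
    have hc : ∀ g, e ⟨x, hx⟩ * g = g * e ⟨x, hx⟩ := by
      intro g
      apply e.symm.injective
      rw [map_mul, map_mul, e.symm_apply_apply]
      exact Subtype.ext (Subgroup.mem_centralizer_iff.1 hxD _ (e.symm g).2).symm
    have := mul_self_eq_one_of_central _ (hc mI) (hc mT)
    rw [← map_mul, MulEquiv.map_eq_one_iff] at this
    exact congrArg Subtype.val this
  have htD : t ∈ D := by
    rw [hDdef, Subgroup.mem_centralizer_iff]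
    intro g _
    apply act_injective
    rw [map_mul, map_mul, htneg, mul_neg, neg_mul, one_mul, mul_one]
  have hD2 : 2 ∣ Nat.card D := by
    have hto : orderOf (⟨t, htD⟩ : D) = 2 :=
      orderOf_eq_prime (Subtype.ext (by rw [SubmonoidClass.coe_pow, pow_two]; exact ht2))
        (fun h => ht1 (congrArg Subtype.val h))
    rw [← hto]
    exact orderOf_dvd_natCard _
  have hsplit : Nat.card H = Nat.card φ.range * Nat.card D := card_eq_range_mul N
  have hker : ∀ h, h ∈ φ.ker ↔ h ∈ D := by
    intro h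
    rw [hDdef, MonoidHom.mem_ker, Subgroup.mem_centralizer_iff]
    constructor
    · intro hh g hg
      have h5 := congrArg (fun σ : MulAut N => ((σ ⟨g, hg⟩ : N) : H)) hh
      simp only [hφ, MulAut.conjNormal_apply, MulAut.one_apply] at h5
      exact (mul_inv_eq_iff_eq_mul.1 h5).symm
    · intro hh
      apply MulEquiv.ext
      intro g
      apply Subtype.ext
      rw [hφ, MulAut.conjNormal_apply, MulAut.one_apply, ← hh g g.2, mul_inv_cancel_right]
  have h60 : 60 ∣ Nat.card φ.range := by
    let g := φ.comp N.subtype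
    have hle : g.range ≤ φ.range := by rintro _ ⟨x, rfl⟩; exact ⟨x, rfl⟩
    have hk : Nat.card g.ker = 2 := by
      have htk : (⟨t, hfN _⟩ : N) ∈ g.ker := (hker t).2 htD
      refine Nat.card_eq_two_iff.2 ⟨1, ⟨_, htk⟩,
        fun h => ht1 (congrArg (fun x : g.ker => ((x : N) : H)) h).symm, ?_⟩
      refine Set.eq_univ_iff_forall.2 fun x => ?_
      have hxD : ((x : N) : H) ∈ D := (hker _).1 x.2
      rcases hinv _ (hcenter _ (x : N).2 hxD) with h | h
      · exact Or.inl (Subtype.ext (Subtype.ext h))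
      · exact Or.inr (Subtype.ext (Subtype.ext h))
    have hN : Nat.card N = 120 := by rw [Nat.card_congr e.toEquiv, SLTwoFive.card_eq]
    have h1 : Nat.card g.range * 2 = 120 := by
      rw [← hk, ← Subgroup.index_ker, Subgroup.index_mul_card, hN]
    have h2 : Nat.card g.range = 60 := by omega
    rw [← h2]
    exact Subgroup.card_dvd_of_le hle
  have hR' : Nat.card φ.range = 60 ∨ Nat.card φ.range = 120 := by
    obtain ⟨c, hc⟩ := h60
    have : c ∣ 2 := by
      rw [hc] at hR
      exact Nat.dvd_of_mul_dvd_mul_left (by norm_num : 0 < 60) hR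
    rcases (Nat.dvd_prime Nat.prime_two).1 this with rfl | rfl <;> omega
  have hH := card_eq hreg
  rw [hV] at hH
  obtain ⟨k, hk⟩ := hD2
  rw [hsplit, hk] at hH
  have hcases : (p = 11 ∧ k = 1) ∨ (p = 29 ∧ k = 7) ∨ (p = 59 ∧ k = 29) ∨ (p = 19 ∧ k = 3) := by
    rcases hp with rfl | rfl | rfl | rfl <;> rcases hR' with h | h <;> rw [h] at hH <;> omega
  have key : ∀ (m : ℕ) [Fact m.Prime], m ≠ 2 → m ≠ 3 → k = m →
      Nat.card φ.range = 60 → Nonempty (H ≃* SL25 × Multiplicative (ZMod m)) := by
    intro m _ hm2 _ hkm h60'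
    obtain ⟨x, hx⟩ := exists_prime_orderOf_dvd_card' (G := D) m ⟨2, by rw [hk, hkm, mul_comm]⟩
    set K := Subgroup.zpowers (x : H) with hK
    have hKD : K ≤ D := Subgroup.zpowers_le.2 x.2
    have hxo : orderOf (x : H) = m := by rw [Subgroup.orderOf_coe]; exact hx
    let F : N × K →* H := N.subtype.noncommCoprod K.subtype fun a b =>
      Subgroup.mem_centralizer_iff.1 (hKD b.2) _ a.2
    have hF : Function.Injective F := by
      rw [injective_iff_map_eq_one]
      rintro ⟨a, b⟩ hab
      have h : (a : H) * (b : H) = 1 := hab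
      have haK : (a : H) ∈ K := by rw [eq_inv_of_mul_eq_one_left h]; exact inv_mem b.2
      have ha1 : (a : H) = 1 := by
        have e1 : orderOf (a : H) ∣ m := hxo ▸ orderOf_dvd_of_mem_zpowers haK
        have e2 : orderOf (a : H) ∣ 2 :=
          orderOf_dvd_of_pow_eq_one (by rw [pow_two]; exact hcenter _ a.2 (hKD haK))
        have e3 : Nat.Coprime m 2 := (Nat.coprime_primes Fact.out Nat.prime_two).2 hm2
        exact orderOf_eq_one_iff.1 (Nat.eq_one_of_dvd_coprimes e3 e1 e2)
      rw [ha1, one_mul] at h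
      exact Prod.ext (Subtype.ext ha1) (Subtype.ext h)
    have hcard : Nat.card (N × K) = Nat.card H := by
      rw [Nat.card_prod, hK, Nat.card_zpowers, hxo, Nat.card_congr e.toEquiv, SLTwoFive.card_eq,
        hsplit, h60', hk, hkm]
      omega
    have hbij : Function.Bijective F :=
      (Nat.bijective_iff_injective_and_card F).2 ⟨hF, hcard⟩
    have eK : K ≃* Multiplicative (ZMod m) :=
      (zmodCyclicMulEquiv (inferInstance : IsCyclic K)).symm.trans
        (AddEquiv.toMultiplicative (ZMod.ringEquivCongr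
          (by rw [hK, Nat.card_zpowers, hxo])).toAddEquiv)
    exact ⟨(MulEquiv.ofBijective F hbij).symm.trans (e.prodCongr eK)⟩
  have h60' : Nat.card φ.range = 60 := by
    rcases hR' with h | h
    · exact h
    · exfalso
      rw [h] at hH
      rcases hcases with ⟨rfl, rfl⟩ | ⟨rfl, rfl⟩ | ⟨rfl, rfl⟩ | ⟨rfl, rfl⟩ <;> omega
  rcases hcases with ⟨rfl, hk1⟩ | ⟨rfl, hk1⟩ | ⟨rfl, hk1⟩ | ⟨rfl, hk1⟩
  · refine Or.inl ⟨by rw [hV]; norm_num, ?_⟩
    have hN : Nat.card N = Nat.card H := by
      rw [Nat.card_congr e.toEquiv, SLTwoFive.card_eq, hsplit, h60', hk, hk1]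
    have htop : N = ⊤ := Subgroup.eq_top_of_card_eq N hN
    exact ⟨(Subgroup.topEquiv.symm.trans (MulEquiv.subgroupCongr htop.symm)).trans e⟩
  · haveI : Fact (Nat.Prime 7) := ⟨by norm_num⟩
    exact Or.inr (Or.inl ⟨by rw [hV]; norm_num, key 7 (by norm_num) (by norm_num) hk1 h60'⟩)
  · haveI : Fact (Nat.Prime 29) := ⟨by norm_num⟩
    exact Or.inr (Or.inr ⟨by rw [hV]; norm_num, key 29 (by norm_num) (by norm_num) hk1 h60'⟩)
  · exfalso
    haveI : Fact (Nat.Prime 3) := ⟨by norm_num⟩
    obtain ⟨x, hx⟩ := exists_prime_orderOf_dvd_card' (G := D) 3 ⟨2, by rw [hk, hk1]⟩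
    obtain ⟨y, hy⟩ := exists_prime_orderOf_dvd_card' (G := N) 3
      (by rw [Nat.card_congr e.toEquiv, SLTwoFive.card_eq]; norm_num)
    have hxo : orderOf (x : H) = 3 := by rw [Subgroup.orderOf_coe]; exact hx
    have hy3 : (y : H) ^ 3 = 1 := by rw [← hy, ← Subgroup.orderOf_coe]; exact pow_orderOf_eq_one _
    have hmem := ClassTwo.mem_zpowers_of_commute (fun B hB => isCyclic_of_abelian hreg B hB)
      (by norm_num : Nat.Prime 3) hxo hy3
      (Subgroup.mem_centralizer_iff.1 x.2 _ y.2).symm
    have h2 := hcenter _ y.2 (Subgroup.zpowers_le.2 x.2 hmem)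
    have h5 : orderOf (y : H) ∣ 2 := orderOf_dvd_of_pow_eq_one (by rw [pow_two]; exact h2)
    rw [Subgroup.orderOf_coe, hy] at h5
    norm_num at h5

end Cfsg.Agent.Perm.NearField
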