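import Cfsg.Agent.Lib.Perm.NearFieldDegrees

/-!
# Solvable exceptional linear groups regular on non-zero vectors
-/

set_option autoImplicit false
set_option linter.style.haveILetI false

namespace Cfsg.Agent.Perm.NearField

variable {p : ℕ} [Fact p.Prime] {V : Type*} [AddCommGroup V] [Module (ZMod p) V] [Finite V]
  {H : Subgroup (V ≃ₗ[ZMod p] V)}

omit [Finite V] in
theorem exists_max_abelian [Finite H] :
    ∃ A : Subgroup H, A.Normal ∧ IsMulCommutative A ∧
      ∀ B : Subgroup H, B.Normal → IsMulCommutative B → A ≤ B → B = A := by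
  obtain ⟨A, ⟨hAn, hA⟩, hmax⟩ := Set.exists_max_image
    {B : Subgroup H | B.Normal ∧ IsMulCommutative B} (fun B => Nat.card B) (Set.toFinite _)
    ⟨⊥, inferInstance, inferInstance⟩
  exact ⟨A, hAn, hA, fun B hBn hB hle =>
    (Subgroup.eq_of_le_of_card_ge hle (hmax B ⟨hBn, hB⟩)).symm⟩

/-- Existence of the pair `A`, `N`. -/
theorem exists_pair (hreg : Reg H) (hI : NoIrredCyclic H) :
    ∃ A N : Subgroup H, A.Normal ∧ IsMulCommutative A ∧
      (∀ B : Subgroup H, B.Normal → IsMulCommutative B → A ≤ B → B = A) ∧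
      N.Normal ∧ N ≤ Subgroup.centralizer (A : Set H) ∧ ¬ IsMulCommutative N ∧
      ∀ M : Subgroup H, M.Normal → M ≤ N → ¬ IsMulCommutative M → M = N := by
  haveI := hI.nontrivial
  haveI := finite_of_reg hreg
  obtain ⟨A, hAn, hA, hmax⟩ := exists_max_abelian (H := H)
  have hC := (centralizer_of_max hreg hI hAn hA hmax).2
  have hCn : (Subgroup.centralizer (A : Set H)).Normal := by
    rw [← ker_conjHom hAn]; infer_instance
  obtain ⟨N, ⟨hNn, hNle, hNna⟩, hmin⟩ := Set.exists_min_image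
    {M : Subgroup H | M.Normal ∧ M ≤ Subgroup.centralizer (A : Set H) ∧ ¬ IsMulCommutative M}
    (fun M => Nat.card M) (Set.toFinite _) ⟨_, hCn, le_rfl, hC⟩
  exact ⟨A, N, hAn, hA, hmax, hNn, hNle, hNna, fun M hMn hMle hMna =>
    Subgroup.eq_of_le_of_card_ge hMle (hmin M ⟨hMn, hMle.trans hNle, hMna⟩)⟩

/-- Degrees in the solvable exceptional case. -/
theorem solvable_degrees (hreg : Reg H) (hI : NoIrredCyclic H) (hsolv : Group.IsSolvable H) :
    Nat.card V = 25 ∨ Nat.card V = 49 ∨ Nat.card V = 121 ∨ Nat.card V = 529 := by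
  obtain ⟨A, N, hAn, hA, hmax, hNn, hNle, hNna, hNmin⟩ := exists_pair hreg hI
  haveI := hNn
  haveI := hsolv
  rcases perfect_or_quaternion hmax hAn hA hNn hNle hNmin hreg hNna with hperf | ⟨⟨e⟩⟩
  · exfalso
    haveI : Nontrivial N := by
      by_contra hn
      haveI := not_nontrivial_iff_subsingleton.1 hn
      exact hNna ⟨⟨fun a b => Subsingleton.elim _ _⟩⟩
    exact (Group.IsSolvable.commutator_lt_top_of_nontrivial N).ne hperf
  · obtain ⟨hp, hV, -⟩ := quaternion_case hreg hI e
    rcases hp with rfl | rfl | rfl | rfl <;> rw [hV] <;> norm_num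

end Cfsg.Agent.Perm.NearField
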