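import Cfsg.Agent.Lib.Perm.NearField
import Cfsg.Agent.Lib.Perm.QuaternionClassTwo
import Mathlib.RingTheory.Ideal.Quotient.Basic
import Mathlib.GroupTheory.GroupAction.Quotient
import Mathlib.GroupTheory.GroupAction.ConjAct
import Mathlib.Tactic.LinearCombination
import Mathlib.Tactic.Module

/-!
# Structure of linear groups regular on non-zero vectors

Minimal non-abelian normal subgroups centralising a maximal normal abelian subgroup, and the
counting bound coming from a quaternion pair.
-/

set_option autoImplicit false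
set_option linter.style.haveILetI false

namespace Cfsg.Agent.Perm.NearField

variable {p : ℕ} [Fact p.Prime] {V : Type*} [AddCommGroup V] [Module (ZMod p) V] [Finite V]
  {H : Subgroup (V ≃ₗ[ZMod p] V)}

/-- Abelian subgroups are cyclic. -/
theorem isCyclic_of_abelian (hreg : Reg H) (B : Subgroup H) (hB : IsMulCommutative B) :
    IsCyclic B := by
  haveI := finite_of_reg hreg
  rcases subsingleton_or_nontrivial V with hV | hV
  · haveI : Subsingleton B := ⟨fun a b => Subtype.ext (Subtype.ext (LinearEquiv.ext fun x =>
      Subsingleton.elim _ _))⟩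
    infer_instance
  obtain ⟨v₀, hv₀⟩ := exists_ne (0 : V)
  obtain ⟨v, hv, hmin⟩ := Set.exists_min_image {v : V | v ≠ 0}
    (fun v => Nat.card (LinearMap.range (evalAt B v))) (Set.toFinite _) ⟨v₀, hv₀⟩
  letI : CommRing (invAlg B) :=
    { (inferInstance : Ring (invAlg B)) with
      mul_comm := fun x y => Subtype.ext (invAlg_comm hB x.2 y.2).eq }
  let I : Ideal (invAlg B) :=
    { carrier := {e | (e : Module.End (ZMod p) V) v = 0}
      zero_mem' := rfl
      add_mem' := fun {a b} ha hb => by
        show (a : Module.End (ZMod p) V) v + (b : Module.End (ZMod p) V) v = 0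
        rw [ha, hb, add_zero]
      smul_mem' := fun c a ha => by
        show (c : Module.End (ZMod p) V) ((a : Module.End (ZMod p) V) v) = 0
        rw [ha, map_zero] }
  have hI : I.IsPrime := by
    refine ⟨fun h => hv ?_, fun {x y} hxy => ?_⟩
    · have : (1 : invAlg B) ∈ I := h ▸ Submodule.mem_top
      exact this
    · rw [or_iff_not_imp_right]
      intro hy
      have hle : LinearMap.range (evalAt B (evalAt B v y)) ≤ LinearMap.range (evalAt B v) := by
        rintro _ ⟨f, rfl⟩
        exact ⟨f * y, rfl⟩
      have heq : LinearMap.range (evalAt B (evalAt B v y)) = LinearMap.range (evalAt B v) := by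
        apply SetLike.coe_injective
        refine Set.eq_of_subset_of_ncard_le hle ?_ (Set.toFinite _)
        rw [← Nat.card_coe_set_eq, ← Nat.card_coe_set_eq]
        exact hmin _ hy
      obtain ⟨g, hg⟩ := heq ▸ mem_range_evalAt_self (A := B) v
      show (x : Module.End (ZMod p) V) v = 0
      rw [← hg]
      show ((x * (g * y) : invAlg B) : Module.End (ZMod p) V) v = 0
      rw [mul_left_comm]
      show (g : Module.End (ZMod p) V) ((↑(x * y) : Module.End (ZMod p) V) v) = 0
      rw [show (↑(x * y) : Module.End (ZMod p) V) v = 0 from hxy, map_zero]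
  let f : B →* invAlg B :=
    ((act H).comp B.subtype).codRestrict (invAlg B) fun a => act_mem_invAlg a.2
  refine isCyclic_of_injective_ringHom ((Ideal.Quotient.mk I).toMonoidHom.comp f) ?_
  intro a b hab
  have h1 : f a - f b ∈ I := Ideal.Quotient.eq.1 hab
  have h2 : act H (a : H) v = act H (b : H) v := sub_eq_zero.1 h1
  exact Subtype.ext ((hreg v _ hv (act_ne_zero _ hv)).unique h2 rfl)

theorem isCyclic_of_abelian' (hreg : Reg H) {N : Subgroup H} (B : Subgroup N)
    (hB : IsMulCommutative B) : IsCyclic B := by
  haveI := isCyclic_of_abelian hreg (B.map N.subtype) inferInstance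
  exact ((B.equivMapOfInjective _ N.subtype_injective).isCyclic).2 inferInstance

omit [Finite V] in
theorem act_eq_neg_one (hreg : Reg H) {t : H} (ht : t * t = 1) (h1 : t ≠ 1) :
    act H t = -1 := by
  refine LinearMap.ext fun v => ?_
  by_contra hne
  have hw : act H t v + v ≠ 0 := fun h => hne (eq_neg_of_add_eq_zero_left h)
  apply h1 (eq_one_of_fixed hreg hw ?_)
  have htt : act H t (act H t v) = v := by
    rw [← Module.End.mul_apply, ← map_mul, ht, map_one, Module.End.one_apply]
  rw [map_add, htt, add_comm]

section Minimal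

variable {A N : Subgroup H}
  (hmax : ∀ B : Subgroup H, B.Normal → IsMulCommutative B → A ≤ B → B = A)
  (hAn : A.Normal) (hA : IsMulCommutative A) (hNn : N.Normal)
  (hNle : N ≤ Subgroup.centralizer (A : Set H))
  (hNmin : ∀ M : Subgroup H, M.Normal → M ≤ N → ¬ IsMulCommutative M → M = N)

include hmax hAn hA

omit [Finite V] in
theorem le_of_abelian_normal {M : Subgroup H} (hMn : M.Normal)
    (hMle : M ≤ Subgroup.centralizer (A : Set H)) (hM : IsMulCommutative M) : M ≤ A := by
  have h : M ⊔ A = A := by
    refine hmax _ inferInstance ?_ le_sup_right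
    rw [← Subgroup.le_centralizer_iff_isMulCommutative]
    have hM' := Subgroup.le_centralizer_iff_isMulCommutative.2 hM
    have hA' := Subgroup.le_centralizer_iff_isMulCommutative.2 hA
    refine sup_le ?_ ?_
    · rw [Subgroup.le_centralizer_iff]
      exact sup_le hM' (Subgroup.le_centralizer_iff.1 hMle)
    · rw [Subgroup.le_centralizer_iff]
      exact sup_le hMle hA'
  exact le_sup_left.trans h.le

include hNle hNmin

omit [Finite V] in
theorem le_of_lt {M : Subgroup H} (hMn : M.Normal) (hlt : M < N) : M ≤ A :=
  le_of_abelian_normal hmax hAn hA hMn (hlt.le.trans hNle)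
    (Classical.byContradiction fun hc => hlt.ne (hNmin M hMn hlt.le hc))

include hNn

/-- A minimal non-abelian normal subgroup centralising `A` is perfect or quaternion. -/
theorem perfect_or_quaternion (hreg : Reg H) (hNna : ¬ IsMulCommutative N) :
    commutator N = ⊤ ∨ Nonempty (N ≃* QuaternionGroup 2) := by
  refine or_iff_not_imp_left.2 fun hperf => ?_
  haveI := finite_of_reg hreg
  haveI := hNn
  have hcentral : ∀ M : Subgroup N, M.Characteristic → M ≠ ⊤ → M ≤ Subgroup.center N := by
    intro M hM hMne
    have hlt : M.map N.subtype < N := by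
      refine lt_of_le_of_ne (Subgroup.map_subtype_le M) fun h => hMne ?_
      apply Subgroup.map_injective N.subtype_injective
      rw [h, ← MonoidHom.range_eq_map, Subgroup.range_subtype]
    have hle := le_of_lt hmax hAn hA hNle hNmin inferInstance hlt
    intro x hx
    rw [Subgroup.mem_center_iff]
    intro g
    exact Subtype.ext (Subgroup.mem_centralizer_iff.1 (hNle g.2) _
      (hle (Subgroup.mem_map_of_mem _ hx))).symm
  have hclass : ∀ x y z : N, ClassTwo.cm x y * z = z * ClassTwo.cm x y := by
    intro x y z
    refine (Subgroup.mem_center_iff.1 (hcentral (commutator N) inferInstance hperf ?_) z).symm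
    exact Subgroup.commutator_mem_commutator (Subgroup.mem_top x) (Subgroup.mem_top y)
  obtain ⟨a, b, hne⟩ : ∃ a b : N, a * b ≠ b * a := by
    by_contra hne
    push Not at hne
    exact hNna ⟨⟨hne⟩⟩
  exact ClassTwo.nonempty_mulEquiv_quaternion' hclass hne
    (fun B hB => isCyclic_of_abelian' hreg B hB) hcentral

end Minimal

/-- A quaternion pair in `H` gives an odd prime power `q` with `|V| = q²` and `|D| ∣ q - 1` for
every subgroup `D` centralising the pair; if `q = p` such a `D` is commutative. -/
theorem quaternion_pair (hreg : Reg H) [Nontrivial V] (i j : H) (h1 : i * i = j * j)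
    (h2 : i * i ≠ 1) (h3 : i * i * (i * i) = 1) (h4 : i * j = i * i * (j * i)) :
    p ≠ 2 ∧ ∃ m : ℕ, m ≠ 0 ∧ Nat.card V = (p ^ m) ^ 2 ∧ ∀ D : Subgroup H,
      (∀ d ∈ D, d * i = i * d ∧ d * j = j * d) →
        Nat.card D ∣ p ^ m - 1 ∧ (p ^ m = p → IsMulCommutative D) := by
  classical
  have hneg := act_eq_neg_one hreg h3 h2
  have hp2 : p ≠ 2 := by
    rintro rfl
    apply h2
    apply act_injective
    rw [hneg, map_one]
    refine LinearMap.ext fun v => ?_
    show -v = v
    have : ((2 : ℕ) : ZMod 2) • v = 0 := by rw [ZMod.natCast_self, zero_smul]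
    rw [Nat.cast_ofNat, two_smul] at this
    exact neg_eq_of_add_eq_zero_left this
  refine ⟨hp2, ?_⟩
  have h2' : (2 : ZMod p) ≠ 0 := by
    intro h
    apply hp2
    have : ((2 : ℕ) : ZMod p) = 0 := by simpa using h
    rw [ZMod.natCast_eq_zero_iff] at this
    exact (Nat.prime_dvd_prime_iff_eq Fact.out Nat.prime_two).1 this
  obtain ⟨a, b, hab⟩ := ZMod.sq_add_sq p (-1)
  set I := act H i with hIdef
  set J := act H j with hJdef
  have hII : ∀ v, I (I v) = -v := fun v => by
    rw [← Module.End.mul_apply, ← map_mul, hneg]; rfl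
  have hJJ : ∀ v, J (J v) = -v := fun v => by
    rw [← Module.End.mul_apply, ← map_mul, ← h1, hneg]; rfl
  have hIJ : ∀ v, I (J v) = -(J (I v)) := fun v => by
    rw [← Module.End.mul_apply, ← map_mul, h4, map_mul, hneg, map_mul]; rfl
  set r : Module.End (ZMod p) V := a • I + b • J with hr
  set s : Module.End (ZMod p) V := b • I - a • J with hs
  have hrr : ∀ v, r (r v) = v := fun v => by
    simp only [hr, LinearMap.add_apply, LinearMap.smul_apply, map_add, map_smul, hII, hJJ, hIJ]
    linear_combination (norm := module) (-hab) • v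
  have hss : ∀ v, s (s v) = v := fun v => by
    simp only [hs, LinearMap.sub_apply, LinearMap.smul_apply, map_sub, map_smul, hII, hJJ, hIJ]
    linear_combination (norm := module) (-hab) • v
  have hrs : ∀ v, r (s v) = -(s (r v)) := fun v => by
    simp only [hr, hs, LinearMap.add_apply, LinearMap.sub_apply, LinearMap.smul_apply, map_add,
      map_sub, map_smul, hII, hJJ, hIJ]
    module
  set U : Submodule (ZMod p) V := LinearMap.ker (r - 1) with hU
  have hmemU : ∀ v, v ∈ U ↔ r v = v := fun v => by
    rw [hU, LinearMap.mem_ker, LinearMap.sub_apply, Module.End.one_apply, sub_eq_zero]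
  let F : U × U → V := fun x => (x.1 : V) + s (x.2 : V)
  have hF : Function.Bijective F := by
    constructor
    · rintro ⟨u, w⟩ ⟨u', w'⟩ h
      have e : (u : V) + s (w : V) = u' + s (w' : V) := h
      have e' := congrArg r e
      rw [map_add, map_add, (hmemU _).1 u.2, (hmemU _).1 u'.2, hrs, hrs, (hmemU _).1 w.2,
        (hmemU _).1 w'.2] at e'
      have hu : (2 : ZMod p) • (u : V) = (2 : ZMod p) • (u' : V) := by
        linear_combination (norm := module) e + e'
      have hu' : (u : V) = u' := smul_right_injective V h2' hu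
      rw [hu', add_right_inj] at e
      have hw := congrArg s e
      rw [hss, hss] at hw
      exact Prod.ext (Subtype.ext hu') (Subtype.ext hw)
    · intro x
      have hu : (2 : ZMod p)⁻¹ • (x + r x) ∈ U := by
        rw [hmemU, map_smul, map_add, hrr, add_comm]
      have hw : (2 : ZMod p)⁻¹ • s (x - r x) ∈ U := by
        rw [hmemU, map_smul, hrs, map_sub, hrr, ← map_neg, neg_sub]
      refine ⟨(⟨_, hu⟩, ⟨_, hw⟩), ?_⟩
      show (2 : ZMod p)⁻¹ • (x + r x) + s ((2 : ZMod p)⁻¹ • s (x - r x)) = x
      rw [map_smul, hss, ← smul_add, add_add_sub_cancel, ← two_smul (ZMod p), smul_smul,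
        inv_mul_cancel₀ h2', one_smul]
  have hcardV : Nat.card V = Nat.card U ^ 2 := by
    rw [← Nat.card_congr (Equiv.ofBijective F hF), Nat.card_prod, sq]
  have hcardU : Nat.card U = p ^ Module.finrank (ZMod p) U := by
    rw [Module.natCard_eq_pow_finrank (K := ZMod p), Nat.card_zmod]
  refine ⟨Module.finrank (ZMod p) U, ?_, by rw [hcardV, hcardU], ?_⟩
  · intro h0
    rw [h0, pow_zero] at hcardU
    have h5 : 1 < Nat.card V := Finite.one_lt_card
    rw [hcardV, hcardU] at h5
    simp at h5
  intro D hD
  have hinv : ∀ d : D, ∀ u : U, act H (d : H) (u : V) ∈ U := by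
    intro d u
    rw [hmemU]
    have hi := LinearMap.congr_fun (congrArg (act H) (hD _ d.2).1) (u : V)
    have hj := LinearMap.congr_fun (congrArg (act H) (hD _ d.2).2) (u : V)
    rw [map_mul, map_mul, Module.End.mul_apply, Module.End.mul_apply] at hi hj
    conv_rhs => rw [← (hmemU _).1 u.2]
    simp only [hr, LinearMap.add_apply, LinearMap.smul_apply, map_add, map_smul]
    rw [hi, hj]
  let X := {u : U // u ≠ 0}
  letI : MulAction D X :=
    { smul := fun d u => ⟨⟨act H (d : H) (u.1 : V), hinv d u.1⟩, fun h =>
        act_ne_zero (d : H) (fun h0 => u.2 (Subtype.ext h0)) (congrArg Subtype.val h)⟩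
      one_smul := fun u => Subtype.ext (Subtype.ext (LinearMap.congr_fun (map_one (act H)) _))
      mul_smul := fun d e u =>
        Subtype.ext (Subtype.ext (LinearMap.congr_fun (map_mul (act H) (d : H) (e : H)) _)) }
  have hfree : ∀ u : X, MulAction.stabilizer D u = ⊥ := by
    intro u
    rw [Subgroup.eq_bot_iff_forall]
    intro d hd
    have h : act H (d : H) (u.1 : V) = u.1 := congrArg (fun x : X => (x.1 : V)) hd
    exact Subtype.ext (eq_one_of_fixed hreg (fun h0 => u.2 (Subtype.ext h0)) h)
  have hX : Nat.card X + 1 = Nat.card U := by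
    rw [Nat.card_congr (Equiv.optionSubtypeNe (0 : U)).symm, Finite.card_option]
  refine ⟨?_, fun hm => ?_⟩
  · have := Nat.card_congr (MulAction.selfEquivOrbitsQuotientProd hfree)
    rw [Nat.card_prod] at this
    rw [← hcardU, ← hX, Nat.add_sub_cancel, this]
    exact dvd_mul_left _ _
  · have h1U : Module.finrank (ZMod p) U = 1 := by
      have := Nat.pow_right_injective (Fact.out : p.Prime).two_le
        (show p ^ Module.finrank (ZMod p) U = p ^ 1 by rw [hm, pow_one])
      exact this
    obtain ⟨w, hw0, hw⟩ := finrank_eq_one_iff'.1 h1U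
    refine ⟨⟨fun d e => Subtype.ext ?_⟩⟩
    obtain ⟨c, hc⟩ := hw ⟨_, hinv d w⟩
    obtain ⟨c', hc'⟩ := hw ⟨_, hinv e w⟩
    have hd : act H (d : H) (w : V) = c • (w : V) := (congrArg Subtype.val hc).symm
    have he : act H (e : H) (w : V) = c' • (w : V) := (congrArg Subtype.val hc').symm
    have hw' : (w : V) ≠ 0 := fun h => hw0 (Subtype.ext h)
    refine (hreg (w : V) (act H ((e : H) * (d : H)) w) hw' (act_ne_zero _ hw')).unique
      (?_ : act H ((d : H) * (e : H)) w = _) rfl
    rw [map_mul, map_mul, Module.End.mul_apply, Module.End.mul_apply,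
      he, hd, map_smul, map_smul, he, hd, smul_comm]

omit [Finite V] in
/-- Conjugation on a normal subgroup splits the order. -/
theorem card_eq_range_mul (N : Subgroup H) [N.Normal] :
    Nat.card H = Nat.card (MulAut.conjNormal : H →* MulAut N).range *
      Nat.card (Subgroup.centralizer (N : Set H)) := by
  have hk : (MulAut.conjNormal : H →* MulAut N).ker = Subgroup.centralizer (N : Set H) := by
    ext h
    rw [MonoidHom.mem_ker, Subgroup.mem_centralizer_iff]
    constructor
    · intro hh g hg
      have h5 := congrArg (fun σ : MulAut N => ((σ ⟨g, hg⟩ : N) : H)) hh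
      simp only [MulAut.conjNormal_apply, MulAut.one_apply] at h5
      exact (mul_inv_eq_iff_eq_mul.1 h5).symm
    · intro hh
      apply MulEquiv.ext
      intro g
      apply Subtype.ext
      rw [MulAut.conjNormal_apply, MulAut.one_apply, ← hh g g.2, mul_inv_cancel_right]
  rw [← hk, ← Subgroup.index_ker, Subgroup.index_mul_card]

end Cfsg.Agent.Perm.NearField
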