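import Mathlib
import Cfsg.Agent.Lib.Perm.PermModule

/-!
Transitive groups of prime degree: coordinates, polynomial functions on `ZMod p`.
-/

set_option autoImplicit false

namespace Cfsg.Agent.Perm.PrimeDeg

open MulAction Polynomial

variable {p : ℕ} [hp : Fact p.Prime] {K : Type*} [Field K] [CharP K p]

/-- Evaluation of a polynomial over `K` as a function on `ZMod p`. -/
noncomputable def ev : K[X] →ₗ[K] (ZMod p → K) where
  toFun P j := P.eval (ZMod.castHom dvd_rfl K j)
  map_add' P Q := by funext j; simp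
  map_smul' c P := by funext j; simp

theorem ev_apply (P : K[X]) (j : ZMod p) : ev P j = P.eval (ZMod.castHom dvd_rfl K j) := rfl

theorem eq_zero_of_ev_eq_zero {P : K[X]} (hP : P.degree < p) (h : ev (p := p) P = 0) : P = 0 := by
  by_contra h0
  refine h0 (eq_zero_of_natDegree_lt_card_of_eval_eq_zero P
    (f := fun j : ZMod p => ZMod.castHom dvd_rfl K j) (ZMod.castHom dvd_rfl K).injective
    (fun j => congrFun h j) ?_)
  rw [ZMod.card]
  exact (natDegree_lt_iff_degree_lt h0).mpr hP

theorem ev_injOn {P Q : K[X]} (hP : P.degree < p) (hQ : Q.degree < p)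
    (h : ev (p := p) P = ev Q) : P = Q :=
  sub_eq_zero.mp (eq_zero_of_ev_eq_zero ((degree_sub_le P Q).trans_lt (max_lt hP hQ))
    (by rw [map_sub, h, sub_self]))

variable (p K) in
/-- The functions on `ZMod p` given by polynomials of degree less than `r`. -/
noncomputable def polySpace (r : ℕ) : Submodule K (ZMod p → K) :=
  (Polynomial.degreeLT K r).map ev

theorem mem_polySpace {r : ℕ} {f : ZMod p → K} :
    f ∈ polySpace p K r ↔ ∃ P : K[X], P.degree < r ∧ ev P = f := by
  simp [polySpace, Submodule.mem_map, Polynomial.mem_degreeLT]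

theorem polySpace_mono {r s : ℕ} (h : r ≤ s) : polySpace p K r ≤ polySpace p K s :=
  Submodule.map_mono (Polynomial.degreeLT_mono h)

theorem polySpace_zero : polySpace p K 0 = ⊥ := by
  rw [Submodule.eq_bot_iff]
  intro f hf
  obtain ⟨P, hP, rfl⟩ := mem_polySpace.mp hf
  have : P = 0 := by
    by_contra h
    rw [degree_eq_natDegree h] at hP
    norm_cast at hP
  rw [this, map_zero]

theorem finrank_polySpace {r : ℕ} (hr : r ≤ p) : Module.finrank K (polySpace p K r) = r := by
  let L : Polynomial.degreeLT K r →ₗ[K] polySpace p K r :=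
    (ev.comp (Polynomial.degreeLT K r).subtype).codRestrict _ fun P => ⟨P, P.2, rfl⟩
  have hL : Function.Bijective L := by
    constructor
    · intro P Q h
      exact Subtype.ext (ev_injOn
        (lt_of_lt_of_le (Polynomial.mem_degreeLT.mp P.2) (by exact_mod_cast hr))
        (lt_of_lt_of_le (Polynomial.mem_degreeLT.mp Q.2) (by exact_mod_cast hr))
        (congrArg Subtype.val h))
    · rintro ⟨f, P, hP, rfl⟩
      exact ⟨⟨P, hP⟩, rfl⟩
  rw [← (LinearEquiv.ofBijective L hL).finrank_eq, LinearEquiv.finrank_eq (Polynomial.degreeLTEquiv K r),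
    Module.finrank_fintype_fun_eq_card, Fintype.card_fin]

theorem polySpace_p : polySpace p K p = ⊤ :=
  Submodule.eq_top_of_finrank_eq (by
    rw [finrank_polySpace le_rfl, Module.finrank_fintype_fun_eq_card, ZMod.card])

theorem exists_poly (f : ZMod p → K) : ∃ P : K[X], P.degree < p ∧ ev P = f :=
  mem_polySpace.mp (polySpace_p (p := p) (K := K) ▸ Submodule.mem_top)

theorem ev_X_pow (i : ℕ) : ev (p := p) ((X : K[X]) ^ i) = fun j => (ZMod.castHom dvd_rfl K j) ^ i := by
  funext j; simp [ev_apply]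

theorem mem_polySpace_one {f : ZMod p → K} : f ∈ polySpace p K 1 ↔ ∃ c : K, f = fun _ => c := by
  rw [mem_polySpace]
  constructor
  · rintro ⟨P, hP, rfl⟩
    refine ⟨P.coeff 0, funext fun j => ?_⟩
    have : P = C (P.coeff 0) := by
      ext n
      rcases n with _ | n
      · simp
      · rw [coeff_C, if_neg (Nat.succ_ne_zero n)]
        exact (degree_lt_iff_coeff_zero P 1).mp hP (n + 1) (by omega)
    rw [ev_apply]
    conv_lhs => rw [this, eval_C]
  · rintro ⟨c, rfl⟩
    exact ⟨C c, lt_of_le_of_lt degree_C_le (by norm_num), funext fun j => by simp [ev_apply]⟩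

theorem natCast_ne_zero {n : ℕ} (h0 : 0 < n) (hn : n < p) : (n : K) ≠ 0 := by
  rw [Ne, CharP.cast_eq_zero_iff K p]
  exact fun hd => absurd (Nat.le_of_dvd h0 hd) (by omega)

theorem sub_taylor_coeff (P : K[X]) {d : ℕ} (hP : P.natDegree ≤ d + 1) :
    (P - taylor (-1) P).coeff d = (d + 1 : ℕ) * P.coeff (d + 1) ∧
      ∀ j, d + 1 ≤ j → (P - taylor (-1) P).coeff j = 0 := by
  have hlow : ∀ j, d + 1 ≤ j → P.coeff (1 + j) = 0 :=
    fun j hj => coeff_eq_zero_of_natDegree_lt (by omega)
  have hdeg : ∀ j, d ≤ j → (hasseDeriv j P).natDegree < 2 := fun j hj => by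
    have := natDegree_hasseDeriv_le P j; omega
  constructor
  · rw [coeff_sub, taylor_coeff, eval_eq_sum_range' (hdeg d le_rfl), Finset.sum_range_succ,
      Finset.sum_range_one, hasseDeriv_coeff, hasseDeriv_coeff]
    simp [Nat.choose_succ_self_right, add_comm 1 d]
  · intro j hj
    rw [coeff_sub, taylor_coeff, eval_eq_sum_range' (hdeg j (by omega)), Finset.sum_range_succ,
      Finset.sum_range_one, hasseDeriv_coeff, hasseDeriv_coeff]
    simp [hlow j hj]

theorem ev_taylor_neg_one (P : K[X]) :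
    ev (p := p) (taylor (-1) P) = fun j => ev P (j - 1) := by
  funext j
  simp [ev_apply, taylor_eval, sub_eq_add_neg]

/-- Translation-invariant subspaces are spaces of polynomial functions. -/
theorem exists_eq_polySpace (W : Submodule K (ZMod p → K))
    (hW : ∀ f ∈ W, (fun j => f (j - 1)) ∈ W) : ∃ r ≤ p, W = polySpace p K r := by
  classical
  have hex : ∃ r, W ≤ polySpace p K r := ⟨p, by rw [polySpace_p]; exact le_top⟩
  let r := Nat.find hex
  have hr : r ≤ p := Nat.find_min' hex (by rw [polySpace_p]; exact le_top)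
  have hle : W ≤ polySpace p K r := Nat.find_spec hex
  refine ⟨r, hr, le_antisymm hle ?_⟩
  have hexact : ∀ k, k < r → ∃ P : K[X], P.natDegree = r - 1 - k ∧ P ≠ 0 ∧ ev P ∈ W := by
    intro k hk
    induction k with
    | zero =>
      have : ¬ W ≤ polySpace p K (r - 1) := Nat.find_min hex (show r - 1 < r by omega)
      obtain ⟨f, hf, hf'⟩ := SetLike.not_le_iff_exists.mp this
      obtain ⟨P, hP, rfl⟩ := mem_polySpace.mp (hle hf)
      have hP0 : P ≠ 0 := fun e => hf' (by rw [e, map_zero]; exact zero_mem _)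
      refine ⟨P, ?_, hP0, hf⟩
      rw [← natDegree_lt_iff_degree_lt hP0] at hP
      by_contra hne
      exact hf' (mem_polySpace.mpr ⟨P, (natDegree_lt_iff_degree_lt hP0).mp (by omega), rfl⟩)
    | succ k ih =>
      obtain ⟨P, hd, hP0, hPW⟩ := ih (by omega)
      have hd' : P.natDegree = (r - 1 - (k + 1)) + 1 := by omega
      obtain ⟨htop, hhigh⟩ := sub_taylor_coeff P hd'.le
      have hne : (P - taylor (-1) P).coeff (r - 1 - (k + 1)) ≠ 0 := by
        rw [htop, ← hd']
        exact mul_ne_zero (natCast_ne_zero (p := p) (by omega) (by omega)) (leadingCoeff_ne_zero.mpr hP0)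
      refine ⟨P - taylor (-1) P, le_antisymm ?_ (le_natDegree_of_ne_zero hne), ?_, ?_⟩
      · exact natDegree_le_iff_coeff_eq_zero.mpr fun j hj => hhigh j (by omega)
      · intro e; rw [e, coeff_zero] at hne; exact hne rfl
      · rw [map_sub, ev_taylor_neg_one]
        exact sub_mem hPW (hW _ hPW)
  have hall : ∀ d, d ≤ r → polySpace p K d ≤ W := by
    intro d
    induction d with
    | zero => intro _; rw [polySpace_zero]; exact bot_le
    | succ d ih =>
      intro hdr f hf
      obtain ⟨Q, hQ, rfl⟩ := mem_polySpace.mp hf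
      obtain ⟨P, hPd, hP0, hPW⟩ := hexact (r - 1 - d) (by omega)
      have hPd' : P.natDegree = d := by omega
      have hlc : P.coeff d ≠ 0 := by rw [← hPd']; exact leadingCoeff_ne_zero.mpr hP0
      let c := Q.coeff d / P.coeff d
      have hlt : (Q - c • P).degree < (d : WithBot ℕ) := by
        rw [degree_lt_iff_coeff_zero]
        intro j hj
        rw [coeff_sub, coeff_smul, smul_eq_mul]
        rcases Nat.eq_or_lt_of_le hj with rfl | hj'
        · simp only [c, div_mul_cancel₀ _ hlc, sub_self]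
        · rw [(degree_lt_iff_coeff_zero Q (d + 1)).mp hQ j hj',
            coeff_eq_zero_of_natDegree_lt (show P.natDegree < j by omega), mul_zero, sub_zero]
      have h1 : ev (Q - c • P) ∈ W := ih (by omega) (mem_polySpace.mpr ⟨_, hlt, rfl⟩)
      have h2 := add_mem h1 (W.smul_mem c hPW)
      rw [← map_smul, ← map_add, sub_add_cancel] at h2
      exact h2
  exact hall r le_rfl

theorem sum_ev (P : K[X]) (hP : P.degree < p) :
    ∑ j, ev (p := p) P j = - P.coeff (p - 1) := by
  have h0 : P ≠ 0 → P.natDegree < p := fun h => (natDegree_lt_iff_degree_lt h).mpr hP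
  have hlt : P.natDegree < p := by
    rcases eq_or_ne P 0 with h | h
    · rw [h, natDegree_zero]; exact hp.out.pos
    · exact h0 h
  simp only [ev_apply, eval_eq_sum_range' hlt]
  rw [Finset.sum_comm]
  have hs : ∀ i < p - 1, ∑ j : ZMod p, (ZMod.castHom dvd_rfl K j) ^ i = 0 := by
    intro i hi
    simp only [← map_pow]
    rw [← map_sum, FiniteField.sum_pow_lt_card_sub_one (ZMod p) i (by rw [ZMod.card]; exact hi),
      map_zero]
  have hlast : ∑ j : ZMod p, (ZMod.castHom dvd_rfl K j) ^ (p - 1) = -1 := by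
    simp only [← map_pow]
    rw [← map_sum]
    have h1 : ∀ j : ZMod p, j ^ (p - 1) = if j = 0 then 0 else 1 := fun j => by
      split_ifs with h
      · rw [h, zero_pow (by have := hp.out.two_le; omega)]
      · exact ZMod.pow_card_sub_one_eq_one h
    simp only [h1]
    rw [Finset.sum_ite, Finset.sum_const_zero, zero_add, Finset.sum_const,
      Finset.filter_ne' Finset.univ (0 : ZMod p), Finset.card_erase_of_mem (Finset.mem_univ _),
      Finset.card_univ, ZMod.card, nsmul_eq_mul, mul_one, Nat.cast_sub hp.out.one_le]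
    simp
  obtain ⟨m, hm⟩ : ∃ m, p = m + 1 := ⟨p - 1, by have := hp.out.two_le; omega⟩
  rw [show Finset.range p = Finset.range (m + 1) from by rw [hm], Finset.sum_range_succ,
    Finset.sum_eq_zero (fun i hi => by
      rw [← Finset.mul_sum, hs i (by have := Finset.mem_range.mp hi; omega), mul_zero]),
    ← Finset.mul_sum, show m = p - 1 by omega, hlast]
  ring

theorem polySpace_sub_one_eq :
    polySpace p K (p - 1) = LinearMap.ker (∑ j : ZMod p, LinearMap.proj j : (ZMod p → K) →ₗ[K] K) := by
  ext f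
  rw [LinearMap.mem_ker, LinearMap.sum_apply]
  simp only [LinearMap.proj_apply]
  obtain ⟨P, hP, rfl⟩ := exists_poly f
  rw [sum_ev P hP, neg_eq_zero, mem_polySpace]
  constructor
  · rintro ⟨Q, hQ, e⟩
    have : Q = P := ev_injOn (lt_of_lt_of_le hQ (by exact_mod_cast Nat.sub_le p 1)) hP e
    rw [← this]
    exact (degree_lt_iff_coeff_zero Q _).mp hQ _ le_rfl
  · intro h
    refine ⟨P, ?_, rfl⟩
    rw [degree_lt_iff_coeff_zero]
    intro j hj
    rcases Nat.eq_or_lt_of_le hj with rfl | hj'
    · exact h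
    · exact (degree_lt_iff_coeff_zero P p).mp hP j (by omega)

theorem mem_polySpace_of_orthogonal {r : ℕ} (hr : 1 ≤ r) {f : ZMod p → K}
    (h : ∀ g ∈ polySpace p K r, ∑ j, f j * g j = 0) : f ∈ polySpace p K (p - r) := by
  obtain ⟨P, hP, rfl⟩ := exists_poly f
  rcases eq_or_ne P 0 with h0 | h0
  · rw [h0, map_zero]; exact zero_mem _
  refine mem_polySpace.mpr ⟨P, ?_, rfl⟩
  rw [← natDegree_lt_iff_degree_lt h0] at hP ⊢
  by_contra hge
  let d := P.natDegree
  have hX : ev (p := p) ((X : K[X]) ^ (p - 1 - d)) ∈ polySpace p K r :=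
    mem_polySpace.mpr ⟨_, by rw [degree_X_pow]; exact_mod_cast (show p - 1 - d < r by omega), rfl⟩
  have := h _ hX
  have e : ∀ j, ev (p := p) P j * ev ((X : K[X]) ^ (p - 1 - d)) j = ev (P * X ^ (p - 1 - d)) j :=
    fun j => by simp [ev_apply]
  simp only [e] at this
  have hd : (P * X ^ (p - 1 - d)).natDegree = p - 1 := by
    rw [natDegree_mul h0 (pow_ne_zero _ X_ne_zero), natDegree_X_pow]; omega
  rw [sum_ev _ (by
    rw [← natDegree_lt_iff_degree_lt (mul_ne_zero h0 (pow_ne_zero _ X_ne_zero)), hd]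
    have := hp.out.two_le; omega), neg_eq_zero] at this
  exact mul_ne_zero h0 (pow_ne_zero _ X_ne_zero)
    (leadingCoeff_eq_zero.mp (by rw [leadingCoeff, hd]; exact this))

theorem orthogonal_of_mem {r : ℕ} (hrp : r ≤ p) {f g : ZMod p → K}
    (hf : f ∈ polySpace p K (p - r)) (hg : g ∈ polySpace p K r) : ∑ j, f j * g j = 0 := by
  obtain ⟨P, hP, rfl⟩ := mem_polySpace.mp hf
  obtain ⟨Q, hQ, rfl⟩ := mem_polySpace.mp hg
  rcases eq_or_ne P 0 with h0 | h0
  · simp [h0]
  rcases eq_or_ne Q 0 with h1 | h1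
  · simp [h1]
  rw [← natDegree_lt_iff_degree_lt h0] at hP
  rw [← natDegree_lt_iff_degree_lt h1] at hQ
  have e : ∀ j, ev (p := p) P j * ev Q j = ev (P * Q) j := fun j => by simp [ev_apply]
  simp only [e]
  have hd : (P * Q).natDegree < p - 1 := by rw [natDegree_mul h0 h1]; omega
  rw [sum_ev _ (by rw [← natDegree_lt_iff_degree_lt (mul_ne_zero h0 h1)]; omega),
    coeff_eq_zero_of_natDegree_lt hd, neg_zero]

omit [CharP K p] in
theorem affine_of_polySpace_invariant [CharP K p] (π : Equiv.Perm (ZMod p)) {s : ℕ} (hs : 2 ≤ s)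
    (hsp : 2 * s ≤ p + 1) (h : ∀ f ∈ polySpace p K s, f ∘ π ∈ polySpace p K s) :
    ∀ x, π x = π 0 + (π 1 - π 0) * x := by
  have hmem : ∀ j < s, ∃ P : K[X], P.degree < s ∧
      ev P = fun x => (ZMod.castHom dvd_rfl K (π x)) ^ j := by
    intro j hj
    have hXj : ev (p := p) ((X : K[X]) ^ j) ∈ polySpace p K s :=
      mem_polySpace.mpr ⟨_, by rw [degree_X_pow]; exact_mod_cast hj, rfl⟩
    obtain ⟨P, hP, e⟩ := mem_polySpace.mp (h _ hXj)
    exact ⟨P, hP, by rw [e, ev_X_pow]; rfl⟩
  obtain ⟨P, hP, hPe⟩ := hmem 1 (by omega)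
  simp only [pow_one] at hPe
  have hd : P.natDegree ≤ 1 := by
    by_contra hd
    push Not at hd
    set d := P.natDegree with hdd
    have hP0 : P ≠ 0 := fun e => by rw [e, natDegree_zero] at hdd; omega
    have hds : d < s := (natDegree_lt_iff_degree_lt hP0).mpr hP
    set j := (s - 1) / d + 1 with hjd
    have hdiv := Nat.div_add_mod (s - 1) d
    have hmod := Nat.mod_lt (s - 1) (show d > 0 by omega)
    have hmul : j * d = d * ((s - 1) / d) + d := by rw [hjd]; ring
    have h2 : 2 * ((s - 1) / d) ≤ s - 1 :=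
      (Nat.mul_le_mul_right _ (show 2 ≤ d by omega)).trans (Nat.mul_div_le _ _)
    obtain ⟨R, hR, hRe⟩ := hmem j (by omega)
    have hpj : (P ^ j).natDegree = j * d := by rw [natDegree_pow]
    have hev : ev (p := p) (P ^ j) = ev R := by
      rw [hRe]; funext x
      rw [ev_apply, eval_pow]
      exact congrArg (· ^ j) (congrFun hPe x)
    have e : P ^ j = R := ev_injOn
      ((natDegree_lt_iff_degree_lt (pow_ne_zero _ hP0)).mp (by omega))
      (lt_of_lt_of_le hR (by exact_mod_cast (show s ≤ p by omega))) hev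
    have hlt := (natDegree_lt_iff_degree_lt (pow_ne_zero j hP0)).mpr (e.symm ▸ hR)
    omega
  intro x
  apply (ZMod.castHom dvd_rfl K).injective
  have hx : ∀ y, ZMod.castHom dvd_rfl K (π y) =
      P.coeff 1 * ZMod.castHom dvd_rfl K y + P.coeff 0 := fun y => by
    rw [← congrFun hPe y, ev_apply]
    conv_lhs => rw [eq_X_add_C_of_natDegree_le_one hd]
    simp
  simp only [map_add, map_mul, map_sub, hx, map_zero, map_one]
  ring

section Coordinates

variable {α : Type*} [Finite α]

/-- Coordinates adapted to an element of order `p`. -/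
theorem exists_coord (hα : Nat.card α = p) {τ : Equiv.Perm α} (hτ : orderOf τ = p) :
    ∃ e : ZMod p ≃ α, ∀ i, τ (e i) = e (i + 1) := by
  have hτ1 : τ ≠ 1 := fun e => by rw [e, orderOf_one] at hτ; exact hp.out.one_lt.ne hτ
  obtain ⟨a, ha⟩ : ∃ a, τ a ≠ a := by
    by_contra h
    push Not at h
    exact hτ1 (Equiv.ext h)
  let Z := Subgroup.zpowers τ
  have hZ : Nat.card Z = p := by rw [Nat.card_zpowers, hτ]
  have horb : Nat.card (orbit Z a) = p := by
    have h1 := card_orbit_mul_card_stabilizer (G := Z) a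
    rw [hZ] at h1
    rcases (Nat.dvd_prime hp.out).mp ⟨_, h1.symm⟩ with h | h
    · exfalso
      rw [Nat.card_coe_set_eq, Set.ncard_eq_one] at h
      obtain ⟨b, hb⟩ := h
      have m1 : a ∈ orbit Z a := mem_orbit_self a
      have m2 : τ a ∈ orbit Z a := ⟨⟨τ, Subgroup.mem_zpowers τ⟩, rfl⟩
      rw [hb] at m1 m2
      exact ha (m2.trans m1.symm)
    · exact h
  have hpow : ∀ n : ℕ, τ ^ n = τ ^ ((n : ZMod p).val) := fun n => by
    rw [ZMod.val_natCast, ← hτ, pow_mod_orderOf]
  let e : ZMod p → α := fun i => (τ ^ i.val) a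
  have hsurj : Function.Surjective e := by
    intro b
    have hb : b ∈ orbit Z a := by
      have : orbit Z a = Set.univ :=
        (Set.eq_univ_iff_ncard _).mpr (by rw [← Nat.card_coe_set_eq, horb, hα])
      rw [this]; trivial
    obtain ⟨⟨g, hg⟩, rfl⟩ := hb
    obtain ⟨n, rfl⟩ := (isOfFinOrder_of_finite τ).mem_powers_iff_mem_zpowers.mpr hg
    exact ⟨(n : ZMod p), by show (τ ^ _) a = _; rw [← hpow]; rfl⟩
  haveI : NeZero p := ⟨hp.out.ne_zero⟩
  have hbij : Function.Bijective e := by
    refine (Nat.bijective_iff_surjective_and_card e).mpr ⟨hsurj, ?_⟩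
    rw [Nat.card_zmod, hα]
  refine ⟨Equiv.ofBijective e hbij, fun i => ?_⟩
  show τ ((τ ^ i.val) a) = (τ ^ (i + 1).val) a
  rw [← Equiv.Perm.mul_apply, ← pow_succ', hpow (i.val + 1)]
  simp

variable {G : Subgroup (Equiv.Perm α)}

/-- The action in coordinates. -/
def conjPerm (e : ZMod p ≃ α) (g : G) : Equiv.Perm (ZMod p) :=
  (e.trans (g : Equiv.Perm α)).trans e.symm

theorem apply_coord (e : ZMod p ≃ α) (g : G) (i : ZMod p) :
    g • e i = e (conjPerm e g i) := (e.apply_symm_apply _).symm

theorem conjPerm_mul (e : ZMod p ≃ α) (g h : G) (i : ZMod p) :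
    conjPerm e (g * h) i = conjPerm e g (conjPerm e h i) := by
  simp [conjPerm]

theorem conjPerm_one (e : ZMod p ≃ α) (i : ZMod p) : conjPerm e (1 : G) i = i := by
  simp [conjPerm]

theorem conjPerm_injective (e : ZMod p ≃ α) :
    Function.Injective (conjPerm e : G → Equiv.Perm (ZMod p)) := by
  intro g h hgh
  apply Subtype.ext
  ext x
  obtain ⟨i, rfl⟩ := e.surjective x
  exact e.symm.injective (Equiv.congr_fun hgh i)

/-- A group acting by affine maps is solvable. -/
theorem isSolvable_of_affine (e : ZMod p ≃ α)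
    (h : ∀ g : G, ∀ x, conjPerm e g x = conjPerm e g 0 + (conjPerm e g 1 - conjPerm e g 0) * x) :
    Group.IsSolvable G := by
  let A : G →* ZMod p :=
    { toFun := fun g => conjPerm e g 1 - conjPerm e g 0
      map_one' := by simp [conjPerm_one]
      map_mul' := fun g k => by
        rw [conjPerm_mul, conjPerm_mul, h g (conjPerm e k 1), h g (conjPerm e k 0)]; ring }
  let U := A.toHomUnits
  have hU : ∀ g ∈ U.ker, ∀ x, conjPerm e g x = conjPerm e g 0 + x := fun g hg x => by
    rw [h g x]
    have : A g = 1 := congrArg Units.val (MonoidHom.mem_ker.mp hg)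
    rw [show conjPerm e g 1 - conjPerm e g 0 = 1 from this, one_mul]
  have : Group.IsSolvable U.ker := Group.isSolvable_of_comm fun g k => by
    apply Subtype.ext
    apply conjPerm_injective e
    ext1 x
    rw [Subgroup.coe_mul, Subgroup.coe_mul, conjPerm_mul, conjPerm_mul,
      hU g g.2 (conjPerm e (k : G) x), hU k k.2 (conjPerm e (g : G) x), hU k k.2 x, hU g g.2 x]
    ring
  exact Group.isSolvable_of_ker_le_range U.ker.subtype U (by rw [Subgroup.range_subtype])

theorem conjPerm_add_one_of_normalizes {e : ZMod p ≃ α} {τ g : G} (hτ : ∀ i, τ • e i = e (i + 1))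
    {j : ℕ} (hg : g * τ * g⁻¹ = τ ^ j) (x : ZMod p) :
    conjPerm e g x = conjPerm e g 0 + (j : ZMod p) * x := by
  have hpow : ∀ (n : ℕ) i, τ ^ n • e i = e (i + n) := by
    intro n
    induction n with
    | zero => intro i; simp
    | succ n ih => intro i; rw [pow_succ', mul_smul, ih, hτ]; congr 1; push_cast; ring
  have hstep : ∀ i, conjPerm e g (i + 1) = conjPerm e g i + (j : ZMod p) := fun i => by
    apply e.injective
    rw [← apply_coord, ← hτ, ← mul_smul, show g * τ = τ ^ j * g by rw [← hg]; group, mul_smul,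
      apply_coord, hpow]
  have hnat : ∀ n : ℕ, conjPerm e g (n : ZMod p) = conjPerm e g 0 + (j : ZMod p) * n := by
    intro n
    induction n with
    | zero => simp
    | succ n ih => push_cast; rw [hstep, ih]; ring
  haveI : NeZero p := ⟨hp.out.ne_zero⟩
  rw [← ZMod.natCast_zmod_val x]
  exact hnat x.val

end Coordinates

end Cfsg.Agent.Perm.PrimeDeg
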