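import Cfsg.Agent.Lib.Perm.PrimeDegreeGroups

/-!
Subgroups of index `p` in transitive groups of degree `p`.
-/

set_option autoImplicit false

namespace Cfsg.Agent.Perm.PrimeDeg

open MulAction
open scoped Pointwise

variable {p : ℕ} [hp : Fact p.Prime]

/-- In a 3-transitive action of degree `p` there is no `k`-subset with orbit of length `p`
unless `k` is `1` or `p - 1` (Fisher's inequality). -/
theorem ncard_of_orbit_eq {G α : Type*} [Group G] [Fintype α] [MulAction G α]
    [IsMultiplyPretransitive G α 3] (hα : Fintype.card α = p) (h3 : 3 ≤ p) (Δ : Set α)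
    (hΔ : Nat.card (orbit G Δ) = p) (h1 : 2 ≤ Δ.ncard) (h2 : Δ.ncard + 2 ≤ p) : False := by
  classical
  haveI : Finite (Set α) := inferInstance
  haveI : Fintype (orbit G Δ) := Fintype.ofFinite _
  have h2t : IsMultiplyPretransitive G α 2 :=
    isMultiplyPretransitive_of_le (n := 3) (by norm_num)
      (by rw [Nat.card_eq_fintype_card, hα]; exact h3)
  haveI := isPretransitive_of_is_two_pretransitive (G := G) (α := α)
  set k := Δ.ncard with hk
  let N : α → ℕ := fun x => (Finset.univ.filter fun B : orbit G Δ => x ∈ (B : Set α)).card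
  have hB : ∀ B : orbit G Δ, (B : Set α).ncard = k := by
    rintro ⟨_, g, rfl⟩
    exact Set.ncard_smul_set g Δ
  have hN : ∀ x, N x = k := by
    have hconst : ∀ x y, N x = N y := by
      intro x y
      obtain ⟨g, rfl⟩ := exists_smul_eq G x y
      refine Finset.card_equiv (MulAction.toPerm g) fun B => ?_
      simp only [Finset.mem_filter, Finset.mem_univ, true_and, MulAction.toPerm_apply,
        MulAction.orbit.coe_smul, Set.smul_mem_smul_set_iff]
    have hsum : ∑ x, N x = p * k := by
      have e : ∀ B : orbit G Δ, (Finset.univ.filter fun x => x ∈ (B : Set α)).card = k := fun B => by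
        rw [← hB B, ← Set.ncard_coe_finset]; congr 1; ext; simp
      simp only [N, Finset.card_filter]
      rw [Finset.sum_comm]
      simp only [← Finset.card_filter, e, Finset.sum_const, Finset.card_univ, smul_eq_mul]
      rw [← Nat.card_eq_fintype_card, hΔ]
    intro x
    rw [Finset.sum_congr rfl (fun y _ => hconst y x), Finset.sum_const, Finset.card_univ, hα,
      smul_eq_mul] at hsum
    exact Nat.eq_of_mul_eq_mul_left hp.out.pos hsum
  obtain ⟨a⟩ : Nonempty α := Fintype.card_pos_iff.mp (by omega)
  let Ba := {B : orbit G Δ // a ∈ (B : Set α)}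
  have hBa : Fintype.card Ba = k := by rw [Fintype.card_subtype]; exact hN a
  let v : {x : α // x ≠ a} → Ba → ℚ := fun x B => if (x : α) ∈ (B.1 : Set α) then 1 else 0
  let inner : {x : α // x ≠ a} → {x : α // x ≠ a} → ℚ := fun x y => ∑ B, v x B * v y B
  let C : α → α → ℕ := fun x y => (Finset.univ.filter
    fun B : orbit G Δ => a ∈ (B : Set α) ∧ x ∈ (B : Set α) ∧ y ∈ (B : Set α)).card
  have hinner : ∀ x y, inner x y = C x y := by
    intro x y
    simp only [inner, v, C]
    rw [← Finset.sum_subtype (Finset.univ.filter fun B : orbit G Δ => a ∈ (B : Set α))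
      (by simp) (fun B : orbit G Δ => (if (x : α) ∈ (B : Set α) then (1 : ℚ) else 0) *
        (if (y : α) ∈ (B : Set α) then (1 : ℚ) else 0))]
    rw [Finset.sum_filter, Finset.natCast_card_filter]
    refine Finset.sum_congr rfl fun B _ => ?_
    split_ifs <;> simp_all
  have hmove : ∀ (g : G) x y, g • a = a → C (g • x) (g • y) = C x y := by
    intro g x y hg
    symm
    refine Finset.card_equiv (MulAction.toPerm g) fun B => ?_
    simp only [Finset.mem_filter, Finset.mem_univ, true_and, MulAction.toPerm_apply,
      MulAction.orbit.coe_smul]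
    constructor
    · rintro ⟨ha, hx, hy⟩
      exact ⟨hg ▸ Set.smul_mem_smul_set ha, Set.smul_mem_smul_set hx, Set.smul_mem_smul_set hy⟩
    · rintro ⟨ha, hx, hy⟩
      rw [← hg] at ha
      exact ⟨Set.smul_mem_smul_set_iff.mp ha, Set.smul_mem_smul_set_iff.mp hx,
        Set.smul_mem_smul_set_iff.mp hy⟩
  -- three points a, b, c with a block through a and b avoiding c
  obtain ⟨x, hx, y, hy, hxy⟩ := (Set.one_lt_ncard (Set.toFinite _)).mp
    (show 1 < Δ.ncard by omega)
  obtain ⟨g, hga⟩ := exists_smul_eq G x a
  set B₀ : orbit G Δ := ⟨g • Δ, ⟨g, rfl⟩⟩ with hB₀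
  have haB : a ∈ (B₀ : Set α) := hga ▸ Set.smul_mem_smul_set hx
  set b := g • y with hbdef
  have hbB : b ∈ (B₀ : Set α) := Set.smul_mem_smul_set hy
  have hba : b ≠ a := fun e => hxy (MulAction.injective g (hga.trans e.symm))
  obtain ⟨c, hcB⟩ : ∃ c, c ∉ (B₀ : Set α) := by
    by_contra hall
    push Not at hall
    have := hB B₀
    rw [Set.eq_univ_of_forall hall, Set.ncard_univ, Nat.card_eq_fintype_card, hα] at this
    omega
  have hca : c ≠ a := fun e => hcB (e ▸ haB)
  have hbc : b ≠ c := fun e => hcB (e ▸ hbB)
  have hlt : C b c < C b b := by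
    refine Finset.card_lt_card ⟨?_, ?_⟩
    · intro B hB
      simp only [Finset.mem_filter, Finset.mem_univ, true_and] at hB ⊢
      exact ⟨hB.1, hB.2.1, hB.2.1⟩
    · intro hsub
      have := hsub (show B₀ ∈ _ by simp [haB, hbB])
      simp only [Finset.mem_filter, Finset.mem_univ, true_and] at this
      exact hcB this.2.2
  have htrans2 : ∀ x : α, x ≠ a → ∃ g : G, g • a = a ∧ g • b = x := fun x hx =>
    is_two_pretransitive_iff.mp h2t (Ne.symm hba) (Ne.symm hx)
  have htrans3 : ∀ x y : α, x ≠ a → y ≠ a → x ≠ y → ∃ g : G, g • a = a ∧ g • b = x ∧ g • c = y := by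
    intro x y hxa hya hxy'
    let e₁ : Fin 3 ↪ α := ⟨![a, b, c], by
      intro i j hij; fin_cases i <;> fin_cases j <;> simp_all [eq_comm]⟩
    let e₂ : Fin 3 ↪ α := ⟨![a, x, y], by
      intro i j hij; fin_cases i <;> fin_cases j <;> simp_all [eq_comm]⟩
    obtain ⟨g, hg⟩ := exists_smul_eq G e₁ e₂
    exact ⟨g, congrArg (fun e : Fin 3 ↪ α => e 0) hg, congrArg (fun e : Fin 3 ↪ α => e 1) hg,
      congrArg (fun e : Fin 3 ↪ α => e 2) hg⟩
  have hin : ∀ x y : {x : α // x ≠ a}, inner x y = if x = y then (C b b : ℚ) else (C b c : ℚ) := by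
    intro x y
    rw [hinner]
    split_ifs with e
    · subst e
      obtain ⟨g, hg1, hg2⟩ := htrans2 x.1 x.2
      rw [← hg2, hmove g b b hg1]
    · obtain ⟨g, hg1, hg2, hg3⟩ := htrans3 x.1 y.1 x.2 y.2 (fun e' => e (Subtype.ext e'))
      rw [← hg2, ← hg3, hmove g b c hg1]
  have hli : LinearIndependent ℚ v := by
    rw [Fintype.linearIndependent_iff]
    intro c' hc'
    have hB0 : ∀ B, ∑ x, c' x * v x B = 0 := fun B => by
      have := congrFun hc' B
      simpa [Finset.sum_apply] using this
    have hy : ∀ y, ((C b b : ℚ) - C b c) * c' y + C b c * ∑ x, c' x = 0 := by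
      intro y
      have h0 : ∑ x, c' x * inner x y = 0 := by
        simp only [inner, Finset.mul_sum]
        rw [Finset.sum_comm]
        refine Finset.sum_eq_zero fun B _ => ?_
        simp only [← mul_assoc, ← Finset.sum_mul, hB0, zero_mul]
      rw [← h0]
      simp only [hin, mul_ite, Finset.mul_sum]
      rw [← Finset.sum_add_sum_compl {y}, Finset.sum_singleton,
        ← Finset.sum_add_sum_compl {y} (fun x => if x = y then _ else _), Finset.sum_singleton,
        if_pos rfl, Finset.sum_congr rfl (fun x (hx : x ∈ ({y} : Finset _)ᶜ) =>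
          if_neg (by simpa using hx))]
      simp only [mul_comm (c' _)]
      ring
    have hne : (C b b : ℚ) - C b c ≠ 0 := by
      rw [sub_ne_zero, Ne, Nat.cast_inj]; omega
    have hall : ∀ x y, c' x = c' y := fun x y =>
      mul_left_cancel₀ hne (by linear_combination hy x - hy y)
    intro i
    have := hB0 ⟨B₀, haB⟩
    rw [Finset.sum_congr rfl (fun x _ => by rw [hall x i]), ← Finset.mul_sum, mul_eq_zero] at this
    refine this.resolve_right ?_
    have : 0 < ∑ x, v x ⟨B₀, haB⟩ :=
      Finset.sum_pos' (fun x _ => by simp only [v]; split_ifs <;> norm_num)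
        ⟨⟨b, hba⟩, Finset.mem_univ _, by simp [v, hbB]⟩
    exact this.ne'
  have := hli.fintype_card_le_finrank
  rw [Module.finrank_fintype_fun_eq_card, hBa, Fintype.card_subtype_compl,
    Fintype.card_subtype_eq, hα] at this
  omega

/-- Neumann: with a Sylow normaliser of even order every subgroup of index `p` is a point
stabiliser. -/
theorem exists_stabilizer_eq {α : Type*} [Fintype α] [DecidableEq α]
    {G : Subgroup (Equiv.Perm α)} [IsPretransitive G α] (hα : Fintype.card α = p) (P : Sylow p G)
    (heven : Even (Nat.card (Subgroup.normalizer ((P : Subgroup G) : Set G))))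
    (H : Subgroup G) (hH : H.index = p) : ∃ a : α, H = stabilizer G a := by
  have hcardα : Nat.card α = p := Nat.card_eq_fintype_card.trans hα
  have hstab : ∀ a : α, Nat.card H = Nat.card (stabilizer G a) := fun a => by
    have h1 := Subgroup.card_mul_index H
    rw [hH, card_eq_mul_card_stabilizer (G := G) a, hcardα, mul_comm] at h1
    exact Nat.eq_of_mul_eq_mul_left hp.out.pos h1
  have hndvd : ¬ p ∣ Nat.card H := by
    intro hd
    apply not_sq_dvd_card (G := G) hα
    rw [← Subgroup.card_mul_index H, hH, pow_two]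
    exact mul_dvd_mul_right hd p
  -- it suffices to find a common fixed point
  suffices ∃ a : α, ∀ h ∈ H, h • a = a by
    obtain ⟨a, ha⟩ := this
    exact ⟨a, Subgroup.eq_of_le_of_card_ge ha (hstab a).ge⟩
  obtain ⟨τ, e, he, hτ, hP⟩ := exists_coord_of_sylow hα P
  by_cases hsolv : Group.IsSolvable G
  · -- the solvable case: everything is affine
    have hPn : (P : Subgroup G).Normal := by
      have hne : Nontrivial G := ⟨τ, 1, fun h => by
        rw [h, orderOf_one] at hτ; exact hp.out.one_lt.ne hτ⟩
      haveI : IsPreprimitive G α := IsPreprimitive.of_prime_card (hcardα.symm ▸ hp.out)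
      -- the last non-trivial derived subgroup is transitive abelian, hence of order `p`
      obtain ⟨n, hn⟩ := (isSolvable_def G).mp hsolv
      classical
      have hex : ∃ n, derivedSeries G n = ⊥ := ⟨n, hn⟩
      set m := Nat.find hex
      have hm : derivedSeries G m = ⊥ := Nat.find_spec hex
      have hm0 : m ≠ 0 := fun h0 => by
        rw [h0, derivedSeries_zero] at hm
        exact top_ne_bot hm
      obtain ⟨q, hq⟩ := Nat.exists_eq_succ_of_ne_zero hm0
      let A := derivedSeries G q
      have hA : A ≠ ⊥ := Nat.find_min hex (show q < m by omega)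
      have hAab : IsMulCommutative A := by
        refine ⟨⟨fun x y => Subtype.ext ?_⟩⟩
        have h0 : ⁅A, A⁆ = ⊥ := by rw [← hm, hq]; rfl
        have hxy : (x : G) * y * (x : G)⁻¹ * (y : G)⁻¹ ∈ ⁅A, A⁆ :=
          Subgroup.commutator_mem_commutator x.2 y.2
        rw [h0, Subgroup.mem_bot, mul_inv_eq_one, mul_inv_eq_iff_eq_mul] at hxy
        exact hxy
      haveI : IsPretransitive A α := isPretransitive_of_normal_ne_bot A hA
      have hcard : Nat.card A = p := by
        rw [card_eq_of_regular (stabilizer_eq_bot_of_isMulCommutative hAab (e 0)), hcardα]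
      let S : Sylow p G := Sylow.ofCard A (by
        rw [hcard]
        have h1 : (Nat.card G).factorization p = 1 := by
          refine le_antisymm ?_ ?_
          · by_contra h
            exact not_sq_dvd_card (G := G) hα
              ((Nat.Prime.pow_dvd_iff_le_factorization hp.out Nat.card_pos.ne').mpr (by omega))
          · exact (Nat.Prime.dvd_iff_one_le_factorization hp.out Nat.card_pos.ne').mp
              (prime_dvd_card hα)
        rw [h1, pow_one])
      haveI : (S : Subgroup G).Normal := derivedSeries_normal G q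
      haveI := Sylow.unique_of_normal S inferInstance
      rw [Subsingleton.elim P S]
      infer_instance
    have haff : ∀ g : G, ∃ j : ZMod p, ∀ x, conjPerm e g x = conjPerm e g 0 + j * x := by
      intro g
      have hmem : g * τ * g⁻¹ ∈ Subgroup.zpowers τ :=
        hP ▸ hPn.conj_mem τ (hP.symm ▸ Subgroup.mem_zpowers τ) g
      obtain ⟨j, hj⟩ := (isOfFinOrder_of_finite τ).mem_powers_iff_mem_zpowers.mpr hmem
      exact ⟨j, fun x => conjPerm_add_one_of_normalizes he hj.symm x⟩
    choose j hj using haff
    have hjmul : ∀ g h, j (g * h) = j g * j h := fun g h => by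
      have h1 := conjPerm_mul e g h 1
      have h0 := conjPerm_mul e g h 0
      rw [hj, hj g, hj h] at h1
      rw [hj g] at h0
      linear_combination h1 - h0
    have hjH : ∀ h ∈ H, j h = 1 → h = 1 := by
      intro h hh h1
      have hpow : ∀ n : ℕ, ∀ x, conjPerm e (h ^ n) x = x + n * conjPerm e h 0 := by
        intro n
        induction n with
        | zero => intro x; simp [conjPerm_one]
        | succ n ih => intro x; rw [pow_succ, conjPerm_mul, ih, hj h x, h1]; push_cast; ring
      have hp1 : h ^ p = 1 := conjPerm_injective e (Equiv.ext fun x => by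
        rw [hpow, conjPerm_one, ZMod.natCast_self, zero_mul, add_zero])
      by_contra hne
      have ho : orderOf h = p := orderOf_eq_prime hp1 hne
      exact hndvd (ho ▸ Subgroup.orderOf_dvd_natCard H hh)
    have hcomm : ∀ g ∈ H, ∀ h ∈ H, g * h = h * g := by
      intro g hg h hh
      have hone : j 1 = 1 := by
        have h1 := hj 1 1
        rw [conjPerm_one, conjPerm_one] at h1
        linear_combination -h1
      have : g * h * (h * g)⁻¹ = 1 := by
        refine hjH _ (mul_mem (mul_mem hg hh) (inv_mem (mul_mem hh hg))) ?_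
        have h2 := hjmul (h * g) (h * g)⁻¹
        rw [mul_inv_cancel, hone, hjmul h g] at h2
        rw [hjmul, hjmul, mul_comm (j g), ← h2]
      exact mul_inv_eq_one.mp this
    by_cases hH1 : ∃ h ∈ H, h ≠ 1
    · obtain ⟨h, hh, hne⟩ := hH1
      have hj1 : (1 : ZMod p) - j h ≠ 0 := sub_ne_zero.mpr fun e' => hne (hjH h hh e'.symm)
      set x₀ := conjPerm e h 0 * (1 - j h)⁻¹
      have hfix : ∀ x, conjPerm e h x = x ↔ x = x₀ := fun x => by
        rw [hj h x]
        constructor
        · intro hx
          rw [show x₀ = conjPerm e h 0 * (1 - j h)⁻¹ from rfl, eq_mul_inv_iff_mul_eq₀ hj1]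
          linear_combination -hx
        · intro hx
          rw [hx, show x₀ = conjPerm e h 0 * (1 - j h)⁻¹ from rfl]
          field_simp
          ring
      refine ⟨e x₀, fun g hg => ?_⟩
      have hx : conjPerm e h x₀ = x₀ := (hfix x₀).mpr rfl
      have : conjPerm e h (conjPerm e g x₀) = conjPerm e g x₀ := by
        rw [← conjPerm_mul, hcomm h hh g hg, conjPerm_mul, hx]
      rw [apply_coord, (hfix _).mp this]
    · push Not at hH1
      exact ⟨e 0, fun h hh => by rw [hH1 h hh, one_smul]⟩
  · -- the non-solvable case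
    haveI h3 := three_transitive hα hsolv P heven
    have hp5 := five_le_of_not_isSolvable hα hsolv
    let a₀ := e 0
    let Δ := orbit H a₀
    have hΔ1 : 1 ≤ Δ.ncard := (Set.ncard_pos (Set.toFinite _)).mpr ⟨a₀, mem_orbit_self a₀⟩
    have hΔp : Δ.ncard < p := by
      rcases lt_or_ge Δ.ncard p with h | h
      · exact h
      exfalso
      apply hndvd
      have h1 := card_orbit_mul_card_stabilizer (G := H) a₀
      have h2 : Δ.ncard = p := le_antisymm ((Set.ncard_le_card _).trans hcardα.le) h
      rw [Nat.card_coe_set_eq, h2] at h1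
      exact ⟨_, h1.symm⟩
    have hle : H ≤ stabilizer G Δ := fun h hh => by
      rw [mem_stabilizer_iff]
      exact smul_orbit (⟨h, hh⟩ : H) a₀
    have hS : stabilizer G Δ = H := by
      have hidx := Subgroup.relIndex_mul_index hle
      rw [hH] at hidx
      rcases (Nat.dvd_prime hp.out).mp (Dvd.intro_left _ hidx : (stabilizer G Δ).index ∣ p) with h | h
      · exfalso
        rw [Subgroup.index_eq_one] at h
        have : Δ = Set.univ := Set.eq_univ_of_forall fun x => by
          obtain ⟨g, hg⟩ := exists_smul_eq G a₀ x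
          have hg' : g • Δ = Δ := mem_stabilizer_iff.mp (by rw [h]; exact Subgroup.mem_top g)
          rw [← hg, ← hg']
          exact Set.smul_mem_smul_set (mem_orbit_self a₀)
        rw [this, Set.ncard_univ, hcardα] at hΔp
        exact lt_irrefl _ hΔp
      · rw [h] at hidx
        exact le_antisymm (Subgroup.relIndex_eq_one.mp
          (Nat.eq_of_mul_eq_mul_right hp.out.pos (by rw [hidx, one_mul]))) hle
    have horb : Nat.card (orbit G Δ) = p := by
      rw [Nat.card_congr (orbitEquivQuotientStabilizer G Δ), ← Subgroup.index, hS, hH]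
    by_cases hk1 : Δ.ncard = 1
    · obtain ⟨c, hc⟩ := Set.ncard_eq_one.mp hk1
      refine ⟨c, fun h hh => ?_⟩
      have hh' : h • Δ = Δ := hle hh
      rw [hc, Set.smul_set_singleton, Set.singleton_eq_singleton_iff] at hh'
      exact hh'
    by_cases hk2 : Δ.ncard + 1 = p
    · obtain ⟨c, hc⟩ := Set.ncard_eq_one.mp
        (show Δᶜ.ncard = 1 by rw [Set.ncard_compl, hcardα]; omega)
      refine ⟨c, fun h hh => ?_⟩
      have hh' : h • Δᶜ = Δᶜ := by rw [Set.smul_set_compl, hle hh]
      rw [hc, Set.smul_set_singleton, Set.singleton_eq_singleton_iff] at hh'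
      exact hh'
    exact (ncard_of_orbit_eq hα (by omega) Δ horb (by omega) (by omega)).elim

end Cfsg.Agent.Perm.PrimeDeg
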