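import Cfsg.Agent.Lib.Perm.Basic

/-!
Regular normal subgroups of multiply transitive / multiply primitive actions.
-/

set_option autoImplicit false

namespace Cfsg.Agent.Perm

open MulAction
open scoped Pointwise

variable {G : Type*} [Group G] {X : Type*} [MulAction G X]

theorem isMulCommutative_of_sq_eq_one {N : Subgroup G} (h : ∀ n ∈ N, n ^ 2 = 1) :
    IsMulCommutative N := by
  have hinv : ∀ n ∈ N, n⁻¹ = n := fun n hn => by
    rw [inv_eq_iff_mul_eq_one, ← pow_two, h n hn]
  refine ⟨⟨fun a b => Subtype.ext ?_⟩⟩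
  show (a : G) * b = b * a
  rw [← hinv _ (N.mul_mem a.2 b.2), mul_inv_rev, hinv _ a.2, hinv _ b.2]

/-- In a group with a regular normal subgroup, if a point stabiliser is primitive on the
remaining points then the degree is 3 or the subgroup has exponent 2. -/
theorem regular_two_primitive_dichotomy (N : Subgroup G) [N.Normal] [IsPretransitive N X]
    (hreg : ∀ x : X, stabilizer N x = ⊥) (x : X)
    [IsPreprimitive (stabilizer G x) (SubMulAction.ofStabilizer G x)] :
    Nat.card X = 3 ∨ ∀ n ∈ N, n ^ 2 = 1 := by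
  by_cases hsq : ∀ n ∈ N, n ^ 2 = 1
  · exact Or.inr hsq
  push Not at hsq
  obtain ⟨n₀, hn₀, hn₀2⟩ := hsq
  left
  have hne : ∀ n ∈ N, n ≠ 1 → n • x ≠ x := fun n hn h1 e =>
    h1 (stabilizer_subgroup_eq_bot_iff.mp (hreg x) n hn e)
  have hn₀1 : n₀ ≠ 1 := fun e => hn₀2 (by simp [e])
  let y₁ : SubMulAction.ofStabilizer G x := ⟨n₀ • x, hne _ hn₀ hn₀1⟩
  let y₂ : SubMulAction.ofStabilizer G x :=
    ⟨n₀⁻¹ • x, hne _ (inv_mem hn₀) (inv_ne_one.mpr hn₀1)⟩
  have hy : y₁ ≠ y₂ := by
    intro e
    apply hn₀2
    have := regular_unique (hreg x) hn₀ (inv_mem hn₀) (congrArg Subtype.val e)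
    rw [pow_two, eq_inv_iff_mul_eq_one.mp this]
  have hB : IsBlock (stabilizer G x) ({y₁, y₂} : Set (SubMulAction.ofStabilizer G x)) := by
    rw [isBlock_iff_smul_eq_or_disjoint]
    intro h
    rw [or_iff_not_imp_right, Set.not_disjoint_iff]
    rintro ⟨z, hz1, hz2⟩
    have hc1 : ((h : G) * n₀ * (h : G)⁻¹) • x = (h • y₁ : SubMulAction.ofStabilizer G x).1 :=
      conj_smul_base h.2 n₀
    have hc2 : ((h : G) * n₀ * (h : G)⁻¹)⁻¹ • x
        = (h • y₂ : SubMulAction.ofStabilizer G x).1 := by
      rw [show ((h : G) * n₀ * (h : G)⁻¹)⁻¹ = (h : G) * n₀⁻¹ * (h : G)⁻¹ by group]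
      exact conj_smul_base h.2 n₀⁻¹
    have hm : (h : G) * n₀ * (h : G)⁻¹ ∈ N := Subgroup.Normal.conj_mem inferInstance _ hn₀ _
    rw [Set.smul_set_insert, Set.smul_set_singleton] at hz1 ⊢
    have key : (h : G) * n₀ * (h : G)⁻¹ = n₀ ∨ (h : G) * n₀ * (h : G)⁻¹ = n₀⁻¹ := by
      rcases hz1 with e1 | e1 <;> rcases hz2 with e2 | e2
      · left; refine regular_unique (hreg x) hm hn₀ ?_
        rw [hc1, ← e1, e2]
      · right; refine regular_unique (hreg x) hm (inv_mem hn₀) ?_
        rw [hc1, ← e1, e2]
      · right; rw [← inv_inj, inv_inv]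
        refine regular_unique (hreg x) (inv_mem hm) hn₀ ?_
        rw [hc2, ← e1, e2]
      · left; rw [← inv_inj]
        refine regular_unique (hreg x) (inv_mem hm) (inv_mem hn₀) ?_
        rw [hc2, ← e1, e2]
    rcases key with e | e
    · have a1 : h • y₁ = y₁ := Subtype.ext (by rw [← hc1, e])
      have a2 : h • y₂ = y₂ := Subtype.ext (by rw [← hc2, e])
      rw [a1, a2]
    · have a1 : h • y₁ = y₂ := Subtype.ext (by rw [← hc1, e])
      have a2 : h • y₂ = y₁ := Subtype.ext (by rw [← hc2, e, inv_inv])
      rw [a1, a2, Set.pair_comm]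
  rcases hB.subsingleton_or_eq_univ with hs | hs
  · exact absurd (hs (by simp) (by simp)) hy
  · have hX : (Set.univ : Set X) = {x, n₀ • x, n₀⁻¹ • x} := by
      ext z
      simp only [Set.mem_univ, Set.mem_insert_iff, Set.mem_singleton_iff, true_iff]
      by_cases hz : z = x
      · exact Or.inl hz
      · right
        have : (⟨z, hz⟩ : SubMulAction.ofStabilizer G x) ∈
            ({y₁, y₂} : Set (SubMulAction.ofStabilizer G x)) := hs ▸ Set.mem_univ _
        rcases this with e | e
        · exact Or.inl (congrArg Subtype.val e)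
        · exact Or.inr (congrArg Subtype.val e)
    rw [← Set.ncard_univ, hX, Set.ncard_eq_three]
    refine ⟨x, n₀ • x, n₀⁻¹ • x, Ne.symm y₁.2, Ne.symm y₂.2, ?_, rfl⟩
    exact fun e => hy (Subtype.ext e)

/-- A doubly primitive action with a regular normal subgroup. -/
theorem card_eq_three_or_sq_eq_one [IsMultiplyPreprimitive G X 2] [Nonempty X]
    (N : Subgroup G) [N.Normal]
    [IsPretransitive N X] (hreg : ∀ x : X, stabilizer N x = ⊥) :
    Nat.card X = 3 ∨ ∀ n ∈ N, n ^ 2 = 1 := by
  obtain ⟨x⟩ := (inferInstance : Nonempty X)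
  haveI : IsMultiplyPretransitive G X 2 := IsMultiplyPreprimitive.isMultiplyPretransitive G X 2
  haveI := isPretransitive_of_is_two_pretransitive (G := G) (α := X)
  haveI h1 : IsMultiplyPreprimitive (stabilizer G x) (SubMulAction.ofStabilizer G x) 1 :=
    isMultiplyPreprimitive_ofStabilizer G X
  haveI := (is_one_preprimitive_iff _ _).mp h1
  exact regular_two_primitive_dichotomy N hreg x

/-- A triply primitive action with a regular normal subgroup has degree 3 or 4. -/
theorem card_eq_three_or_four_of_regular [Finite X] (N : Subgroup G) [N.Normal]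
    [IsPretransitive N X] (hX : 3 ≤ Nat.card X) (h3 : IsMultiplyPreprimitive G X 3)
    (hreg : ∀ x : X, stabilizer N x = ⊥) : Nat.card X = 3 ∨ Nat.card X = 4 := by
  haveI : Nonempty X := (Nat.card_pos_iff.mp (by omega)).1
  have hE : ((3 : ℕ) : ENat) ≤ ENat.card X := by
    rw [ENat.card_eq_coe_natCard]; exact_mod_cast hX
  haveI h2 : IsMultiplyPreprimitive G X 2 := isMultiplyPreprimitive_of_le G X h3 (by norm_num) hE
  rcases card_eq_three_or_sq_eq_one N hreg with h | hsq
  · exact Or.inl h
  refine or_iff_not_imp_left.mpr fun h3' => ?_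
  obtain ⟨x⟩ := (inferInstance : Nonempty X)
  haveI : Nontrivial X := Finite.one_lt_card_iff_nontrivial.mp (by omega)
  obtain ⟨y, hy⟩ := exists_ne x
  obtain ⟨n, hn, rfl⟩ := subgroup_exists_smul_eq (N := N) x y
  haveI hprim := h3.isPreprimitive_ofFixingSubgroup (s := {x, n • x})
    (by rw [Set.encard_pair (Ne.symm hy)]; rfl)
  have hne : ({x, n • x} : Set X)ᶜ.Nonempty := by
    rw [Set.nonempty_compl]
    intro e
    have := congrArg Set.ncard e
    rw [Set.ncard_pair (Ne.symm hy), Set.ncard_univ] at this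
    omega
  obtain ⟨z, hz⟩ := hne
  have hnn : n * n = 1 := by rw [← pow_two]; exact hsq n hn
  have hmem : ∀ w : X, w ∉ ({x, n • x} : Set X) → n • w ∉ ({x, n • x} : Set X) := by
    intro w hw h
    apply hw
    rcases h with e | e
    · right; rw [Set.mem_singleton_iff, ← e, ← mul_smul, hnn, one_smul]
    · left; exact MulAction.injective n e
  let S := fixingSubgroup G ({x, n • x} : Set X)
  let a : SubMulAction.ofFixingSubgroup G ({x, n • x} : Set X) := ⟨z, hz⟩
  let b : SubMulAction.ofFixingSubgroup G ({x, n • x} : Set X) := ⟨n • z, hmem z hz⟩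
  have hcomm : ∀ g ∈ S, ∀ w : X, g • (n • w) = n • (g • w) := by
    intro g hg w
    have h1 : g • x = x := (mem_fixingSubgroup_iff G).mp hg x (by simp)
    have h2 : g • (n • x) = n • x := (mem_fixingSubgroup_iff G).mp hg _ (by simp)
    have e : g * n * g⁻¹ = n := regular_unique (hreg x)
      (Subgroup.Normal.conj_mem inferInstance _ hn _) hn
      (by rw [conj_smul_base (mem_stabilizer_iff.mpr h1), h2])
    calc g • (n • w) = (g * n * g⁻¹) • (g • w) := by
          rw [← mul_smul, ← mul_smul]; congr 1; group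
      _ = n • (g • w) := by rw [e]
  have hab : a ≠ b := by
    intro e
    have e' : z = n • z := congrArg Subtype.val e
    have := stabilizer_subgroup_eq_bot_iff.mp (hreg z) n hn e'.symm
    exact hy (by rw [this, one_smul])
  have hB : IsBlock S ({a, b} : Set (SubMulAction.ofFixingSubgroup G ({x, n • x} : Set X))) := by
    rw [isBlock_iff_smul_eq_or_disjoint]
    intro g
    rw [or_iff_not_imp_right, Set.not_disjoint_iff]
    rintro ⟨w, hw1, hw2⟩
    rw [Set.smul_set_insert, Set.smul_set_singleton] at hw1 ⊢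
    have hgb : (g • b).1 = n • (g • a).1 := hcomm g.1 g.2 z
    have hnb : n • b.1 = a.1 := by
      show n • (n • z) = z
      rw [← mul_smul, hnn, one_smul]
    have key : g • a = a ∨ g • a = b := by
      rcases hw1 with e1 | e1 <;> rcases hw2 with e2 | e2
      · exact Or.inl (by rw [← e1, e2])
      · exact Or.inr (by rw [← e1, e2])
      · right; apply Subtype.ext
        refine MulAction.injective n ?_
        dsimp only
        rw [← hgb, hnb, ← e1, e2]
      · left; apply Subtype.ext
        refine MulAction.injective n ?_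
        dsimp only
        rw [← hgb, ← e1, e2]
    rcases key with e | e
    · have : g • b = b := Subtype.ext (by rw [hgb, e])
      rw [e, this]
    · have : g • b = a := Subtype.ext (by rw [hgb, e]; exact hnb)
      rw [e, this]; exact Set.pair_comm b a
  rcases hB.subsingleton_or_eq_univ with hs | hs
  · exact absurd (hs (by simp) (by simp)) hab
  · have hU : (Set.univ : Set X) = {x, n • x, z, n • z} := by
      ext w
      simp only [Set.mem_univ, Set.mem_insert_iff, Set.mem_singleton_iff, true_iff]
      by_cases hw : w ∈ ({x, n • x} : Set X)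
      · rcases hw with e | e
        · exact Or.inl e
        · exact Or.inr (Or.inl e)
      · have : (⟨w, hw⟩ : SubMulAction.ofFixingSubgroup G ({x, n • x} : Set X)) ∈
            ({a, b} : Set (SubMulAction.ofFixingSubgroup G ({x, n • x} : Set X))) :=
          hs ▸ Set.mem_univ _
        rcases this with e | e
        · exact Or.inr (Or.inr (Or.inl (congrArg Subtype.val e)))
        · exact Or.inr (Or.inr (Or.inr (congrArg Subtype.val e)))
    have hle : Nat.card X ≤ 4 := by
      rw [← Set.ncard_univ, hU]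
      have l1 := Set.ncard_insert_le x ({n • x, z, n • z} : Set X)
      have l2 := Set.ncard_insert_le (n • x) ({z, n • z} : Set X)
      have l3 := Set.ncard_insert_le z ({n • z} : Set X)
      have l4 := Set.ncard_singleton (n • z)
      omega
    omega

end Cfsg.Agent.Perm
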