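import Cfsg.Agent.Lib.Perm.SharplyFour

/-!
The degrees of sharply multiply transitive groups (Jordan).
-/

set_option autoImplicit false

namespace Cfsg.Agent.Perm.SharplyFour

open MulAction Cfsg.Agent.Perm.PrimeDeg

universe u v

/-- Being sharply `k`-transitive. -/
def IsSharp (G : Type u) (Ω : Type v) [Group G] [MulAction G Ω] (k : ℕ) : Prop :=
  IsMultiplyPretransitive G Ω k ∧ ∀ x : Fin k ↪ Ω, stabilizer G x = ⊥

variable {G : Type u} {Ω : Type v} [Group G] [MulAction G Ω] [Finite Ω]

theorem card_eq_descFactorial {k : ℕ} (h : IsSharp G Ω k) (hk : k ≤ Nat.card Ω) :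
    Nat.card G = (Nat.card Ω).descFactorial k := by
  have := Fintype.ofFinite Ω
  rw [Nat.card_eq_fintype_card] at hk
  obtain ⟨x⟩ : Nonempty (Fin k ↪ Ω) :=
    Function.Embedding.nonempty_of_card_le (by simpa using hk)
  have hb : Function.Bijective fun g : G => g • x := by
    refine ⟨fun g g' hgg => ?_, fun y => ?_⟩
    · have : g⁻¹ * g' ∈ stabilizer G x := by
        rw [mem_stabilizer_iff, mul_smul, inv_smul_eq_iff]
        exact hgg.symm
      rw [h.2 x, Subgroup.mem_bot] at this
      exact inv_mul_eq_one.1 this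
    · have := h.1
      exact MulAction.exists_smul_eq G x y
  rw [Nat.card_eq_of_bijective _ hb, Nat.card_eq_fintype_card, Fintype.card_embedding_eq,
    Fintype.card_fin, Nat.card_eq_fintype_card]

/-- The image in the symmetric group. -/
theorem exists_perm_subgroup {k : ℕ} (h : IsSharp G Ω k) (hk1 : 1 ≤ k) (hk : k ≤ Nat.card Ω) :
    ∃ H : Subgroup (Equiv.Perm Ω), IsPretransitive H Ω ∧
      Nat.card H = (Nat.card Ω).descFactorial k := by
  have := Fintype.ofFinite Ω
  refine ⟨(toPermHom G Ω).range, ⟨fun x y => ?_⟩, ?_⟩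
  · have := h.1
    have : IsMultiplyPretransitive G Ω 1 := isMultiplyPretransitive_of_le hk1 hk
    have hpre : IsPretransitive G Ω := is_one_pretransitive_iff.1 this
    obtain ⟨g, hg⟩ := MulAction.exists_smul_eq G x y
    exact ⟨⟨toPermHom G Ω g, g, rfl⟩, hg⟩
  · rw [← card_eq_descFactorial h hk]
    refine (Nat.card_congr (MonoidHom.ofInjective (f := toPermHom G Ω) ?_).toEquiv).symm
    rw [injective_iff_map_eq_one]
    intro g hg
    rw [Nat.card_eq_fintype_card] at hk
    obtain ⟨x⟩ : Nonempty (Fin k ↪ Ω) :=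
      Function.Embedding.nonempty_of_card_le (by simpa using hk)
    rw [← Subgroup.mem_bot, ← h.2 x, mem_stabilizer_iff]
    ext i
    exact Equiv.Perm.ext_iff.1 hg (x i)

/-- No sharply `k`-transitive group of prime degree `p` has order violating Sylow's congruence. -/
theorem sylow_split {p k : ℕ} [Fact p.Prime] (h : IsSharp G Ω k) (hk1 : 1 ≤ k) (hk : k ≤ Nat.card Ω)
    (hp : Nat.card Ω = p) (hsol : ¬ p.descFactorial k ∣ p * (p - 1)) :
    ∃ n N : ℕ, p.descFactorial k = n * N ∧ n % p = 1 ∧ N ∣ p * (p - 1) ∧ p ∣ N ∧ N ≠ p := by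
  classical
  have := Fintype.ofFinite Ω
  obtain ⟨H, hH, hcard⟩ := exists_perm_subgroup h hk1 hk
  rw [hp] at hcard
  rw [Nat.card_eq_fintype_card] at hp
  set P : Sylow p H := default
  have hns : ¬ Group.IsSolvable H := fun hs => by
    have hn := normal_sylow_of_isSolvable hp hs P
    have hd := card_normalizer_dvd hp P
    rw [Subgroup.normalizer_eq_top_iff.2 hn, Subgroup.card_top, hcard] at hd
    exact hsol hd
  obtain ⟨n, hn, hn1⟩ := exists_card_eq_mul P
  refine ⟨n, _, hcard ▸ hn, hn1, card_normalizer_dvd hp P, ?_, card_normalizer_ne_prime hp hns P⟩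
  have h1 := Subgroup.card_dvd_of_le (Subgroup.le_normalizer :
    (P : Subgroup H) ≤ Subgroup.normalizer ((P : Subgroup H) : Set H))
  rwa [card_sylow hp P] at h1

theorem no_seven (h : IsSharp G Ω 4) : Nat.card Ω ≠ 7 := by
  intro hn
  have : Fact (Nat.Prime 7) := ⟨by norm_num⟩
  obtain ⟨n, N, hnN, hn1, hN, ⟨j, rfl⟩, hne⟩ :=
    sylow_split (p := 7) h (by norm_num) (by omega) hn (by decide)
  have hd : (7 : ℕ).descFactorial 4 = 840 := by decide
  rw [hd] at hnN
  have hj : j ∣ 6 := (Nat.mul_dvd_mul_iff_left (show 0 < 7 by norm_num)).1 hN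
  have := Nat.le_of_dvd (by norm_num) hj
  interval_cases j <;> omega

theorem no_thirteen (h : IsSharp G Ω 6) : Nat.card Ω ≠ 13 := by
  intro hn
  have : Fact (Nat.Prime 13) := ⟨by norm_num⟩
  obtain ⟨n, N, hnN, hn1, hN, ⟨j, rfl⟩, hne⟩ :=
    sylow_split (p := 13) h (by norm_num) (by omega) hn (by decide)
  have hd : (13 : ℕ).descFactorial 6 = 1235520 := by decide
  rw [hd] at hnN
  have hj : j ∣ 12 := (Nat.mul_dvd_mul_iff_left (show 0 < 13 by norm_num)).1 hN
  have := Nat.le_of_dvd (by norm_num) hj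
  interval_cases j <;> omega

omit [Finite Ω] in
/-- Passing to a point stabiliser. -/
theorem IsSharp.stab [IsPretransitive G Ω] {k : ℕ} (h : IsSharp G Ω (k + 1)) (a : Ω) :
    IsSharp (stabilizer G a) (SubMulAction.ofStabilizer G a) k := by
  refine ⟨SubMulAction.ofStabilizer.isMultiplyPretransitive.1 h.1, fun x => ?_⟩
  rw [Subgroup.eq_bot_iff_forall]
  intro g hg
  apply Subtype.ext
  show (g : G) = 1
  rw [← Subgroup.mem_bot, ← h.2 (SubMulAction.ofStabilizer.snoc x), mem_stabilizer_iff]
  ext i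
  simp only [Function.Embedding.smul_apply]
  cases i using Fin.lastCases with
  | last => rw [SubMulAction.ofStabilizer.snoc_last]; exact g.2
  | cast i =>
    rw [SubMulAction.ofStabilizer.snoc_castSucc]
    have hi := DFunLike.congr_fun (mem_stabilizer_iff.1 hg) i
    exact congrArg Subtype.val hi

theorem card_ofStabilizer (a : Ω) :
    Nat.card (SubMulAction.ofStabilizer G a) + 1 = Nat.card Ω := by
  have h : Nat.card (SubMulAction.ofStabilizer G a) = ({a}ᶜ : Set Ω).ncard := by
    rw [← Nat.card_coe_set_eq]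
    exact Nat.card_congr (Equiv.refl _)
  rw [h, Set.ncard_compl, Set.ncard_singleton]
  have : 0 < Nat.card Ω := @Nat.card_pos Ω ⟨a⟩ _
  omega

theorem degree_four (h : IsSharp G Ω 4) (hn : 4 ≤ Nat.card Ω) :
    Nat.card Ω = 4 ∨ Nat.card Ω = 5 ∨ Nat.card Ω = 6 ∨ Nat.card Ω = 11 := by
  have := Fintype.ofFinite Ω
  obtain ⟨-, f, h2, h3, hpar, hd⟩ := core h.1 h.2
    (Function.Embedding.nonempty_of_card_le (by
      rw [Fintype.card_fin, ← Nat.card_eq_fintype_card]; exact hn))
  have h7 := no_seven h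
  generalize Nat.card Ω = n at hn hd hpar h7 ⊢
  rcases hd with hd | hd
  · omega
  · interval_cases f <;> simp [Nat.factorial] at hd hpar <;>
      · have := Nat.le_of_dvd (by norm_num) hd
        have : n ≤ 11 := by omega
        interval_cases n <;> simp_all

theorem degree_five (h : IsSharp G Ω 5) (hn : 5 ≤ Nat.card Ω) :
    Nat.card Ω = 5 ∨ Nat.card Ω = 6 ∨ Nat.card Ω = 7 ∨ Nat.card Ω = 12 := by
  have := h.1
  have h1 : IsMultiplyPretransitive G Ω 1 := isMultiplyPretransitive_of_le (n := 5) (by norm_num) hn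
  have hpre : IsPretransitive G Ω := is_one_pretransitive_iff.1 h1
  obtain ⟨a⟩ : Nonempty Ω := (Nat.card_pos_iff.1 (by omega : 0 < Nat.card Ω)).1
  have hc := card_ofStabilizer (G := G) a
  rcases degree_four (h.stab (k := 4) a) (by omega) with h' | h' | h' | h' <;> omega

theorem degree_ge_six (j : ℕ) : ∀ {G : Type u} {Ω : Type v} [Group G] [MulAction G Ω] [Finite Ω],
    IsSharp G Ω (6 + j) → 6 + j ≤ Nat.card Ω →
    Nat.card Ω = 6 + j ∨ Nat.card Ω = 6 + j + 1 ∨ Nat.card Ω = 6 + j + 2 := by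
  induction j with
  | zero =>
    intro G Ω _ _ _ h hn
    have := h.1
    have h1 : IsMultiplyPretransitive G Ω 1 := isMultiplyPretransitive_of_le (n := 6) (by norm_num) hn
    have hpre : IsPretransitive G Ω := is_one_pretransitive_iff.1 h1
    obtain ⟨a⟩ : Nonempty Ω := (Nat.card_pos_iff.1 (by omega : 0 < Nat.card Ω)).1
    have hc := card_ofStabilizer (G := G) a
    have h13 := no_thirteen h
    rcases degree_five (h.stab (k := 5) a) (by omega) with h' | h' | h' | h' <;> omega
  | succ j ih =>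
    intro G Ω _ _ _ h hn
    have := h.1
    have h1 : IsMultiplyPretransitive G Ω 1 :=
      isMultiplyPretransitive_of_le (n := 6 + (j + 1)) (by omega) hn
    have hpre : IsPretransitive G Ω := is_one_pretransitive_iff.1 h1
    obtain ⟨a⟩ : Nonempty Ω := (Nat.card_pos_iff.1 (by omega : 0 < Nat.card Ω)).1
    have hc := card_ofStabilizer (G := G) a
    rcases ih (h.stab (k := 6 + j) a) (by omega) with h' | h' | h' <;> omega

end Cfsg.Agent.Perm.SharplyFour
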