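import Cfsg.Agent.Lib.Perm.PrimeDegreeOrders

/-!
Sharply four transitive groups: an involution fixing two or three points is determined, together with
its centraliser, by its restriction to the fixed points (Tits).
-/

set_option autoImplicit false

namespace Cfsg.Agent.Perm.SharplyFour

open MulAction

variable {G Ω : Type*} [Group G] [MulAction G Ω]

/-- Four distinct points as an embedding. -/
def quad (a b c d : Ω) (h1 : a ≠ b) (h2 : a ≠ c) (h3 : a ≠ d) (h4 : b ≠ c) (h5 : b ≠ d)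
    (h6 : c ≠ d) : Fin 4 ↪ Ω :=
  ⟨![a, b, c, d], fun i j h => by
    fin_cases i <;> fin_cases j <;> simp_all [eq_comm]⟩

variable (h4 : IsMultiplyPretransitive G Ω 4)
  (hsharp : ∀ x : Fin 4 ↪ Ω, stabilizer G x = ⊥)

include hsharp in
theorem eq_one_of_four {g : G} {a b c d : Ω} (h1 : a ≠ b) (h2 : a ≠ c) (h3 : a ≠ d) (h5 : b ≠ c)
    (h6 : b ≠ d) (h7 : c ≠ d) (ha : g • a = a) (hb : g • b = b) (hc : g • c = c) (hd : g • d = d) :
    g = 1 := by
  rw [← Subgroup.mem_bot, ← hsharp (quad a b c d h1 h2 h3 h5 h6 h7), mem_stabilizer_iff]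
  ext i
  fin_cases i <;> simpa [quad, Function.Embedding.smul_apply]

include h4 in
theorem exists_four {a b c d a' b' c' d' : Ω} (h1 : a ≠ b) (h2 : a ≠ c) (h3 : a ≠ d) (h5 : b ≠ c)
    (h6 : b ≠ d) (h7 : c ≠ d) (k1 : a' ≠ b') (k2 : a' ≠ c') (k3 : a' ≠ d') (k5 : b' ≠ c')
    (k6 : b' ≠ d') (k7 : c' ≠ d') :
    ∃ g : G, g • a = a' ∧ g • b = b' ∧ g • c = c' ∧ g • d = d' := by
  obtain ⟨g, hg⟩ := MulAction.exists_smul_eq G (quad a b c d h1 h2 h3 h5 h6 h7)
    (quad a' b' c' d' k1 k2 k3 k5 k6 k7)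
  have h := fun i => DFunLike.congr_fun hg i
  exact ⟨g, h 0, h 1, h 2, h 3⟩

include h4 hsharp

/-- The basic finiteness and divisibility. -/
theorem core (hne : Nonempty (Fin 4 ↪ Ω)) :
    Finite Ω ∧ ∃ f : ℕ, 2 ≤ f ∧ f ≤ 3 ∧ Nat.card Ω % 2 = f % 2 ∧
      (Nat.card Ω = f + 2 ∨ Nat.card Ω - (f + 2) ∣ f.factorial) := by
  classical
  obtain ⟨x⟩ := hne
  set p₁ := x 0 with hp₁
  set p₂ := x 1 with hp₂
  set c := x 2 with hc'
  set d := x 3 with hd'
  have hp : p₁ ≠ p₂ := by simp [hp₁, hp₂]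
  have hp1c : p₁ ≠ c := by simp [hp₁, hc']
  have hp1d : p₁ ≠ d := by simp [hp₁, hd']
  have hp2c : p₂ ≠ c := by simp [hp₂, hc']
  have hp2d : p₂ ≠ d := by simp [hp₂, hd']
  have hcd : c ≠ d := by simp [hc', hd']
  obtain ⟨z, hz1, hz2, hzc, hzd⟩ := exists_four h4 hp hp1c hp1d hp2c hp2d hcd
    (a' := p₂) (b' := p₁) (c' := c) (d' := d) hp.symm hp2c hp2d hp1c hp1d hcd
  have hzz : z * z = 1 := eq_one_of_four hsharp hp hp1c hp1d hp2c hp2d hcd
    (by rw [mul_smul, hz1, hz2]) (by rw [mul_smul, hz2, hz1]) (by rw [mul_smul, hzc, hzc])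
    (by rw [mul_smul, hzd, hzd])
  have hzsmul : ∀ w : Ω, z • z • w = w := fun w => by rw [← mul_smul, hzz, one_smul]
  set F := {w : Ω | z • w = w} with hF
  have hF3 : ∀ s : Finset Ω, ↑s ⊆ F → s.card < 4 := by
    intro s hs
    by_contra hlt
    push Not at hlt
    obtain ⟨t, hts, htc⟩ := Finset.exists_subset_card_eq hlt
    obtain ⟨e⟩ : Nonempty (Fin 4 ↪ t) := ⟨((Finset.equivFinOfCardEq htc).symm).toEmbedding⟩
    let y := e.trans (Function.Embedding.subtype _)
    have hy : ∀ i, z • y i = y i := fun i => hs (hts (e i).2)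
    have : z = 1 := eq_one_of_four hsharp (a := y 0) (b := y 1) (c := y 2) (d := y 3)
      (by simp) (by simp) (by simp) (by simp) (by simp) (by simp) (hy 0) (hy 1) (hy 2) (hy 3)
    rw [this, one_smul] at hz1
    exact hp hz1
  have hFfin : F.Finite := by
    by_contra hinf
    obtain ⟨s, hs, hsc⟩ := Set.Infinite.exists_subset_card_eq hinf 4
    have := hF3 s hs
    omega
  have := hFfin.to_subtype
  set f := Nat.card F with hf
  have hf2 : 2 ≤ f := by
    rw [hf, Nat.card_coe_set_eq]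
    have hsub : ({c, d} : Set Ω) ⊆ F := by
      rintro w (rfl | rfl)
      · exact hzc
      · exact hzd
    exact (Set.ncard_pair hcd).symm.le.trans (Set.ncard_le_ncard hsub hFfin)
  have hf3 : f ≤ 3 := by
    have := hF3 hFfin.toFinset (by simp)
    rw [hf, Nat.card_coe_set_eq, Set.ncard_eq_toFinset_card _ hFfin]
    omega
  -- the points outside `F ∪ {p₁, p₂}`
  set M := (F ∪ {p₁, p₂})ᶜ with hM
  have hMmem : ∀ w, w ∈ M → z • w ≠ w ∧ w ≠ p₁ ∧ w ≠ p₂ ∧ z • w ≠ p₁ ∧ z • w ≠ p₂ := by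
    intro w hw
    simp only [hM, hF, Set.mem_compl_iff, Set.mem_union, Set.mem_setOf_eq, Set.mem_insert_iff,
      Set.mem_singleton_iff, not_or] at hw
    refine ⟨hw.1, hw.2.1, hw.2.2, fun h => hw.2.2 ?_, fun h => hw.2.1 ?_⟩
    · rw [← hzsmul w, h, hz1]
    · rw [← hzsmul w, h, hz2]
  let C := Subgroup.centralizer ({z} : Set G) ⊓ stabilizer G p₁
  have hCz : ∀ g : C, ∀ w : Ω, z • (g : G) • w = (g : G) • z • w := fun g w => by
    rw [← mul_smul, ← mul_smul, Subgroup.mem_centralizer_singleton_iff.1 g.2.1]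
  have hC2 : ∀ g : C, (g : G) • p₂ = p₂ := fun g => by
    rw [← hz1, ← hCz, (show (g : G) • p₁ = p₁ from g.2.2)]
  let res : C →* Equiv.Perm F :=
    { toFun := fun g =>
        { toFun := fun w => ⟨(g : G) • (w : Ω), by
            show z • (g : G) • (w : Ω) = _
            rw [hCz, w.2]⟩
          invFun := fun w => ⟨(g⁻¹ : C) • (w : Ω), by
            show z • ((g⁻¹ : C) : G) • (w : Ω) = _
            rw [hCz, w.2]; rfl⟩
          left_inv := fun w => Subtype.ext (inv_smul_smul (g : G) (w : Ω))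
          right_inv := fun w => Subtype.ext (smul_inv_smul (g : G) (w : Ω)) }
      map_one' := by ext w; exact one_smul G (w : Ω)
      map_mul' := fun g g' => by ext w; exact mul_smul (g : G) (g' : G) (w : Ω) }
  have hres : Function.Injective res := by
    rw [injective_iff_map_eq_one]
    intro g hg
    have hw : ∀ w (hw : z • w = w), (g : G) • w = w := fun w hw =>
      congrArg Subtype.val (Equiv.Perm.ext_iff.1 hg ⟨w, hw⟩)
    exact Subtype.ext (eq_one_of_four hsharp hp hp1c hp1d hp2c hp2d hcd g.2.2 (hC2 g) (hw c hzc)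
      (hw d hzd))
  have : Finite C := Finite.of_injective res hres
  have hCdvd : Nat.card C ∣ f.factorial := by
    have h := Subgroup.card_dvd_of_injective res hres
    rwa [Nat.card_perm] at h
  have hMfin : M.Finite ∧ (M = ∅ ∨ Nat.card M = Nat.card C) := by
    by_cases hM0 : M = ∅
    · exact ⟨hM0 ▸ Set.finite_empty, Or.inl hM0⟩
    obtain ⟨p₀, hp₀⟩ := Set.nonempty_iff_ne_empty.2 hM0
    obtain ⟨a0, a1, a2, a3, a4⟩ := hMmem p₀ hp₀
    have hmapsto : ∀ g : C, (g : G) • p₀ ∈ M := by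
      intro g
      simp only [hM, hF, Set.mem_compl_iff, Set.mem_union, Set.mem_setOf_eq, Set.mem_insert_iff,
        Set.mem_singleton_iff, not_or]
      refine ⟨fun h => a0 ?_, fun h => a1 ?_, fun h => a2 ?_⟩
      · rw [hCz] at h; exact MulAction.injective (g : G) h
      · exact MulAction.injective (g : G) (h.trans (g.2.2 : (g : G) • p₁ = p₁).symm)
      · exact MulAction.injective (g : G) (h.trans (hC2 g).symm)
    let φ : C → M := fun g => ⟨(g : G) • p₀, hmapsto g⟩
    have hφ : Function.Bijective φ := by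
      constructor
      · intro g g' h
        have h0 : (g : G) • p₀ = (g' : G) • p₀ := congrArg Subtype.val h
        have h1 : (g : G) • z • p₀ = (g' : G) • z • p₀ := by rw [← hCz, ← hCz, h0]
        refine Subtype.ext (inv_mul_eq_one.1 (eq_one_of_four hsharp (g := (g : G)⁻¹ * g') hp a1.symm
          a3.symm a2.symm a4.symm (Ne.symm a0) ?_ ?_ ?_ ?_))
        · rw [mul_smul, show (g' : G) • p₁ = p₁ from g'.2.2, inv_smul_eq_iff,
            show (g : G) • p₁ = p₁ from g.2.2]
        · rw [mul_smul, hC2 g', inv_smul_eq_iff, hC2 g]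
        · rw [mul_smul, ← h0, inv_smul_smul]
        · rw [mul_smul, ← h1, inv_smul_smul]
      · rintro ⟨q, hq⟩
        obtain ⟨b0, b1, b2, b3, b4⟩ := hMmem q hq
        obtain ⟨g, g1, g2, g0, gz⟩ := exists_four h4 hp a1.symm a3.symm a2.symm a4.symm (Ne.symm a0)
          (a' := p₁) (b' := p₂) (c' := q) (d' := z • q) hp b1.symm b3.symm b2.symm b4.symm
          (Ne.symm b0)
        have hcomm : g⁻¹ * z⁻¹ * g * z = 1 := by
          refine eq_one_of_four hsharp hp a1.symm a3.symm a2.symm a4.symm (Ne.symm a0) ?_ ?_ ?_ ?_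
          · rw [mul_smul, mul_smul, mul_smul, hz1, g2, inv_smul_eq_iff.2 hz1.symm, inv_smul_eq_iff,
              g1]
          · rw [mul_smul, mul_smul, mul_smul, hz2, g1, inv_smul_eq_iff.2 hz2.symm, inv_smul_eq_iff,
              g2]
          · rw [mul_smul, mul_smul, mul_smul, gz, inv_smul_smul, inv_smul_eq_iff, g0]
          · rw [mul_smul, mul_smul, mul_smul, hzsmul, g0,
              show z⁻¹ • q = z • q by rw [inv_smul_eq_iff, hzsmul], inv_smul_eq_iff, gz]
        refine ⟨⟨g, Subgroup.mem_centralizer_singleton_iff.2 ?_, g1⟩, Subtype.ext g0⟩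
        calc g * z = z * (g * (g⁻¹ * z⁻¹ * g * z)) := by group
          _ = z * g := by rw [hcomm, mul_one]
    exact ⟨Set.finite_coe_iff.1 (Finite.of_surjective φ hφ.2),
      Or.inr (Nat.card_eq_of_bijective φ hφ).symm⟩
  have huniv : (Set.univ : Set Ω) = (F ∪ {p₁, p₂}) ∪ M := (Set.union_compl_self _).symm
  have hΩ : Finite Ω := Set.finite_univ_iff.1
    (huniv ▸ (hFfin.union (Set.toFinite _)).union hMfin.1)
  have hcard : Nat.card Ω = f + 2 + Nat.card M := by
    rw [← Nat.card_univ, Nat.card_coe_set_eq, huniv, Set.ncard_union_eq disjoint_compl_right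
      (Set.toFinite _) hMfin.1, Set.ncard_union_eq ?_ hFfin (Set.toFinite _), Set.ncard_pair hp,
      hf, Nat.card_coe_set_eq, Nat.card_coe_set_eq]
    rw [Set.disjoint_left]
    rintro w (hw : z • w = w) (rfl | rfl)
    · exact hp (hw.symm.trans hz1)
    · exact hp (hz2.symm.trans hw)
  refine ⟨hΩ, f, hf2, hf3, ?_, ?_⟩
  · have := Fintype.ofFinite Ω
    let σ : Function.End Ω := fun w => z • w
    have hinv : σ ^ 2 ^ 1 = 1 := by
      funext w; exact hzsmul w
    have h := Equiv.Perm.card_fixedPoints_modEq (α := Ω) (p := 2) hinv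
    rw [← Nat.card_eq_fintype_card, ← Nat.card_eq_fintype_card] at h
    exact h
  · rcases hMfin.2 with h | h
    · left; rw [hcard, h]; simp
    · right; rw [hcard, Nat.add_sub_cancel_left, h]; exact hCdvd

/-- The bound of Tits. -/
theorem bound (hne : Nonempty (Fin 4 ↪ Ω)) :
    Finite Ω ∧ Nat.card Ω ≤ 11 ∧ (Even (Nat.card Ω) → Nat.card Ω ≤ 6) := by
  obtain ⟨hfin, f, h2, h3, hpar, hd⟩ := core h4 hsharp hne
  refine ⟨hfin, ?_, fun he => ?_⟩
  · rcases hd with hd | hd
    · omega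
    · have := Nat.le_of_dvd (Nat.factorial_pos _) hd
      interval_cases f <;> simp [Nat.factorial] at this <;> omega
  · rw [Nat.even_iff] at he
    rcases hd with hd | hd
    · omega
    · have := Nat.le_of_dvd (Nat.factorial_pos _) hd
      interval_cases f <;> simp [Nat.factorial] at this <;> omega

end Cfsg.Agent.Perm.SharplyFour
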