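import Cfsg.Agent.Lib.Perm.NormalSubgroup
import Cfsg.Agent.Lib.Perm.ThreeTransitive
import Mathlib.GroupTheory.Sylow
import Mathlib.GroupTheory.GroupAction.Quotient
import Mathlib.Data.Nat.Factorization.PrimePow

/-!
# Wagner's theorem: normal subgroups of triply transitive groups of odd degree
-/

set_option autoImplicit false
set_option linter.style.haveILetI false

namespace Cfsg.Agent.Perm

open MulAction

theorem injective_three {Y : Type*} {p q r : Y} (hpq : p ≠ q) (hpr : p ≠ r) (hqr : q ≠ r) :
    Function.Injective ![p, q, r] := by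
  intro i j h
  fin_cases i <;> fin_cases j <;> simp_all [eq_comm]

variable {G : Type*} [Group G] {X : Type*} [MulAction G X] [Finite X] [FaithfulSMul G X]

theorem wagner_odd_degree (hodd : Odd (Nat.card X)) (h3 : 3 < Nat.card X)
    (hG : IsMultiplyPretransitive G X 3) (N : Subgroup G) [hNn : N.Normal] (hN : N ≠ ⊥) :
    IsMultiplyPretransitive N X 3 := by
  classical
  haveI : Finite G := Finite.of_injective (fun g : G => (g • · : X → X))
    fun g h e => eq_of_smul_eq_smul fun x : X => congrFun e x
  have hN2 : IsMultiplyPretransitive N X 2 := by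
    rcases jordan_normal (by norm_num) h3 hG N hN with h | ⟨-, -, hsq⟩
    · exact h
    · exfalso
      haveI : IsMultiplyPretransitive G X 2 := by
        haveI := hG
        exact isMultiplyPretransitive_of_le (α := X) (m := 2) (n := 3) (by norm_num)
          h3.le
      haveI : IsPreprimitive G X := isPreprimitive_of_is_two_pretransitive inferInstance
      haveI : IsPretransitive N X := isPretransitive_of_normal_ne_bot N hN
      obtain ⟨⟨a⟩⟩ := Nat.card_pos_iff.1 (show 0 < Nat.card X by omega)
      have h2 : IsPGroup 2 N := fun x => ⟨1, by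
        rw [pow_one]; exact Subtype.ext (by simpa using hsq x x.2)⟩
      obtain ⟨z, hz⟩ := h2.nonempty_fixed_point_of_prime_not_dvd_card X
        (p := 2) (by rwa [← even_iff_two_dvd, Nat.not_even_iff_odd])
      have hsub : ∀ x : X, x = z := fun x => by
        obtain ⟨n, hn⟩ := exists_smul_eq N z x
        rw [← hn, hz n]
      have : Subsingleton X := ⟨fun x y => (hsub x).trans (hsub y).symm⟩
      have := Finite.card_le_one_iff_subsingleton.2 this
      omega
  haveI := hN2
  refine three_transitive_of_stabilizer fun a b c d hab hca hcb hda hdb => ?_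
  have h2 : ∀ {u v w z : X}, u ≠ v → w ≠ z → ∃ g : N, g • u = w ∧ g • v = z :=
    is_two_pretransitive_iff.1 hN2
  have h3' : ∀ {x y : Fin 3 → X}, Function.Injective x → Function.Injective y →
      ∃ g : G, ∀ i, g • x i = y i := by
    intro x y hx hy
    rw [MulAction.isMultiplyPretransitive_iff] at hG
    obtain ⟨g, hg⟩ := @hG ⟨x, hx⟩ ⟨y, hy⟩
    exact ⟨g, fun i => congrArg (fun e : Fin 3 ↪ X => e i) hg⟩
  set K : Subgroup N := stabilizer N a ⊓ stabilizer N b with hKdef
  have hmemK : ∀ k : N, k ∈ K ↔ k • a = a ∧ k • b = b := fun k => Iff.rfl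
  obtain ⟨P⟩ := (inferInstance : Nonempty (Sylow 2 K))
  set S : Subgroup N := (P : Subgroup K).map K.subtype with hSdef
  have hSK : S ≤ K := Subgroup.map_subtype_le _
  have hS2 : IsPGroup 2 S := P.isPGroup'.map _
  -- a 2-element normalising `S` and fixing two points fixed by `S` lies in `S`
  have key : ∀ u : N, (∀ x, x ∈ S ↔ u * x * u⁻¹ ∈ S) → IsPGroup 2 (Subgroup.zpowers u) →
      ∀ x y : X, x ≠ y → u • x = x → u • y = y → (∀ s ∈ S, s • x = x ∧ s • y = y) → u ∈ S := by
    intro u hu hu2 x y hxy hux huy hSxy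
    have hle : Subgroup.zpowers u ≤ Subgroup.normalizer (S : Set N) :=
      Subgroup.zpowers_le.2 (Subgroup.mem_normalizer_iff.2 hu)
    have hT := hS2.to_sup_of_normal_left' hu2 hle
    set T := S ⊔ Subgroup.zpowers u with hTdef
    set K' : Subgroup N := stabilizer N x ⊓ stabilizer N y with hK'def
    have hTK : T ≤ K' := sup_le (fun s hs => hSxy s hs)
      (Subgroup.zpowers_le.2 ⟨hux, huy⟩)
    obtain ⟨k, hkx, hky⟩ := h2 hab hxy
    have hcard : Nat.card K' = Nat.card K := by
      suffices hKK : K' = K.map (MulAut.conj k).toMonoidHom by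
        rw [hKK, Subgroup.card_map_of_injective (MulAut.conj k).injective]
      apply SetLike.ext
      intro w
      rw [Subgroup.mem_map]
      constructor
      · rintro ⟨hw1, hw2⟩
        have e1 : w • x = x := hw1
        have e2 : w • y = y := hw2
        refine ⟨k⁻¹ * w * k, ⟨?_, ?_⟩, by simp [mul_assoc]⟩
        · show (k⁻¹ * w * k) • a = a
          rw [mul_smul, mul_smul, hkx, e1, inv_smul_eq_iff, hkx]
        · show (k⁻¹ * w * k) • b = b
          rw [mul_smul, mul_smul, hky, e2, inv_smul_eq_iff, hky]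
      · rintro ⟨v, ⟨hv1, hv2⟩, rfl⟩
        have e1 : v • a = a := hv1
        have e2 : v • b = b := hv2
        constructor
        · show (k * v * k⁻¹) • x = x
          rw [mul_smul, mul_smul, ← hkx, inv_smul_smul, e1]
        · show (k * v * k⁻¹) • y = y
          rw [mul_smul, mul_smul, ← hky, inv_smul_smul, e2]
    obtain ⟨t, ht⟩ := hT.exists_card_eq
    have hTle : Nat.card T ≤ Nat.card S := by
      rw [hSdef, Subgroup.card_map_of_injective K.subtype_injective, P.card_eq_multiplicity, ht]
      refine Nat.pow_le_pow_right (by norm_num) ?_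
      rw [← Nat.prime_two.pow_dvd_iff_le_factorization Nat.card_pos.ne', ← ht, ← hcard]
      exact Subgroup.card_dvd_of_le hTK
    have hST : S = T := Subgroup.eq_of_le_of_card_ge le_sup_left hTle
    rw [hST]
    exact le_sup_right (a := S) (Subgroup.mem_zpowers u)
  -- an element swapping `a`, `b`, normalising `S`, of 2-power order
  obtain ⟨g, hga, hgb, hgS, hg2⟩ : ∃ g : N, g • a = b ∧ g • b = a ∧
      (∀ x, x ∈ S ↔ g * x * g⁻¹ ∈ S) ∧ IsPGroup 2 (Subgroup.zpowers g) := by
    obtain ⟨g₀, e1, e2⟩ := h2 hab hab.symm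
    have hSg : S.map (MulAut.conj g₀).toMonoidHom ≤ K := by
      rintro _ ⟨s, hs, rfl⟩
      have hsa : s • a = a := (hSK hs).1
      have hsb : s • b = b := (hSK hs).2
      constructor
      · show (g₀ * s * g₀⁻¹) • a = a
        rw [mul_smul, mul_smul, show g₀⁻¹ • a = b from by rw [inv_smul_eq_iff, e2], hsb, e2]
      · show (g₀ * s * g₀⁻¹) • b = b
        rw [mul_smul, mul_smul, show g₀⁻¹ • b = a from by rw [inv_smul_eq_iff, e1], hsa, e1]
    let Q : Sylow 2 K := Sylow.ofCard ((S.map (MulAut.conj g₀).toMonoidHom).subgroupOf K) (by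
      rw [Nat.card_congr (Subgroup.subgroupOfEquivOfLe hSg).toEquiv,
        Subgroup.card_map_of_injective (MulAut.conj g₀).injective,
        Subgroup.card_map_of_injective K.subtype_injective, P.card_eq_multiplicity])
    obtain ⟨h, hh⟩ := MulAction.exists_smul_eq K Q P
    have hQ : (Q : Subgroup K).map (MulAut.conj h).toMonoidHom = (P : Subgroup K) := by
      rw [← hh, Sylow.coe_subgroup_smul]; rfl
    have heq : (S.map (MulAut.conj g₀).toMonoidHom).map (MulAut.conj (h : N)).toMonoidHom = S := by
      have h5 : ((Q : Subgroup K).map (MulAut.conj h).toMonoidHom).map K.subtype = S := by rw [hQ]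
      have e : (K.subtype.comp (MulAut.conj h).toMonoidHom) =
          (MulAut.conj (h : N)).toMonoidHom.comp K.subtype := rfl
      rw [Subgroup.map_map, e, ← Subgroup.map_map] at h5
      rwa [show (Q : Subgroup K).map K.subtype = S.map (MulAut.conj g₀).toMonoidHom from
        Subgroup.map_subgroupOf_eq_of_le hSg] at h5
    set g₁ : N := (h : N) * g₀ with hg₁
    have hnorm : g₁ ∈ Subgroup.normalizer (S : Set N) := by
      rw [Subgroup.mem_normalizer_iff]
      intro x
      rw [Subgroup.map_map] at heq
      constructor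
      · intro hx
        rw [← heq]
        exact ⟨x, hx, by simp [hg₁, mul_assoc]⟩
      · intro hx
        rw [← heq] at hx
        obtain ⟨y, hy, hyx⟩ := hx
        have : y = x := by
          apply (MulAut.conj g₁).injective
          simpa [hg₁, mul_assoc] using hyx
        rwa [← this]
    have f1 : g₁ • a = b := by rw [hg₁, mul_smul, e1]; exact h.2.2
    have f2 : g₁ • b = a := by rw [hg₁, mul_smul, e2]; exact h.2.1
    have hfix : (g₁ * g₁) • a = a ∧ (g₁ * g₁) • b = b := by
      constructor
      · rw [mul_smul, f1, f2]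
      · rw [mul_smul, f2, f1]
    obtain ⟨e, m, hm, hord⟩ := Nat.exists_eq_pow_mul_and_not_dvd
      (orderOf_pos g₁).ne' 2 (by norm_num)
    obtain ⟨k, hk⟩ : Odd m := Nat.odd_iff.2 (by omega)
    have hswap : g₁ ^ m • a = b ∧ g₁ ^ m • b = a := by
      have hpow : ∀ (n : ℕ) (z : X), (g₁ * g₁) • z = z → (g₁ * g₁) ^ n • z = z := fun n z hz => by
        induction n with
        | zero => simp
        | succ n ih => rw [pow_succ, mul_smul, hz]; exact ih
      have hk1 := hpow k
      constructor
      · rw [hk, pow_succ, pow_mul, mul_smul, f1, pow_two, hk1 b hfix.2]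
      · rw [hk, pow_succ, pow_mul, mul_smul, f2, pow_two, hk1 a hfix.1]
    refine ⟨g₁ ^ m, hswap.1, hswap.2, Subgroup.mem_normalizer_iff.1 (pow_mem hnorm m), ?_⟩
    refine IsPGroup.of_card (n := e) ?_
    rw [Nat.card_zpowers, orderOf_pow' _ (by omega), hord, Nat.gcd_mul_left_left,
      Nat.mul_div_cancel _ (by omega)]
  have hgnotS : g ∉ S := fun h => hab (((hSK h).1 : g • a = a).symm.trans hga)
  -- a swap fixing any given third point
  have hswap : ∀ x : X, x ≠ a → x ≠ b → ∃ s : N, s • a = b ∧ s • b = a ∧ s • x = x := by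
    intro x hxa hxb
    obtain ⟨z, hz⟩ := hg2.nonempty_fixed_point_of_prime_not_dvd_card X
      (p := 2) (by rwa [← even_iff_two_dvd, Nat.not_even_iff_odd])
    have hgz : g • z = z := hz ⟨g, Subgroup.mem_zpowers g⟩
    have hza : z ≠ a := fun e => hab (by rw [← hga, ← e, hgz])
    have hzb : z ≠ b := fun e => hab (by rw [← hgb, ← e, hgz])
    obtain ⟨k, hk⟩ := h3' (x := ![a, b, z]) (y := ![a, b, x])
      (injective_three hab hza.symm hzb.symm) (injective_three hab hxa.symm hxb.symm)
    have k0 : k • a = a := hk 0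
    have k1 : k • b = b := hk 1
    have k2 : k • z = x := hk 2
    refine ⟨⟨k * (g : G) * k⁻¹, hNn.conj_mem _ g.2 k⟩, ?_, ?_, ?_⟩
    · show (k * (g : G) * k⁻¹) • a = b
      rw [mul_smul, mul_smul, inv_smul_eq_iff.2 k0.symm, show (g : G) • a = b from hga, k1]
    · show (k * (g : G) * k⁻¹) • b = a
      rw [mul_smul, mul_smul, inv_smul_eq_iff.2 k1.symm, show (g : G) • b = a from hgb, k0]
    · show (k * (g : G) * k⁻¹) • x = x
      rw [mul_smul, mul_smul, inv_smul_eq_iff.2 k2.symm, show (g : G) • z = z from hgz, k2]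
  have hgK : ∀ k ∈ K, g * k * g⁻¹ ∈ K := by
    intro k hk
    constructor
    · show (g * k * g⁻¹) • a = a
      rw [mul_smul, mul_smul, inv_smul_eq_iff.2 hgb.symm, show k • b = b from hk.2, hgb]
    · show (g * k * g⁻¹) • b = b
      rw [mul_smul, mul_smul, inv_smul_eq_iff.2 hga.symm, show k • a = a from hk.1, hga]
  -- orbits of `K` outside `{a, b}` have odd size
  have hodd' : ∀ x : X, x ≠ a → x ≠ b → ¬ 2 ∣ Nat.card (orbit K x) := by
    intro x hxa hxb hdvd
    let Y := {y : X // y ≠ a ∧ y ≠ b}
    letI : MulAction K Y :=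
      { smul := fun k y => ⟨(k : N) • y.1,
          fun e => y.2.1 (smul_left_cancel (k : N) (e.trans k.2.1.symm)),
          fun e => y.2.2 (smul_left_cancel (k : N) (e.trans k.2.2.symm))⟩
        one_smul := fun y => Subtype.ext (one_smul N y.1)
        mul_smul := fun k k' y => Subtype.ext (mul_smul (k : N) (k' : N) y.1) }
    have heq : ∀ y : Y, Nat.card (orbit K y) = Nat.card (orbit K x) := by
      intro y
      obtain ⟨t, ht⟩ := h3' (x := ![a, b, x]) (y := ![a, b, y.1])
        (injective_three hab hxa.symm hxb.symm) (injective_three hab y.2.1.symm y.2.2.symm)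
      have t0 : t • a = a := ht 0
      have t1 : t • b = b := ht 1
      have t2 : t • x = y.1 := ht 2
      have himg : Subtype.val '' (orbit K y) = (fun z : X => t • z) '' orbit K x := by
        ext w
        constructor
        · rintro ⟨_, ⟨k, rfl⟩, rfl⟩
          let k' : N := ⟨t⁻¹ * ((k : N) : G) * t, by simpa using hNn.conj_mem _ (k : N).2 t⁻¹⟩
          have hk' : k' ∈ K := by
            constructor
            · show (t⁻¹ * ((k : N) : G) * t) • a = a
              rw [mul_smul, mul_smul, t0, show ((k : N) : G) • a = a from k.2.1,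
                inv_smul_eq_iff, t0]
            · show (t⁻¹ * ((k : N) : G) * t) • b = b
              rw [mul_smul, mul_smul, t1, show ((k : N) : G) • b = b from k.2.2,
                inv_smul_eq_iff, t1]
          refine ⟨_, ⟨⟨k', hk'⟩, rfl⟩, ?_⟩
          show t • (t⁻¹ * ((k : N) : G) * t) • x = ((k : N) : G) • y.1
          rw [mul_smul, mul_smul, smul_inv_smul, t2]
        · rintro ⟨_, ⟨k, rfl⟩, rfl⟩
          let k' : N := ⟨t * ((k : N) : G) * t⁻¹, hNn.conj_mem _ (k : N).2 t⟩
          have hk' : k' ∈ K := by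
            constructor
            · show (t * ((k : N) : G) * t⁻¹) • a = a
              rw [mul_smul, mul_smul, inv_smul_eq_iff.2 t0.symm,
                show ((k : N) : G) • a = a from k.2.1, t0]
            · show (t * ((k : N) : G) * t⁻¹) • b = b
              rw [mul_smul, mul_smul, inv_smul_eq_iff.2 t1.symm,
                show ((k : N) : G) • b = b from k.2.2, t1]
          refine ⟨_, ⟨⟨k', hk'⟩, rfl⟩, ?_⟩
          show (t * ((k : N) : G) * t⁻¹) • y.1 = t • ((k : N) : G) • x
          rw [mul_smul, mul_smul, inv_smul_eq_iff.2 t2.symm]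
      calc Nat.card (orbit K y) = Nat.card (Subtype.val '' (orbit K y) : Set X) :=
            (Nat.card_image_of_injective Subtype.val_injective _).symm
        _ = Nat.card ((fun z : X => t • z) '' orbit K x : Set X) := by rw [himg]
        _ = _ := Nat.card_image_of_injective (MulAction.injective t) _
    have hY : Nat.card Y = Nat.card X - 2 := by
      haveI := Fintype.ofFinite X
      have : Nat.card {y : X // y ∈ ({a, b} : Finset X)ᶜ} = Nat.card X - 2 := by
        rw [Nat.card_eq_finsetCard, Finset.card_compl, Finset.card_pair hab, Nat.card_eq_fintype_card]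
      rw [← this]
      exact Nat.card_congr (Equiv.subtypeEquivRight fun y => by simp)
    have hsum := Nat.card_congr (MulAction.selfEquivSigmaOrbits K Y)
    haveI := Fintype.ofFinite (Quotient (MulAction.orbitRel K Y))
    rw [Nat.card_sigma] at hsum
    simp only [heq, Finset.sum_const, smul_eq_mul] at hsum
    have : 2 ∣ Nat.card Y := hsum ▸ dvd_mul_of_dvd_right hdvd _
    rw [hY] at this
    obtain ⟨r, hr⟩ := hodd
    omega
  -- a point fixed by `S` and `g` in every orbit
  have hfixed : ∀ x : X, x ≠ a → x ≠ b →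
      ∃ y ∈ orbit K x, g • y = y ∧ ∀ s ∈ S, s • y = y := by
    intro x hxa hxb
    obtain ⟨s, s1, s2, s3⟩ := hswap x hxa hxb
    have hgs : g * s⁻¹ ∈ K := by
      constructor
      · show (g * s⁻¹) • a = a
        rw [mul_smul, inv_smul_eq_iff.2 s2.symm, hgb]
      · show (g * s⁻¹) • b = b
        rw [mul_smul, inv_smul_eq_iff.2 s1.symm, hga]
    have hT := hS2.to_sup_of_normal_left' hg2
      (Subgroup.zpowers_le.2 (Subgroup.mem_normalizer_iff.2 hgS))
    set T := S ⊔ Subgroup.zpowers g with hTdef
    have hinv : ∀ t ∈ T, ∀ y ∈ orbit K x, t • y ∈ orbit K x := by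
      let R : Subgroup N :=
        { carrier := {t | ∀ y, y ∈ orbit K x ↔ t • y ∈ orbit K x}
          one_mem' := fun y => by simp
          mul_mem' := fun {u v} hu hv y => by rw [mul_smul, ← hu, ← hv]
          inv_mem' := fun {u} hu y => by rw [hu (u⁻¹ • y), smul_inv_smul] }
      have hR : T ≤ R := by
        refine sup_le (fun t ht y => ?_) (Subgroup.zpowers_le.2 fun y => ?_)
        · constructor
          · rintro ⟨k, rfl⟩
            exact ⟨⟨t, hSK ht⟩ * k, mul_smul (⟨t, hSK ht⟩ : K) k x⟩
          · rintro ⟨k, hk⟩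
            exact ⟨(⟨t, hSK ht⟩ : K)⁻¹ * k, by
              show ((t : N)⁻¹ * (k : N)) • x = y
              rw [mul_smul, show (k : N) • x = t • y from hk, inv_smul_smul]⟩
        · constructor
          · rintro ⟨k, rfl⟩
            refine ⟨⟨g * k * g⁻¹, hgK k k.2⟩ * ⟨g * s⁻¹, hgs⟩, ?_⟩
            show (g * (k : N) * g⁻¹ * (g * s⁻¹)) • x = g • (k : N) • x
            rw [mul_smul, mul_smul, mul_smul, mul_smul, inv_smul_eq_iff.2 s3.symm, inv_smul_smul]
          · rintro ⟨k, hk⟩
            have hk' : (k : N) • x = g • y := hk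
            have hgi : g⁻¹ * (k : N) * s ∈ K := by
              constructor
              · show (g⁻¹ * (k : N) * s) • a = a
                rw [mul_smul, mul_smul, s1, show (k : N) • b = b from k.2.2, inv_smul_eq_iff, hga]
              · show (g⁻¹ * (k : N) * s) • b = b
                rw [mul_smul, mul_smul, s2, show (k : N) • a = a from k.2.1, inv_smul_eq_iff, hgb]
            refine ⟨⟨g⁻¹ * (k : N) * s, hgi⟩, ?_⟩
            show (g⁻¹ * (k : N) * s) • x = y
            rw [mul_smul, mul_smul, s3, hk', inv_smul_smul]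
      exact fun t ht y hy => (hR ht y).1 hy
    let O : SubMulAction T X :=
      { carrier := orbit K x
        smul_mem' := fun t y hy => hinv t t.2 y hy }
    have hO : ¬ 2 ∣ Nat.card O := hodd' x hxa hxb
    obtain ⟨y, hy⟩ := hT.nonempty_fixed_point_of_prime_not_dvd_card O (p := 2) hO
    refine ⟨y.1, y.2, ?_, fun t ht => ?_⟩
    · exact congrArg Subtype.val (hy ⟨g, le_sup_right (a := S) (Subgroup.mem_zpowers g)⟩)
    · exact congrArg Subtype.val (hy ⟨t, le_sup_left (b := Subgroup.zpowers g) ht⟩)
  obtain ⟨y, hy, hgy, hSy⟩ := hfixed c hca hcb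
  obtain ⟨z, hz, hgz, hSz⟩ := hfixed d hda hdb
  have hyz : y = z := by
    by_contra hne
    exact hgnotS (key g hgS hg2 y z hne hgy hgz fun s hs => ⟨hSy s hs, hSz s hs⟩)
  obtain ⟨k₁, rfl⟩ := hy
  obtain ⟨k₂, rfl⟩ := hz
  refine ⟨((k₂⁻¹ * k₁ : K) : N), (k₂⁻¹ * k₁).2.1, (k₂⁻¹ * k₁).2.2, ?_⟩
  show (k₂⁻¹ * k₁) • c = d
  rw [mul_smul, show k₁ • c = k₂ • d from hyz, inv_smul_smul]

end Cfsg.Agent.Perm
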